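import Mathlib
import Cfsg.Prelude.Def_Characters
import Cfsg.Agent.Lib.CT.NormOne
import Cfsg.Agent.Lib.CT.Orth
import Cfsg.Agent.Lib.CT.LinChar
import Cfsg.Agent.Lib.CT.Ops
import Cfsg.Agent.Lib.CT.Kernel

set_option autoImplicit false
set_option linter.unusedSimpArgs false
set_option linter.unusedSectionVars false
set_option linter.unusedVariables false
set_option linter.style.haveILetI false

namespace Cfsg.Agent.H41

open Cfsg Cfsg.Agent.Lib.CT Cfsg.Agent.Lib.CT.Wedderburn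
open scoped ComplexConjugate

section abrestr

universe u

variable {A : Type u} [Group A]

/-- Irreducible characters of a finite commutative group are linear. -/
theorem irr_linear_of_comm [Finite A] (hab : ∀ a b : A, a * b = b * a) {ψ : A → ℂ}
    (hψ : IsIrrCharacter A ψ) : ψ 1 = 1 := by
  classical
  haveI := Fintype.ofFinite A
  obtain ⟨n, hn⟩ := char_exists_apply_one (isCharacter_of_irr hψ)
  have hnorm : ∀ a : A, ψ a * conj (ψ a) = (n : ℂ) ^ 2 := by
    intro a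
    have h1 := Kernel.norm_eq_of_mem_center hψ (z := a)
      (by rw [Subgroup.mem_center_iff]; intro g; exact hab g a)
    rw [hn] at h1
    simp only [Complex.natCast_re] at h1
    rw [Complex.mul_conj, Complex.normSq_eq_norm_sq, h1]
    push_cast
    ring
  have h1 := NormOne.inner_self_eq_one_of_irr hψ
  unfold classInner at h1
  simp_rw [hnorm] at h1
  rw [Finset.sum_const, Finset.card_univ, nsmul_eq_mul, Nat.card_eq_fintype_card] at h1
  have hA : (Fintype.card A : ℂ) ≠ 0 := by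
    have : Fintype.card A ≠ 0 := Fintype.card_ne_zero
    exact_mod_cast this
  have h2 : (n : ℂ) ^ 2 = 1 := by
    field_simp at h1
    linear_combination h1
  have h3 : n ^ 2 = 1 := by exact_mod_cast h2
  have h4 : n = 1 := by
    rcases Nat.eq_zero_or_pos n with h | h
    · subst h; simp at h3
    · nlinarith
  rw [hn, h4]
  simp

variable [Fintype A]

/-- Common analysis of a character of a finite commutative group with a central involution. -/
theorem ab_common (hab : ∀ a b : A, a * b = b * a) (z : A) (hz2 : z * z = 1) (hz1 : z ≠ 1)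
    (X : A → ℂ) (hX : IsCharacter A X) (ω : ℂ) (hω : ω = 1 ∨ ω = -1)
    (hXz : ∀ a, X (z * a) = ω * X a) (hXinv : ∀ a, X a⁻¹ = X a)
    [Fintype (IrrCharacter A)] [DecidableEq (IrrCharacter A)] :
    ∃ (E : Finset (IrrCharacter A)) (m : IrrCharacter A → ℕ),
      (∀ ψ : IrrCharacter A, classInner X ψ.1 = m ψ) ∧ (∀ ψ ∈ E, ψ.1 z = ω) ∧
      X 1 = ((∑ ψ ∈ E, m ψ : ℕ) : ℂ) ∧ classInner X X = ((∑ ψ ∈ E, m ψ * m ψ : ℕ) : ℂ) ∧
      2 * E.card = Nat.card A ∧
      (∀ a, a ≠ 1 → a ≠ z → X a = ∑ ψ ∈ E, (m ψ : ℂ) * ψ.1 a) ∧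
      (∀ a, a ≠ 1 → a ≠ z → ∑ ψ ∈ E, ψ.1 a = 0) ∧
      (∀ ψ ∈ E, ∃ ψ' ∈ E, (∀ a, ψ'.1 a = conj (ψ.1 a)) ∧ m ψ' = m ψ) := by
  classical
  obtain ⟨m, hm, hexp⟩ := NormOne.exists_mult_sum hX
  have hlin : ∀ ψ : IrrCharacter A, ψ.1 1 = 1 := fun ψ => irr_linear_of_comm hab ψ.2
  have hmul : ∀ (ψ : IrrCharacter A) (a b : A), ψ.1 (a * b) = ψ.1 a * ψ.1 b := fun ψ =>
    LinChar.linear_mul (isCharacter_of_irr ψ.2) (hlin ψ)
  have hψz : ∀ ψ : IrrCharacter A, ψ.1 z = 1 ∨ ψ.1 z = -1 := by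
    intro ψ
    have h1 : ψ.1 z * ψ.1 z = 1 := by rw [← hmul, hz2, hlin]
    have h : (ψ.1 z - 1) * (ψ.1 z + 1) = 0 := by linear_combination h1
    rcases mul_eq_zero.1 h with h | h
    · left; linear_combination h
    · right; linear_combination h
  have hωω : ω * ω = 1 := by rcases hω with rfl | rfl <;> norm_num
  have hconjω : conj ω = ω := by rcases hω with rfl | rfl <;> simp
  have hsupp : ∀ ψ : IrrCharacter A, m ψ ≠ 0 → ψ.1 z = ω := by
    intro ψ hmψ
    have h1 : classInner X ψ.1 = ω * conj (ψ.1 z) * classInner X ψ.1 := by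
      unfold classInner
      have e1 : ∑ a : A, X a * conj (ψ.1 a) = ∑ a : A, X (z * a) * conj (ψ.1 (z * a)) :=
        (Equiv.sum_comp (Equiv.mulLeft z) (fun a => X a * conj (ψ.1 a))).symm
      have e2 : ∑ a : A, X (z * a) * conj (ψ.1 (z * a)) =
          ω * conj (ψ.1 z) * ∑ a : A, X a * conj (ψ.1 a) := by
        rw [Finset.mul_sum]
        apply Finset.sum_congr rfl
        intro a _
        rw [hXz, hmul, map_mul]
        ring
      nth_rewrite 1 [e1]
      rw [e2]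
      ring
    rw [hm ψ] at h1
    have hm0 : (m ψ : ℂ) ≠ 0 := by exact_mod_cast hmψ
    have h2 : ω * conj (ψ.1 z) = 1 := by
      have h3 : (m ψ : ℂ) * (ω * conj (ψ.1 z) - 1) = 0 := by linear_combination -h1
      rcases mul_eq_zero.1 h3 with h4 | h4
      · exact absurd h4 hm0
      · linear_combination h4
    rcases hψz ψ with h3 | h3
    · rw [h3] at h2 ⊢
      simp only [map_one, mul_one] at h2
      exact h2.symm
    · rw [h3] at h2 ⊢
      simp only [map_neg, map_one, mul_neg, mul_one] at h2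
      linear_combination h2
  have hcol : ∀ a : A, a ≠ 1 → ∑ ψ : IrrCharacter A, ψ.1 a = 0 := by
    intro a ha
    have := Orth.sum_apply_one_mul_of_ne_sum a ha
    simpa [hlin] using this
  have hcol1 : ∑ ψ : IrrCharacter A, ψ.1 1 = (Nat.card A : ℂ) := by
    have := Orth.sum_apply_one_sq_sum (G := A)
    simpa [hlin] using this
  have hind : ∀ ψ : IrrCharacter A,
      (if ψ.1 z = ω then (1 : ℂ) else 0) = (1 + ω * ψ.1 z) / 2 := by
    intro ψ
    by_cases h : ψ.1 z = ω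
    · rw [if_pos h, h, hωω]
      norm_num
    · rw [if_neg h]
      have h' : ψ.1 z = -ω := by
        rcases hψz ψ with h1 | h1 <;> rcases hω with h2 | h2
        · exact absurd (h1.trans h2.symm) h
        · rw [h1, h2]; norm_num
        · rw [h1, h2]
        · exact absurd (h1.trans h2.symm) h
      rw [h']
      linear_combination (1 / 2 : ℂ) * hωω
  have hsumE : ∀ a : A, ∑ ψ ∈ Finset.univ.filter (fun ψ : IrrCharacter A => ψ.1 z = ω), ψ.1 a =
      (∑ ψ : IrrCharacter A, ψ.1 a + ω * ∑ ψ : IrrCharacter A, ψ.1 (z * a)) / 2 := by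
    intro a
    rw [Finset.sum_filter, Finset.mul_sum, ← Finset.sum_add_distrib, Finset.sum_div]
    apply Finset.sum_congr rfl
    intro ψ _
    have e : (if ψ.1 z = ω then ψ.1 a else 0) = (if ψ.1 z = ω then (1 : ℂ) else 0) * ψ.1 a := by
      split_ifs <;> simp
    rw [e, hind ψ, hmul]
    ring
  have hzero : ∀ ψ : IrrCharacter A,
      ψ ∉ Finset.univ.filter (fun ψ : IrrCharacter A => ψ.1 z = ω) → m ψ = 0 := by
    intro ψ hψ
    by_contra h
    exact hψ (Finset.mem_filter.2 ⟨Finset.mem_univ _, hsupp ψ h⟩)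
  have hXa : ∀ a : A, X a = ∑ ψ ∈ Finset.univ.filter (fun ψ : IrrCharacter A => ψ.1 z = ω),
      (m ψ : ℂ) * ψ.1 a := by
    intro a
    have h1 := congrFun hexp a
    rw [Finset.sum_apply] at h1
    simp only [Pi.smul_apply, smul_eq_mul] at h1
    rw [h1]
    symm
    apply Finset.sum_subset (Finset.subset_univ _)
    intro ψ _ hψ
    rw [hzero ψ hψ]
    simp
  refine ⟨Finset.univ.filter (fun ψ : IrrCharacter A => ψ.1 z = ω), m, hm, ?_, ?_, ?_, ?_, ?_, ?_,
    ?_⟩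
  · intro ψ hψ
    exact (Finset.mem_filter.1 hψ).2
  · rw [hXa 1]
    push_cast
    apply Finset.sum_congr rfl
    intro ψ _
    rw [hlin, mul_one]
  · rw [NormOne.classInner_self_eq_sum m hm hexp]
    congr 1
    symm
    apply Finset.sum_subset (Finset.subset_univ _)
    intro ψ _ hψ
    simp [hzero ψ hψ]
  · have h1 := hsumE 1
    rw [mul_one, hcol1, hcol z hz1, mul_zero, add_zero] at h1
    simp only [hlin, Finset.sum_const, nsmul_eq_mul, mul_one] at h1
    have h2 : ((2 * (Finset.univ.filter (fun ψ : IrrCharacter A => ψ.1 z = ω)).card : ℕ) : ℂ) =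
        ((Nat.card A : ℕ) : ℂ) := by
      push_cast
      linear_combination 2 * h1
    exact_mod_cast h2
  · intro a _ _
    exact hXa a
  · intro a ha1 haz
    have hza : z * a ≠ 1 := by
      intro h
      apply haz
      have : a = z * (z * a) := by rw [← mul_assoc, hz2, one_mul]
      rw [this, h, mul_one]
    rw [hsumE a, hcol a ha1, hcol (z * a) hza]
    simp
  · intro ψ hψ
    have hψω := (Finset.mem_filter.1 hψ).2
    have hconj : ∀ a : A, ψ.1 a⁻¹ = conj (ψ.1 a) := fun a =>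
      LinChar.linear_apply_inv_eq_conj (isCharacter_of_irr ψ.2) (hlin ψ) a
    refine ⟨⟨fun a => ψ.1 a⁻¹, Ops.isIrrCharacter_inv_arg ψ.2⟩, ?_, hconj, ?_⟩
    · rw [Finset.mem_filter]
      refine ⟨Finset.mem_univ _, ?_⟩
      show ψ.1 z⁻¹ = ω
      rw [hconj, hψω, hconjω]
    · have h1 : classInner X (fun a => ψ.1 a⁻¹) = classInner X ψ.1 := by
        unfold classInner
        congr 1
        rw [← Equiv.sum_comp (Equiv.inv A)]
        apply Finset.sum_congr rfl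
        intro a _
        simp only [Equiv.inv_apply, inv_inv]
        rw [hXinv]
      have h2 := hm ⟨fun a => ψ.1 a⁻¹, Ops.isIrrCharacter_inv_arg ψ.2⟩
      simp only at h2
      rw [h1, hm ψ] at h2
      exact_mod_cast h2.symm

/-- A linear character of a cyclic group is determined by its value at a generator. -/
theorem lin_eq_of_gen (g₀ : A) (hgen : ∀ a : A, ∃ i : ℕ, a = g₀ ^ i) {ψ ψ' : A → ℂ}
    (hψ : IsCharacter A ψ) (h1 : ψ 1 = 1) (hψ' : IsCharacter A ψ') (h1' : ψ' 1 = 1)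
    (h : ψ g₀ = ψ' g₀) : ψ = ψ' := by
  funext a
  obtain ⟨i, rfl⟩ := hgen a
  rw [LinChar.linear_pow hψ h1, LinChar.linear_pow hψ' h1', h]

/-- Restriction analysis, half case. -/
theorem ab_restr_half (hab : ∀ a b : A, a * b = b * a) (g₀ : A)
    (hgen : ∀ a : A, ∃ i : ℕ, a = g₀ ^ i) (z : A) (hz2 : z * z = 1) (hz1 : z ≠ 1)
    (X : A → ℂ) (hX : IsCharacter A X) (ω : ℂ) (hω : ω = 1 ∨ ω = -1)
    (hXz : ∀ a, X (z * a) = ω * X a) (hXinv : ∀ a, X a⁻¹ = X a)
    (k : ℕ) (hN : Nat.card A = 2 * (k + 1)) (hX1 : X 1 = k) (hXX : classInner X X = k)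
    (hX0 : classInner X (fun _ => 1) = (1 + ω) / 2) :
    ∃ ψ : A → ℂ, IsCharacter A ψ ∧ ψ 1 = 1 ∧ ψ g₀ = -1 ∧
      ∀ a, a ≠ 1 → a ≠ z → X a = - ψ a := by
  classical
  haveI := finite_irrCharacter A
  haveI := Fintype.ofFinite (IrrCharacter A)
  obtain ⟨E, m, hm, hE, h1, hnorm, hcard, hXa, hsum0, hconj⟩ :=
    ab_common hab z hz2 hz1 X hX ω hω hXz hXinv
  have hlin : ∀ ψ : IrrCharacter A, ψ.1 1 = 1 := fun ψ => irr_linear_of_comm hab ψ.2
  have hs1 : ∑ ψ ∈ E, m ψ = k := by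
    rw [hX1] at h1
    exact_mod_cast h1.symm
  have hs2 : ∑ ψ ∈ E, m ψ * m ψ = k := by
    rw [hXX] at hnorm
    exact_mod_cast hnorm.symm
  have hEc : E.card = k + 1 := by omega
  have hle : ∀ ψ ∈ E, m ψ * m ψ = m ψ := by
    have := (Finset.sum_eq_sum_iff_of_le (s := E) (f := fun ψ => m ψ) (g := fun ψ => m ψ * m ψ)
      (fun ψ _ => Nat.le_mul_self (m ψ))).1 (by rw [hs1, hs2])
    intro ψ hψ
    exact (this ψ hψ).symm
  have hm01 : ∀ ψ ∈ E, m ψ = 0 ∨ m ψ = 1 := by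
    intro ψ hψ
    have := hle ψ hψ
    rcases Nat.eq_zero_or_pos (m ψ) with h | h
    · left; exact h
    · right; nlinarith
  have hS0 : (E.filter (fun ψ => m ψ = 0)).card = 1 := by
    have h3 : ∑ ψ ∈ E, (m ψ + (if m ψ = 0 then 1 else 0)) = ∑ ψ ∈ E, 1 := by
      apply Finset.sum_congr rfl
      intro ψ hψ
      rcases hm01 ψ hψ with h | h <;> simp [h]
    rw [Finset.sum_add_distrib, hs1, ← Finset.card_filter, Finset.sum_const, smul_eq_mul, mul_one,
      hEc] at h3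
    omega
  obtain ⟨ψs, hψs⟩ := Finset.card_eq_one.1 hS0
  have hψsmem : ψs ∈ E.filter (fun ψ => m ψ = 0) := by
    rw [hψs]
    exact Finset.mem_singleton_self _
  obtain ⟨hψsE, hmψs⟩ := Finset.mem_filter.1 hψsmem
  have hval : ∀ a, a ≠ 1 → a ≠ z → X a = - ψs.1 a := by
    intro a ha1 haz
    have h3 : ∑ ψ ∈ E, ((m ψ : ℂ) * ψ.1 a + (if m ψ = 0 then ψ.1 a else 0)) =
        ∑ ψ ∈ E, ψ.1 a := by
      apply Finset.sum_congr rfl
      intro ψ hψ
      rcases hm01 ψ hψ with h | h <;> simp [h]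
    rw [Finset.sum_add_distrib, ← hXa a ha1 haz, ← Finset.sum_filter, hψs, Finset.sum_singleton,
      hsum0 a ha1 haz] at h3
    linear_combination h3
  obtain ⟨ψ', hψ'E, hψ'c, hψ'm⟩ := hconj ψs hψsE
  have hψ'eq : ψ' = ψs := by
    have : ψ' ∈ E.filter (fun ψ => m ψ = 0) :=
      Finset.mem_filter.2 ⟨hψ'E, by rw [hψ'm, hmψs]⟩
    rw [hψs] at this
    exact Finset.mem_singleton.1 this
  have hreal : ∀ a, conj (ψs.1 a) = ψs.1 a := by
    intro a
    rw [← hψ'c a, hψ'eq]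
  have hsq : ψs.1 g₀ * ψs.1 g₀ = 1 := by
    have := LinChar.linear_mul_conj (isCharacter_of_irr ψs.2) (hlin ψs) g₀
    rwa [hreal] at this
  refine ⟨ψs.1, isCharacter_of_irr ψs.2, hlin ψs, ?_, hval⟩
  have h : (ψs.1 g₀ - 1) * (ψs.1 g₀ + 1) = 0 := by linear_combination hsq
  rcases mul_eq_zero.1 h with h | h
  · exfalso
    have hg1 : ψs.1 g₀ = 1 := by linear_combination h
    have htriv : ψs.1 = fun _ => 1 := by
      funext a
      obtain ⟨i, rfl⟩ := hgen a
      rw [LinChar.linear_pow (isCharacter_of_irr ψs.2) (hlin ψs), hg1, one_pow]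
    have hω1 : ω = 1 := by rw [← hE ψs hψsE, htriv]
    have := hm ψs
    rw [htriv, hX0, hω1, hmψs] at this
    norm_num at this
  · linear_combination h

/-- Restriction analysis, full case. -/
theorem ab_restr_full (hab : ∀ a b : A, a * b = b * a) (g₀ : A)
    (hgen : ∀ a : A, ∃ i : ℕ, a = g₀ ^ i) (z : A) (hz2 : z * z = 1) (hz1 : z ≠ 1)
    (X : A → ℂ) (hX : IsCharacter A X) (ω : ℂ) (hω : ω = 1 ∨ ω = -1)
    (hXz : ∀ a, X (z * a) = ω * X a) (hXinv : ∀ a, X a⁻¹ = X a)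
    (N : ℕ) (hN : Nat.card A = 2 * N) (hX1 : X 1 = 2 * (N : ℂ) - 2)
    (hXX : classInner X X = 4 * (N : ℂ) - 6)
    (hX0 : classInner X (fun _ => 1) = 1 + ω) :
    ∃ ψ : A → ℂ, IsCharacter A ψ ∧ ψ 1 = 1 ∧ (∃ a, ψ a ^ 2 ≠ 1) ∧
      ∀ a, a ≠ 1 → a ≠ z → X a = -(ψ a + (ψ a)⁻¹) := by
  classical
  haveI := finite_irrCharacter A
  haveI := Fintype.ofFinite (IrrCharacter A)
  obtain ⟨E, m, hm, hE, h1, hnorm, hcard, hXa, hsum0, hconj⟩ :=
    ab_common hab z hz2 hz1 X hX ω hω hXz hXinv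
  have hlin : ∀ ψ : IrrCharacter A, ψ.1 1 = 1 := fun ψ => irr_linear_of_comm hab ψ.2
  have hEc : E.card = N := by omega
  have hs1 : ∑ ψ ∈ E, m ψ + 2 = 2 * N := by
    rw [hX1] at h1
    have : ((∑ ψ ∈ E, m ψ + 2 : ℕ) : ℂ) = ((2 * N : ℕ) : ℂ) := by
      push_cast
      push_cast at h1
      linear_combination -h1
    exact_mod_cast this
  have hs2 : ∑ ψ ∈ E, m ψ * m ψ + 6 = 4 * N := by
    rw [hXX] at hnorm
    have : ((∑ ψ ∈ E, m ψ * m ψ + 6 : ℕ) : ℂ) = ((4 * N : ℕ) : ℂ) := by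
      push_cast
      push_cast at hnorm
      linear_combination -hnorm
    exact_mod_cast this
  have hz : ∑ ψ ∈ E, ((m ψ : ℤ) - 1) * ((m ψ : ℤ) - 2) = 0 := by
    have e : ∀ ψ ∈ E, ((m ψ : ℤ) - 1) * ((m ψ : ℤ) - 2) =
        ((m ψ * m ψ : ℕ) : ℤ) - 3 * (m ψ : ℤ) + 2 := by
      intro ψ _
      push_cast
      ring
    rw [Finset.sum_congr rfl e, Finset.sum_add_distrib, Finset.sum_sub_distrib, ← Nat.cast_sum,
      ← Finset.mul_sum, ← Nat.cast_sum, Finset.sum_const, hEc]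
    have hs1' : ((∑ ψ ∈ E, m ψ : ℕ) : ℤ) = 2 * N - 2 := by omega
    have hs2' : ((∑ ψ ∈ E, m ψ * m ψ : ℕ) : ℤ) = 4 * N - 6 := by omega
    rw [hs1', hs2']
    simp only [nsmul_eq_mul]
    ring
  have hnn : ∀ ψ ∈ E, 0 ≤ ((m ψ : ℤ) - 1) * ((m ψ : ℤ) - 2) := by
    intro ψ _
    rcases Nat.lt_or_ge (m ψ) 2 with h | h
    · have h' : m ψ = 0 ∨ m ψ = 1 := by omega
      rcases h' with h' | h' <;> rw [h'] <;> norm_num
    · have : (2 : ℤ) ≤ m ψ := by exact_mod_cast h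
      nlinarith
  have hm12 : ∀ ψ ∈ E, m ψ = 1 ∨ m ψ = 2 := by
    intro ψ hψ
    have := (Finset.sum_eq_zero_iff_of_nonneg hnn).1 hz ψ hψ
    rcases mul_eq_zero.1 this with h | h
    · left; omega
    · right; omega
  have hS1 : (E.filter (fun ψ => m ψ = 1)).card = 2 := by
    have h3 : ∑ ψ ∈ E, (m ψ + (if m ψ = 1 then 1 else 0)) = ∑ ψ ∈ E, 2 := by
      apply Finset.sum_congr rfl
      intro ψ hψ
      rcases hm12 ψ hψ with h | h <;> simp [h]
    rw [Finset.sum_add_distrib, ← Finset.card_filter, Finset.sum_const, smul_eq_mul, hEc] at h3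
    omega
  obtain ⟨ψ₁, ψ₂, hne, hS⟩ := Finset.card_eq_two.1 hS1
  have hmem1 : ψ₁ ∈ E.filter (fun ψ => m ψ = 1) := by rw [hS]; simp
  have hmem2 : ψ₂ ∈ E.filter (fun ψ => m ψ = 1) := by rw [hS]; simp
  obtain ⟨hψ₁E, hm1⟩ := Finset.mem_filter.1 hmem1
  obtain ⟨hψ₂E, hm2⟩ := Finset.mem_filter.1 hmem2
  have hval : ∀ a, a ≠ 1 → a ≠ z → X a = -(ψ₁.1 a + ψ₂.1 a) := by
    intro a ha1 haz
    have h3 : ∑ ψ ∈ E, ((m ψ : ℂ) * ψ.1 a + (if m ψ = 1 then ψ.1 a else 0)) =
        ∑ ψ ∈ E, 2 * ψ.1 a := by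
      apply Finset.sum_congr rfl
      intro ψ hψ
      rcases hm12 ψ hψ with h | h
      · rw [h, if_pos rfl]; push_cast; ring
      · rw [h, if_neg (by norm_num)]; push_cast; ring
    rw [Finset.sum_add_distrib, ← hXa a ha1 haz, ← Finset.sum_filter, hS, Finset.sum_pair hne,
      ← Finset.mul_sum, hsum0 a ha1 haz] at h3
    linear_combination h3
  have hsq : ∀ ψ : IrrCharacter A, (∀ a, conj (ψ.1 a) = ψ.1 a) → ψ.1 g₀ = 1 ∨ ψ.1 g₀ = -1 := by
    intro ψ hr
    have h4 := LinChar.linear_mul_conj (isCharacter_of_irr ψ.2) (hlin ψ) g₀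
    rw [hr] at h4
    have h : (ψ.1 g₀ - 1) * (ψ.1 g₀ + 1) = 0 := by linear_combination h4
    rcases mul_eq_zero.1 h with h | h
    · left; linear_combination h
    · right; linear_combination h
  have htriv : ∀ ψ : IrrCharacter A, ψ.1 g₀ = 1 → m ψ ≠ 1 := by
    intro ψ hg1 hmψ
    have htr : ψ.1 = fun _ => 1 := by
      funext a
      obtain ⟨i, rfl⟩ := hgen a
      rw [LinChar.linear_pow (isCharacter_of_irr ψ.2) (hlin ψ), hg1, one_pow]
    have := hm ψ
    rw [htr, hX0, hmψ] at this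
    rcases hω with rfl | rfl <;> norm_num at this
  obtain ⟨ψ', hψ'E, hψ'c, hψ'm⟩ := hconj ψ₁ hψ₁E
  have hψ'mem : ψ' ∈ E.filter (fun ψ => m ψ = 1) :=
    Finset.mem_filter.2 ⟨hψ'E, by rw [hψ'm, hm1]⟩
  rw [hS] at hψ'mem
  rcases Finset.mem_insert.1 hψ'mem with h | h
  · exfalso
    have hr1 : ∀ a, conj (ψ₁.1 a) = ψ₁.1 a := by
      intro a
      rw [← hψ'c a, h]
    obtain ⟨ψ'', hψ''E, hψ''c, hψ''m⟩ := hconj ψ₂ hψ₂E
    have hψ''mem : ψ'' ∈ ({ψ₁, ψ₂} : Finset (IrrCharacter A)) := by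
      rw [← hS]
      exact Finset.mem_filter.2 ⟨hψ''E, by rw [hψ''m, hm2]⟩
    have hψ''eq : ψ'' = ψ₂ := by
      rcases Finset.mem_insert.1 hψ''mem with h5 | h5
      · exfalso
        apply hne
        apply Subtype.ext
        funext a
        have e1 := hψ''c a
        rw [h5] at e1
        have e2 : conj (ψ₁.1 a) = conj (ψ₂.1 a) := by rw [hr1 a, e1]
        exact (starRingEnd ℂ).injective e2
      · exact Finset.mem_singleton.1 h5
    have hr2 : ∀ a, conj (ψ₂.1 a) = ψ₂.1 a := by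
      intro a
      rw [← hψ''c a, hψ''eq]
    rcases hsq ψ₁ hr1 with h1g | h1g
    · exact htriv ψ₁ h1g hm1
    rcases hsq ψ₂ hr2 with h2g | h2g
    · exact htriv ψ₂ h2g hm2
    · apply hne
      apply Subtype.ext
      exact lin_eq_of_gen g₀ hgen (isCharacter_of_irr ψ₁.2) (hlin ψ₁) (isCharacter_of_irr ψ₂.2)
        (hlin ψ₂) (h1g.trans h2g.symm)
  · have h' := Finset.mem_singleton.1 h
    refine ⟨ψ₁.1, isCharacter_of_irr ψ₁.2, hlin ψ₁, ?_, ?_⟩
    · by_contra hcon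
      push Not at hcon
      apply hne
      apply Subtype.ext
      funext a
      rw [← h', hψ'c a]
      have e1 := LinChar.linear_mul_conj (isCharacter_of_irr ψ₁.2) (hlin ψ₁) a
      have e2 := hcon a
      have hne0 := LinChar.linear_ne_zero (isCharacter_of_irr ψ₁.2) (hlin ψ₁) a
      apply mul_left_cancel₀ hne0
      rw [e1, ← sq, e2]
    · intro a ha1 haz
      rw [hval a ha1 haz, ← h', hψ'c a,
        ← LinChar.linear_apply_inv_eq_conj (isCharacter_of_irr ψ₁.2) (hlin ψ₁),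
        LinChar.linear_inv (isCharacter_of_irr ψ₁.2) (hlin ψ₁)]

end abrestr

end Cfsg.Agent.H41
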