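import Mathlib

set_option autoImplicit false

namespace Cfsg.Agent.H41

/-- Orders of elements of the alternating group `A_n`, via cycle types. -/
theorem mem_range_orderOf_alt_iff (n m : ℕ) :
    m ∈ Set.range (orderOf : alternatingGroup (Fin n) → ℕ) ↔
      ∃ s : Multiset ℕ, (∀ a ∈ s, 2 ≤ a) ∧ s.sum ≤ n ∧ Even (s.sum + Multiset.card s) ∧
        s.lcm = m := by
  have hne : (-1 : ℤˣ) ≠ 1 := by decide
  constructor
  · rintro ⟨⟨g, hg⟩, rfl⟩
    refine ⟨g.cycleType, fun a ha => Equiv.Perm.two_le_of_mem_cycleType ha, ?_, ?_, ?_⟩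
    · simpa using g.sum_cycleType_le
    · rw [Equiv.Perm.mem_alternatingGroup, Equiv.Perm.sign_of_cycleType] at hg
      exact (neg_one_pow_eq_one_iff_even hne).1 hg
    · rw [Equiv.Perm.lcm_cycleType]
      exact (Subgroup.orderOf_mk g hg).symm
  · rintro ⟨s, h2, hsum, hev, rfl⟩
    obtain ⟨g, hg⟩ := (Equiv.Perm.exists_with_cycleType_iff (α := Fin n)).mpr
      ⟨by simpa using hsum, h2⟩
    have hmem : g ∈ alternatingGroup (Fin n) := by
      rw [Equiv.Perm.mem_alternatingGroup, Equiv.Perm.sign_of_cycleType, hg]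
      exact (neg_one_pow_eq_one_iff_even hne).2 hev
    refine ⟨⟨g, hmem⟩, ?_⟩
    rw [Subgroup.orderOf_mk g hmem, ← Equiv.Perm.lcm_cycleType, hg]

/-- A prime dividing the lcm of a multiset divides one of its members. -/
theorem exists_mem_dvd_of_prime_dvd_lcm {p : ℕ} (hp : p.Prime) (s : Multiset ℕ) (h : p ∣ s.lcm) :
    ∃ a ∈ s, p ∣ a := by
  induction s using Multiset.induction_on with
  | empty =>
    simp at h
    exact absurd h hp.one_lt.ne'
  | cons a s ih =>
    rw [Multiset.lcm_cons] at h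
    have h' : p ∣ a * s.lcm := dvd_trans h (Nat.lcm_dvd_mul a s.lcm)
    rcases (Nat.Prime.dvd_mul hp).1 h' with h1 | h1
    · exact ⟨a, Multiset.mem_cons_self a s, h1⟩
    · obtain ⟨b, hb, hpb⟩ := ih h1
      exact ⟨b, Multiset.mem_cons_of_mem hb, hpb⟩

theorem le_sum_of_mem_nat {a : ℕ} {s : Multiset ℕ} (ha : a ∈ s) : a ≤ s.sum :=
  Multiset.le_sum_of_mem ha

theorem add_le_sum_of_mem_of_ne {a b : ℕ} {s : Multiset ℕ} (ha : a ∈ s) (hb : b ∈ s) (hab : a ≠ b) :
    a + b ≤ s.sum := by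
  obtain ⟨t, rfl⟩ := Multiset.exists_cons_of_mem ha
  have hb' : b ∈ t := by
    rcases Multiset.mem_cons.1 hb with h | h
    · exact absurd h.symm hab
    · exact h
  rw [Multiset.sum_cons]
  have := le_sum_of_mem_nat hb'
  omega

end Cfsg.Agent.H41
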