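import Mathlib

set_option autoImplicit false

namespace Cfsg.Agent.H41

theorem sum_ite_const_card {G : Type*} [Fintype G] (P : G → Prop) [DecidablePred P] (c : ℕ) :
    ∑ g : G, (if P g then c else 0) = (Finset.univ.filter P).card * c := by
  rw [Finset.sum_ite, Finset.sum_const_zero, add_zero, Finset.sum_const, smul_eq_mul]

/-- Class number of a group with an abelian subgroup `A` of index two inverted by every
element outside `A`, where `A` has a unique involution `z` ("dicyclic type"). -/
theorem card_conjClasses_dicyclic {G : Type*} [Group G] [Finite G] (A : Subgroup G)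
    (hidx : A.index = 2)
    (hinv : ∀ g, g ∉ A → ∀ a ∈ A, g * a * g⁻¹ = a⁻¹)
    (hcomm : ∀ a ∈ A, ∀ b ∈ A, a * b = b * a)
    (z : G) (hzA : z ∈ A) (hz1 : z ≠ 1) (hzz : z * z = 1)
    (hsq : ∀ a ∈ A, a * a = 1 → a = 1 ∨ a = z) :
    Nat.card (ConjClasses G) * 2 = Nat.card A + 6 := by
  classical
  have := Fintype.ofFinite G
  set n := Nat.card A with hn
  have hcardG : Fintype.card G = 2 * n := by
    have h := A.card_mul_index
    rw [hidx] at h
    rw [← Nat.card_eq_fintype_card]
    omega
  have hinv_self : ∀ a : G, a * a = 1 → a⁻¹ = a := fun a h => inv_eq_of_mul_eq_one_left h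
  -- centralizer sizes
  have hc1 : ∀ g : G, g ∈ A → g * g = 1 → Fintype.card {h : G // Commute g h} = 2 * n := by
    intro g hg hgg
    rw [← hcardG]
    apply Fintype.card_congr
    apply Equiv.subtypeUnivEquiv
    intro h
    by_cases hh : h ∈ A
    · exact hcomm g hg h hh
    · have h1 := hinv h hh g hg
      rw [hinv_self g hgg] at h1
      have h2 : h * g = g * h := by
        have := congrArg (· * h) h1
        simpa using this
      exact h2.symm
  have hc2 : ∀ g : G, g ∈ A → g * g ≠ 1 → Fintype.card {h : G // Commute g h} = n := by
    intro g hg hgg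
    rw [hn, Nat.card_eq_fintype_card]
    apply Fintype.card_congr
    apply Equiv.subtypeEquivRight
    intro h
    constructor
    · intro hc
      by_contra hh
      have h1 := hinv h hh g hg
      have h2 : h * g * h⁻¹ = g := by
        rw [← hc.eq, mul_inv_cancel_right]
      apply hgg
      rw [h1] at h2
      calc g * g = g⁻¹ * g := by rw [h2]
        _ = 1 := inv_mul_cancel g
    · intro hh
      exact hcomm g hg h hh
  have hc3 : ∀ g : G, g ∉ A → Fintype.card {h : G // Commute g h} = 4 := by
    intro g hg
    have hgz : g * z = z * g := by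
      have h1 := hinv g hg z hzA
      rw [hinv_self z hzz] at h1
      have := congrArg (· * g) h1
      simpa using this
    have hiff : ∀ h : G, Commute g h ↔ h ∈ ({1, z, g, g * z} : Finset G) := by
      intro h
      simp only [Finset.mem_insert, Finset.mem_singleton]
      constructor
      · intro hc
        by_cases hh : h ∈ A
        · have h1 := hinv g hg h hh
          have h2 : g * h * g⁻¹ = h := by rw [hc.eq, mul_inv_cancel_right]
          rw [h1] at h2
          have h3 : h * h = 1 := by
            calc h * h = h⁻¹ * h := by rw [h2]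
              _ = 1 := inv_mul_cancel h
          rcases hsq h hh h3 with h4 | h4
          · exact Or.inl h4
          · exact Or.inr (Or.inl h4)
        · have ha : g⁻¹ * h ∈ A := by
            rw [Subgroup.mul_mem_iff_of_index_two hidx, inv_mem_iff]
            exact iff_of_false hg hh
          have h1 := hinv g hg _ ha
          have h2 : g * (g⁻¹ * h) * g⁻¹ = g⁻¹ * h := by
            rw [mul_inv_cancel_left]
            exact (hc.inv_left).eq.symm
          rw [h1] at h2
          have h3 : (g⁻¹ * h) * (g⁻¹ * h) = 1 := by
            calc (g⁻¹ * h) * (g⁻¹ * h) = (g⁻¹ * h)⁻¹ * (g⁻¹ * h) := by rw [h2]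
              _ = 1 := inv_mul_cancel _
          rcases hsq _ ha h3 with h4 | h4
          · right; right; left
            exact (inv_mul_eq_one.1 h4).symm
          · right; right; right
            rw [← h4, mul_inv_cancel_left]
      · rintro (h1 | h1 | h1 | h1) <;> rw [h1] <;>
          first
            | exact Commute.one_right g
            | exact hgz
            | exact (Commute.refl g).mul_right hgz
    rw [Fintype.card_congr (Equiv.subtypeEquivRight hiff), Fintype.card_coe]
    have hgzA : g * z ∉ A := fun h => hg (by simpa using A.mul_mem h (A.inv_mem hzA))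
    have h1 : (1 : G) ∉ ({z, g, g * z} : Finset G) := by
      simp only [Finset.mem_insert, Finset.mem_singleton, not_or]
      refine ⟨fun h => hz1 h.symm, fun h => hg (h ▸ A.one_mem), fun h => hgzA (h ▸ A.one_mem)⟩
    have h2 : z ∉ ({g, g * z} : Finset G) := by
      simp only [Finset.mem_insert, Finset.mem_singleton, not_or]
      exact ⟨fun h => hg (h ▸ hzA), fun h => hgzA (h ▸ hzA)⟩
    have h3 : g ∉ ({g * z} : Finset G) := by
      simp only [Finset.mem_singleton]
      intro h
      exact hz1 (by simpa using h.symm)
    rw [Finset.card_insert_of_notMem h1, Finset.card_insert_of_notMem h2,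
      Finset.card_insert_of_notMem h3, Finset.card_singleton]
  -- the three class sizes
  have hA : (Finset.univ.filter (fun g : G => g ∈ A)).card = n := by
    rw [hn, Nat.card_eq_fintype_card, Fintype.card_subtype]
  have hd1 : (Finset.univ.filter (fun g : G => g ∈ A ∧ g * g = 1)).card = 2 := by
    have : Finset.univ.filter (fun g : G => g ∈ A ∧ g * g = 1) = {1, z} := by
      ext g
      simp only [Finset.mem_filter, Finset.mem_univ, true_and, Finset.mem_insert,
        Finset.mem_singleton]
      constructor
      · rintro ⟨h1, h2⟩
        exact hsq g h1 h2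
      · rintro (rfl | rfl)
        · exact ⟨A.one_mem, mul_one 1⟩
        · exact ⟨hzA, hzz⟩
    rw [this, Finset.card_pair (Ne.symm hz1)]
  have hd2 : (Finset.univ.filter (fun g : G => g ∈ A ∧ ¬ g * g = 1)).card + 2 = n := by
    have h := Finset.card_filter_add_card_filter_not (s := Finset.univ.filter (fun g : G => g ∈ A))
      (p := fun g : G => g * g = 1)
    rw [Finset.filter_filter, Finset.filter_filter, hd1, hA] at h
    omega
  have hd3 : (Finset.univ.filter (fun g : G => ¬ g ∈ A)).card = n := by
    have h := Finset.card_filter_add_card_filter_not (s := (Finset.univ : Finset G))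
      (p := fun g : G => g ∈ A)
    rw [hA, Finset.card_univ, hcardG] at h
    omega
  have key := card_comm_eq_card_conjClasses_mul_card G
  rw [Nat.card_eq_fintype_card, Fintype.card_congr (Equiv.subtypeProdEquivSigmaSubtype Commute),
    Fintype.card_sigma, Nat.card_eq_fintype_card (α := G), hcardG] at key
  have hf : ∀ g : G, Fintype.card {h : G // Commute g h}
      = (if g ∈ A ∧ g * g = 1 then 2 * n else 0) + (if g ∈ A ∧ ¬ g * g = 1 then n else 0)
        + (if ¬ g ∈ A then 4 else 0) := by
    intro g
    by_cases hg : g ∈ A
    · by_cases hgg : g * g = 1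
      · simp [hg, hgg, hc1 g hg hgg]
      · simp [hg, hgg, hc2 g hg hgg]
    · simp [hg, hc3 g hg]
  rw [Finset.sum_congr rfl (fun g _ => hf g), Finset.sum_add_distrib, Finset.sum_add_distrib,
    sum_ite_const_card, sum_ite_const_card, sum_ite_const_card, hd1, hd3] at key
  have hn2 : 2 ≤ n := by omega
  have key2 : Nat.card (ConjClasses G) * 2 * n = (n + 6) * n := by
    have e : (Finset.univ.filter (fun g : G => g ∈ A ∧ ¬ g * g = 1)).card = n - 2 := by omega
    rw [e] at key
    have e2 : 2 * (2 * n) + (n - 2) * n + n * 4 = (n + 6) * n := by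
      obtain ⟨m, hm⟩ : ∃ m, n = m + 2 := ⟨n - 2, by omega⟩
      rw [hm]
      simp only [Nat.add_sub_cancel]
      ring
    rw [e2] at key
    rw [key]; ring
  exact Nat.eq_of_mul_eq_mul_right (by omega) key2

end Cfsg.Agent.H41
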