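import Mathlib

set_option autoImplicit false
set_option linter.unusedSimpArgs false
set_option linter.unusedSectionVars false
set_option linter.unusedVariables false
set_option linter.style.haveILetI false

namespace Cfsg.Agent.H41

open Polynomial

section arith

theorem dvd_mul_iff_div_gcd (A B m : ℕ) (hA : 0 < A) : A ∣ B * m ↔ A / Nat.gcd A B ∣ m := by
  have hg : 0 < Nat.gcd A B := Nat.gcd_pos_of_pos_left B hA
  have hcop := Nat.coprime_div_gcd_div_gcd hg
  obtain ⟨A', hA'⟩ := Nat.gcd_dvd_left A B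
  obtain ⟨B', hB'⟩ := Nat.gcd_dvd_right A B
  obtain ⟨g, hgdef⟩ : ∃ g, g = Nat.gcd A B := ⟨_, rfl⟩
  rw [← hgdef] at hg hcop hA' hB' ⊢
  have e1 : A / g = A' := by rw [hA', Nat.mul_div_cancel_left _ hg]
  have e2 : B / g = B' := by rw [hB', Nat.mul_div_cancel_left _ hg]
  rw [e1, e2] at hcop
  rw [e1]
  constructor
  · intro h
    rw [hA', hB', mul_assoc] at h
    exact hcop.dvd_of_dvd_mul_left (Nat.dvd_of_mul_dvd_mul_left hg h)
  · intro h
    rw [hA', hB', mul_assoc]
    exact Nat.mul_dvd_mul_left g (Dvd.dvd.mul_left h B')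

theorem gcd_sq_add (q : ℕ) (hq : 1 ≤ q) :
    Nat.gcd (q ^ 2 + q + 1) (q - 1) = Nat.gcd 3 (q - 1) := by
  obtain ⟨j, rfl⟩ : ∃ j, q = j + 1 := ⟨q - 1, by omega⟩
  have e : (j + 1) ^ 2 + (j + 1) + 1 = 3 + j * (j + 3) := by ring
  rw [e, Nat.add_sub_cancel]
  simp

theorem gcd_sq_sub (q : ℕ) (hq : 2 ≤ q) :
    Nat.gcd (q ^ 2 - 1) (q + 2) = Nat.gcd 3 (q - 1) := by
  obtain ⟨j, rfl⟩ : ∃ j, q = j + 2 := ⟨q - 2, by omega⟩
  have e : (j + 2) ^ 2 - 1 = 3 + (j + 4) * j := by
    have : (j + 2) ^ 2 = 3 + (j + 4) * j + 1 := by ring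
    omega
  have e2 : j + 2 + 2 = j + 4 := by omega
  have e3 : j + 2 - 1 = j + 1 := by omega
  rw [e, e2, e3]
  have e4 : j + 4 = (j + 1) + 3 := by omega
  rw [Nat.gcd_add_mul_left_left, e4]
  simp

end arith

section fields

variable {F : Type*} [Field F] [Fintype F]

/-- An element of an extension of a finite field fixed by the Frobenius lies in the base. -/
theorem mem_range_of_pow_card {K : Type*} [Field K] [Algebra F K] (y : K)
    (h : y ^ Fintype.card F = y) : ∃ c : F, algebraMap F K c = y := by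
  classical
  by_contra hne
  push Not at hne
  have hq : 1 < Fintype.card F := Fintype.one_lt_card
  have hP : (X ^ Fintype.card F - X : K[X]) ≠ 0 := FiniteField.X_pow_card_sub_X_ne_zero K hq
  have hdeg : (X ^ Fintype.card F - X : K[X]).natDegree = Fintype.card F :=
    FiniteField.X_pow_card_sub_X_natDegree_eq K hq
  have hsub : insert y (Finset.univ.image (algebraMap F K)) ⊆
      (X ^ Fintype.card F - X : K[X]).roots.toFinset := by
    intro t ht
    rw [Multiset.mem_toFinset, mem_roots hP, IsRoot.def]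
    simp only [eval_sub, eval_pow, eval_X]
    rcases Finset.mem_insert.1 ht with rfl | ht
    · rw [h, sub_self]
    · obtain ⟨c, -, rfl⟩ := Finset.mem_image.1 ht
      rw [← map_pow, FiniteField.pow_card, sub_self]
  have hcard := Finset.card_le_card hsub
  have hnotin : y ∉ Finset.univ.image (algebraMap F K) := by
    intro hy
    obtain ⟨c, -, hc⟩ := Finset.mem_image.1 hy
    exact hne c hc
  rw [Finset.card_insert_of_notMem hnotin,
    Finset.card_image_of_injective _ (algebraMap F K).injective, Finset.card_univ] at hcard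
  have h1 := (Multiset.toFinset_card_le (X ^ Fintype.card F - X : K[X]).roots).trans
    (card_roots' _)
  omega

theorem mem_range_of_pow_card_sub_one {K : Type*} [Field K] [Algebra F K] (y : K)
    (h : y ^ (Fintype.card F - 1) = 1) : ∃ c : F, algebraMap F K c = y := by
  apply mem_range_of_pow_card
  have hq : 1 ≤ Fintype.card F := Fintype.card_pos
  have e : Fintype.card F = (Fintype.card F - 1) + 1 := by omega
  rw [e, pow_succ, h, one_mul]

theorem algebraMap_pow_card_sub_one {K : Type*} [Field K] [Algebra F K] (c : F) (y : K)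
    (hy : y ≠ 0) (h : algebraMap F K c = y) : y ^ (Fintype.card F - 1) = 1 := by
  have hc : c ≠ 0 := by
    rintro rfl
    rw [map_zero] at h
    exact hy h.symm
  rw [← h, ← map_pow, FiniteField.pow_card_sub_one_eq_one c hc, map_one]

/-- The norm of the root of a monic irreducible polynomial over a finite field, as a power. -/
theorem root_pow_norm (Q : F[X]) [hQ : Fact (Irreducible Q)] (hm : Q.Monic) :
    (AdjoinRoot.root Q) ^ ((Fintype.card F ^ Q.natDegree - 1) / (Fintype.card F - 1)) =
      algebraMap F (AdjoinRoot Q) ((-1) ^ Q.natDegree * Q.coeff 0) := by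
  have hQ0 : Q ≠ 0 := hQ.out.ne_zero
  haveI : Module.Finite F (AdjoinRoot Q) := PowerBasis.finite (AdjoinRoot.powerBasis hQ0)
  haveI : Finite (AdjoinRoot Q) := Module.finite_of_finite F
  have hnorm := Algebra.PowerBasis.norm_gen_eq_coeff_zero_minpoly (AdjoinRoot.powerBasis hQ0)
  rw [AdjoinRoot.powerBasis_gen, AdjoinRoot.powerBasis_dim, AdjoinRoot.minpoly_root hQ0,
    hm.leadingCoeff, inv_one, map_one, mul_one] at hnorm
  have hcard : Nat.card (AdjoinRoot Q) = Fintype.card F ^ Q.natDegree := by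
    rw [Module.natCard_eq_pow_finrank (K := F), (AdjoinRoot.powerBasis hQ0).finrank,
      AdjoinRoot.powerBasis_dim, Nat.card_eq_fintype_card]
  have h1 := FiniteField.algebraMap_norm_eq_pow (K := F) (K' := AdjoinRoot Q)
    (x := AdjoinRoot.root Q)
  rw [hcard, Nat.card_eq_fintype_card, hnorm] at h1
  exact h1.symm

/-- Divisibility of `X ^ m - c` by an irreducible polynomial, tested in the root field. -/
theorem dvd_X_pow_sub_C_of_root (Q : F[X]) (m : ℕ) (c : F)
    (h : (AdjoinRoot.root Q) ^ m = algebraMap F (AdjoinRoot Q) c) : Q ∣ (X ^ m - C c : F[X]) := by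
  rw [← AdjoinRoot.mk_eq_zero]
  simp only [map_sub, map_pow, AdjoinRoot.mk_X, AdjoinRoot.mk_C]
  rw [h, sub_eq_zero]
  rfl

end fields

end Cfsg.Agent.H41
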