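import Mathlib

set_option autoImplicit false
set_option linter.unusedSimpArgs false
set_option linter.unusedSectionVars false
set_option linter.unusedVariables false
set_option linter.style.haveILetI false

namespace Cfsg.Agent.H41

open Finset

section fixfree

variable {F : Type*} [Field F] [Fintype F] {V : Type*} [AddCommGroup V] [Module F V]
  [Module.Finite F V]

/-- A linear map of prime order `r` acting without nonzero fixed points on an invariant
subspace: the multiplicative order of `q` modulo `r` divides the dimension. -/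
theorem orderOf_dvd_finrank_of_fixedPointFree (r : ℕ) [Fact r.Prime] (a : Module.End F V)
    (har : a ^ r = 1) (W : Submodule F V) (hinv : ∀ w ∈ W, a w ∈ W)
    (hfree : ∀ w ∈ W, a w = w → w = 0) :
    orderOf ((Fintype.card F : ℕ) : ZMod r) ∣ Module.finrank F W := by
  classical
  haveI : Finite V := Module.finite_of_finite F
  haveI : Fintype W := Fintype.ofFinite W
  have hpow : (a.restrict hinv) ^ r = 1 := by
    rw [Module.End.pow_restrict]
    ext w
    simp [har]
  obtain ⟨f, hfdef⟩ : ∃ f : Function.End W, f = fun w => a.restrict hinv w := ⟨_, rfl⟩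
  have hf : f ^ r ^ 1 = 1 := by
    rw [pow_one]
    have h1 : (f ^ r : Function.End W) = f^[r] :=
      hom_coe_pow (fun g : Function.End W => g) rfl (fun _ _ => rfl) f r
    rw [h1, hfdef]
    have h2 : (⇑(a.restrict hinv))^[r] = ⇑((a.restrict hinv) ^ r) :=
      (Module.End.coe_pow (a.restrict hinv) r).symm
    rw [h2, hpow]
    rfl
  have hcard := Equiv.Perm.card_fixedPoints_modEq (f := f) (p := r) (n := 1) hf
  have hfix : Nat.card (Function.fixedPoints f) = 1 := by
    rw [Nat.card_eq_one_iff_unique]
    constructor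
    · constructor
      rintro ⟨w, hw⟩ ⟨w', hw'⟩
      have h1 : f w = w := hw
      have h2 : f w' = w' := hw'
      rw [hfdef] at h1 h2
      have h1' : a (w : V) = w := congrArg Subtype.val h1
      have h2' : a (w' : V) = w' := congrArg Subtype.val h2
      apply Subtype.ext
      apply Subtype.ext
      rw [hfree w w.2 h1', hfree w' w'.2 h2']
    · refine ⟨⟨0, ?_⟩⟩
      show f 0 = 0
      rw [hfdef]
      exact map_zero _
  rw [Fintype.card_eq_nat_card, Fintype.card_eq_nat_card, hfix,
    Module.natCard_eq_pow_finrank (K := F) (V := W), Nat.card_eq_fintype_card] at hcard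
  apply orderOf_dvd_of_pow_eq_one
  have h3 := (ZMod.natCast_eq_natCast_iff _ _ _).2 hcard
  push_cast at h3
  exact h3

/-- The kernel of the norm operator `1 + a + ⋯ + a ^ (r - 1)`. -/
def normKer (a : Module.End F V) (r : ℕ) : Submodule F V :=
  LinearMap.ker (∑ i ∈ range r, a ^ i)

omit [Fintype F] [Module.Finite F V] in
theorem mem_normKer (a : Module.End F V) (r : ℕ) (w : V) :
    w ∈ normKer a r ↔ (∑ i ∈ range r, a ^ i) w = 0 := LinearMap.mem_ker

omit [Fintype F] [Module.Finite F V] in
theorem normKer_invariant (a b : Module.End F V) (hab : Commute a b) (r : ℕ) :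
    ∀ w ∈ normKer a r, b w ∈ normKer a r := by
  intro w hw
  rw [mem_normKer] at hw ⊢
  have hc : Commute (∑ i ∈ range r, a ^ i) b :=
    Commute.sum_left _ _ _ (fun i _ => Commute.pow_left hab i)
  have h1 : (∑ i ∈ range r, a ^ i) (b w) = ((∑ i ∈ range r, a ^ i) * b) w := rfl
  rw [h1, hc.eq]
  show b ((∑ i ∈ range r, a ^ i) w) = 0
  rw [hw, map_zero]

omit [Fintype F] [Module.Finite F V] in
theorem pow_apply_of_fixed (a : Module.End F V) (w : V) (h : a w = w) (i : ℕ) :
    (a ^ i) w = w := by
  induction i with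
  | zero => simp
  | succ i ih => rw [pow_succ, Module.End.mul_apply, h, ih]

omit [Fintype F] [Module.Finite F V] in
theorem normKer_fixfree (a : Module.End F V) (r : ℕ) (hr : (r : F) ≠ 0) :
    ∀ w ∈ normKer a r, a w = w → w = 0 := by
  intro w hw h
  rw [mem_normKer, LinearMap.sum_apply] at hw
  have h1 : ∑ i ∈ range r, (a ^ i) w = (r : F) • w := by
    rw [Finset.sum_congr rfl (fun i _ => pow_apply_of_fixed a w h i), Finset.sum_const,
      Finset.card_range, Nat.cast_smul_eq_nsmul]
  rw [h1] at hw
  rcases smul_eq_zero.1 hw with h2 | h2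
  · exact absurd h2 hr
  · exact h2

omit [Fintype F] [Module.Finite F V] in
theorem sub_mem_normKer (a : Module.End F V) (r : ℕ) (har : a ^ r = 1) (v : V) :
    a v - v ∈ normKer a r := by
  rw [mem_normKer]
  have h1 : (∑ i ∈ range r, a ^ i) (a v - v) = ((∑ i ∈ range r, a ^ i) * (a - 1)) v := by
    rw [Module.End.mul_apply]
    rfl
  rw [h1, geom_sum_mul, har, sub_self]
  rfl

omit [Fintype F] [Module.Finite F V] in
theorem normKer_ne_bot (a : Module.End F V) (r : ℕ) (har : a ^ r = 1) (ha1 : a ≠ 1) :
    normKer a r ≠ ⊥ := by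
  intro hbot
  apply ha1
  ext v
  have h := sub_mem_normKer a r har v
  rw [hbot, Submodule.mem_bot, sub_eq_zero] at h
  rw [h]
  rfl

theorem orderOf_dvd_finrank_of_le_normKer (r : ℕ) [Fact r.Prime] (a : Module.End F V)
    (har : a ^ r = 1) (hr : (r : F) ≠ 0) (W : Submodule F V) (hW : W ≤ normKer a r)
    (hinv : ∀ w ∈ W, a w ∈ W) :
    orderOf ((Fintype.card F : ℕ) : ZMod r) ∣ Module.finrank F W :=
  orderOf_dvd_finrank_of_fixedPointFree r a har W hinv
    (fun w hw h => normKer_fixfree a r hr w (hW hw) h)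

theorem orderOf_le_finrank_normKer (r : ℕ) [Fact r.Prime] (a : Module.End F V)
    (har : a ^ r = 1) (hr : (r : F) ≠ 0) (ha1 : a ≠ 1) :
    orderOf ((Fintype.card F : ℕ) : ZMod r) ≤ Module.finrank F (normKer a r) := by
  have h1 := orderOf_dvd_finrank_of_le_normKer r a har hr (normKer a r) le_rfl
    (normKer_invariant a a (Commute.refl a) r)
  have h2 : 0 < Module.finrank F (normKer a r) := by
    rw [Module.finrank_pos_iff]
    exact (Submodule.nontrivial_iff_ne_bot).2 (normKer_ne_bot a r har ha1)
  exact Nat.le_of_dvd h2 h1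

/-- Two commuting elements of distinct prime orders `r`, `s` on a space of dimension less
than `k + l`: then `k ∣ l`. -/
theorem dvd_of_commuting_prime_orders (r s : ℕ) [Fact r.Prime] [Fact s.Prime]
    (a b : Module.End F V) (hab : Commute a b) (har : a ^ r = 1) (hbs : b ^ s = 1)
    (ha1 : a ≠ 1) (hb1 : b ≠ 1) (hr : (r : F) ≠ 0) (hs : (s : F) ≠ 0)
    (hkl : orderOf ((Fintype.card F : ℕ) : ZMod r) ≤ orderOf ((Fintype.card F : ℕ) : ZMod s))
    (hn : Module.finrank F V <
      orderOf ((Fintype.card F : ℕ) : ZMod r) + orderOf ((Fintype.card F : ℕ) : ZMod s)) :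
    orderOf ((Fintype.card F : ℕ) : ZMod r) ∣ orderOf ((Fintype.card F : ℕ) : ZMod s) := by
  have h1 := orderOf_le_finrank_normKer r a har hr ha1
  have h2 := orderOf_le_finrank_normKer s b hbs hs hb1
  have h3 := Submodule.finrank_sup_add_finrank_inf_eq (normKer a r) (normKer b s)
  have h4 : Module.finrank F ↥(normKer a r ⊔ normKer b s) ≤ Module.finrank F V :=
    Submodule.finrank_le _
  have hinvA : ∀ w ∈ normKer a r ⊓ normKer b s, a w ∈ normKer a r ⊓ normKer b s := by
    intro w hw
    exact ⟨normKer_invariant a a (Commute.refl a) r w hw.1,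
      normKer_invariant b a hab.symm s w hw.2⟩
  have hinvB : ∀ w ∈ normKer a r ⊓ normKer b s, b w ∈ normKer a r ⊓ normKer b s := by
    intro w hw
    exact ⟨normKer_invariant a b hab r w hw.1,
      normKer_invariant b b (Commute.refl b) s w hw.2⟩
  have h5 := orderOf_dvd_finrank_of_le_normKer r a har hr (normKer a r ⊓ normKer b s)
    inf_le_left hinvA
  have h6 := orderOf_dvd_finrank_of_le_normKer s b hbs hs (normKer a r ⊓ normKer b s)
    inf_le_right hinvB
  have h7 : Module.finrank F ↥(normKer a r ⊓ normKer b s) ≠ 0 := by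
    intro h0
    omega
  have h8 : Module.finrank F ↥(normKer a r ⊓ normKer b s) ≤ Module.finrank F V :=
    Submodule.finrank_le _
  have h9 := Nat.eq_of_dvd_of_lt_two_mul h7 h6 (by omega)
  rw [h9] at h5
  exact h5

end fixfree

end Cfsg.Agent.H41
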