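import Mathlib
import Cfsg.Agent.H41.FixFree

set_option autoImplicit false
set_option linter.unusedSimpArgs false
set_option linter.unusedSectionVars false
set_option linter.unusedVariables false
set_option linter.style.haveILetI false

namespace Cfsg.Agent.H41

open Finset

section nilfix

variable {F : Type*} [Field F] {V : Type*} [AddCommGroup V] [Module F V]

/-- A nilpotent endomorphism has a nonzero kernel vector inside any nonzero invariant
subspace. -/
theorem exists_ker_of_nilpotent (N : Module.End F V) (J : ℕ) (hN : N ^ J = 0)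
    (U : Submodule F V) (hU : ∀ w ∈ U, N w ∈ U) (v : V) (hv : v ∈ U) (hv0 : v ≠ 0) :
    ∃ w ∈ U, w ≠ 0 ∧ N w = 0 := by
  classical
  have hex : ∃ j : ℕ, (N ^ j) v = 0 := ⟨J, by rw [hN]; rfl⟩
  obtain ⟨j, hj⟩ : ∃ j, j = Nat.find hex := ⟨_, rfl⟩
  have hjspec : (N ^ j) v = 0 := by rw [hj]; exact Nat.find_spec hex
  have hj0 : j ≠ 0 := by
    rintro rfl
    rw [pow_zero] at hjspec
    exact hv0 hjspec
  have hmin : (N ^ (j - 1)) v ≠ 0 := by
    have : j - 1 < Nat.find hex := by rw [← hj]; omega
    exact Nat.find_min hex this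
  have hmem : ∀ i : ℕ, (N ^ i) v ∈ U := by
    intro i
    induction i with
    | zero => simpa using hv
    | succ i ih =>
      rw [pow_succ', Module.End.mul_apply]
      exact hU _ ih
  refine ⟨(N ^ (j - 1)) v, hmem _, hmin, ?_⟩
  have e : N ((N ^ (j - 1)) v) = (N ^ j) v := by
    rw [← Module.End.mul_apply, ← pow_succ']
    congr 2
    omega
  rw [e, hjspec]

/-- A vector not killed by a nilpotent endomorphism is independent of its image. -/
theorem linearIndependent_of_nilpotent (N : Module.End F V) (J : ℕ) (hN : N ^ J = 0) (e : V)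
    (he : N e ≠ 0) : LinearIndependent F ![e, N e] := by
  have he0 : e ≠ 0 := by
    rintro rfl
    exact he (map_zero N)
  rw [LinearIndependent.pair_iff]
  intro s t hst
  by_cases ht : t = 0
  · subst ht
    rw [zero_smul, add_zero] at hst
    rcases smul_eq_zero.1 hst with h | h
    · exact ⟨h, rfl⟩
    · exact absurd h he0
  · exfalso
    have h1 : N e = (-(s / t)) • e := by
      have h2 : t • N e = -(s • e) := by
        rw [eq_neg_iff_add_eq_zero, add_comm]
        exact hst
      have h3 : N e = t⁻¹ • (t • N e) := by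
        rw [smul_smul, inv_mul_cancel₀ ht, one_smul]
      rw [h3, h2, smul_neg, smul_smul, neg_smul]
      congr 2
      field_simp
    have h4 : ∀ i : ℕ, (N ^ i) e = ((-(s / t)) ^ i) • e := by
      intro i
      induction i with
      | zero => simp
      | succ i ih =>
        rw [pow_succ, Module.End.mul_apply, h1, map_smul, ih, smul_smul, pow_succ, mul_comm]
    have h5 := h4 J
    rw [hN] at h5
    have h6 : ((-(s / t)) ^ J) • e = 0 := by
      rw [← h5]
      rfl
    rcases smul_eq_zero.1 h6 with h | h
    · have h7 : -(s / t) = 0 := pow_eq_zero_iff (M₀ := F) (n := J) (by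
        rintro rfl
        rw [pow_zero] at h
        exact one_ne_zero h) |>.1 h
      rw [h7, zero_smul] at h1
      exact he h1
    · exact he0 h

variable [Fintype F] [Module.Finite F V]

/-- A linear map `b` of prime order `r` commuting with a nonzero nilpotent endomorphism on a
space of dimension `n ≥ 3`: then `k + 2 ≤ n`. -/
theorem add_two_le_of_commute_nilpotent (r : ℕ) [Fact r.Prime] (b N : Module.End F V)
    (hbN : Commute b N) (hbr : b ^ r = 1) (hb1 : b ≠ 1) (hr : (r : F) ≠ 0) (J : ℕ)
    (hN : N ^ J = 0) (hN0 : N ≠ 0) (h3 : 3 ≤ Module.finrank F V) :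
    orderOf ((Fintype.card F : ℕ) : ZMod r) + 2 ≤ Module.finrank F V := by
  have hUinvb := normKer_invariant b b (Commute.refl b) r
  have hUinvN := normKer_invariant b N hbN r
  have hkU := orderOf_le_finrank_normKer r b hbr hr hb1
  have hkdvdU := orderOf_dvd_finrank_of_le_normKer r b hbr hr (normKer b r) le_rfl hUinvb
  have hUle : Module.finrank F (normKer b r) ≤ Module.finrank F V := Submodule.finrank_le _
  by_cases hcase : ∃ v ∈ normKer b r, N v ≠ 0
  · obtain ⟨v, hvU, hNv⟩ := hcase
    have hv0 : v ≠ 0 := by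
      rintro rfl
      exact hNv (map_zero N)
    obtain ⟨w, hwU, hw0, hNw⟩ := exists_ker_of_nilpotent N J hN (normKer b r) hUinvN v hvU hv0
    have hWinv : ∀ w ∈ normKer b r ⊓ LinearMap.ker N, b w ∈ normKer b r ⊓ LinearMap.ker N := by
      intro w hw
      refine ⟨hUinvb w hw.1, ?_⟩
      show N (b w) = 0
      have h1 : N (b w) = (N * b) w := rfl
      rw [h1, ← hbN.eq]
      show b (N w) = 0
      rw [LinearMap.mem_ker.1 hw.2, map_zero]
    have hkW := orderOf_dvd_finrank_of_le_normKer r b hbr hr (normKer b r ⊓ LinearMap.ker N)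
      inf_le_left hWinv
    have hWpos : 0 < Module.finrank F ↥(normKer b r ⊓ LinearMap.ker N) := by
      rw [Module.finrank_pos_iff]
      exact (Submodule.nontrivial_iff_ne_bot).2 (fun hbot => hw0 (by
        have : w ∈ normKer b r ⊓ LinearMap.ker N := ⟨hwU, LinearMap.mem_ker.2 hNw⟩
        rw [hbot] at this
        exact (Submodule.mem_bot F).1 this))
    have hlt : normKer b r ⊓ LinearMap.ker N < normKer b r := by
      refine lt_of_le_of_ne inf_le_left ?_
      intro heq
      have : v ∈ normKer b r ⊓ LinearMap.ker N := by rw [heq]; exact hvU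
      exact hNv (LinearMap.mem_ker.1 this.2)
    have hWlt := Submodule.finrank_lt_finrank_of_lt hlt
    obtain ⟨c1, hc1⟩ := hkW
    obtain ⟨c2, hc2⟩ := hkdvdU
    obtain ⟨k, hk⟩ : ∃ k, k = orderOf ((Fintype.card F : ℕ) : ZMod r) := ⟨_, rfl⟩
    rw [← hk] at hc1 hc2 hkU ⊢
    rw [hc1, hc2] at hWlt
    rw [hc1] at hWpos
    have hc1pos : 0 < c1 := by
      rcases Nat.eq_zero_or_pos c1 with h | h
      · rw [h, mul_zero] at hWpos
        omega
      · exact h
    have hkpos : 0 < k := by
      rcases Nat.eq_zero_or_pos k with h | h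
      · rw [h, zero_mul] at hWpos
        omega
      · exact h
    have hc12 : c1 < c2 := lt_of_mul_lt_mul_left hWlt (Nat.zero_le k)
    have h2k : 2 * k ≤ k * c2 := by nlinarith
    rw [hc2] at hUle
    by_cases hk1 : k = 1
    · omega
    · omega
  · push Not at hcase
    obtain ⟨v, hv⟩ : ∃ v, N v ≠ 0 := by
      by_contra hcon
      push Not at hcon
      apply hN0
      ext v
      rw [hcon v]
      rfl
    -- the fixed part of `v`
    have hfix : b ((∑ i ∈ range r, b ^ i) v) = (∑ i ∈ range r, b ^ i) v := by
      have h1 : b ((∑ i ∈ range r, b ^ i) v) - (∑ i ∈ range r, b ^ i) v =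
          ((b - 1) * ∑ i ∈ range r, b ^ i) v := by
        rw [Module.End.mul_apply]
        rfl
      rw [mul_geom_sum, hbr, sub_self] at h1
      exact sub_eq_zero.1 h1
    have hmemU : (r : F) • v - (∑ i ∈ range r, b ^ i) v ∈ normKer b r := by
      rw [mem_normKer, map_sub, map_smul]
      have h2 : (∑ i ∈ range r, b ^ i) ((∑ i ∈ range r, b ^ i) v) =
          (r : F) • (∑ i ∈ range r, b ^ i) v := by
        rw [LinearMap.sum_apply,
          Finset.sum_congr rfl (fun i _ => pow_apply_of_fixed b _ hfix i), Finset.sum_const,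
          Finset.card_range, Nat.cast_smul_eq_nsmul]
      rw [h2, sub_self]
    have hNe : N ((∑ i ∈ range r, b ^ i) v) ≠ 0 := by
      have h3 := hcase _ hmemU
      rw [map_sub, map_smul, sub_eq_zero] at h3
      rw [← h3]
      exact smul_ne_zero hr hv
    obtain ⟨e, he⟩ : ∃ e, e = (∑ i ∈ range r, b ^ i) v := ⟨_, rfl⟩
    rw [← he] at hfix hNe
    have hE1 : e ∈ LinearMap.ker (b - 1) := by
      rw [LinearMap.mem_ker, LinearMap.sub_apply, hfix]
      simp
    have hE2 : N e ∈ LinearMap.ker (b - 1) := by
      rw [LinearMap.mem_ker, LinearMap.sub_apply]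
      have h1 : b (N e) = (b * N) e := rfl
      rw [h1, hbN.eq, Module.End.mul_apply, hfix]
      simp
    have hli := linearIndependent_of_nilpotent N J hN e hNe
    have hspan : Submodule.span F (Set.range ![e, N e]) ≤ LinearMap.ker (b - 1) := by
      rw [Submodule.span_le]
      rintro x ⟨i, rfl⟩
      fin_cases i
      · exact hE1
      · exact hE2
    have hfr2 : 2 ≤ Module.finrank F (LinearMap.ker (b - 1)) := by
      have h1 := finrank_span_eq_card hli
      rw [Fintype.card_fin] at h1
      have h2 := Submodule.finrank_mono hspan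
      rw [h1] at h2
      exact h2
    have hdisj : LinearMap.ker (b - 1) ⊓ normKer b r = ⊥ := by
      rw [eq_bot_iff]
      intro w hw
      rw [Submodule.mem_bot]
      apply normKer_fixfree b r hr w hw.2
      have := LinearMap.mem_ker.1 hw.1
      rw [LinearMap.sub_apply, sub_eq_zero] at this
      exact this
    have hsum := Submodule.finrank_sup_add_finrank_inf_eq (LinearMap.ker (b - 1)) (normKer b r)
    rw [hdisj, finrank_bot, add_zero] at hsum
    have hle : Module.finrank F ↥(LinearMap.ker (b - 1) ⊔ normKer b r) ≤ Module.finrank F V :=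
      Submodule.finrank_le _
    omega

end nilfix

end Cfsg.Agent.H41
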