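import Mathlib

set_option autoImplicit false

namespace Cfsg.Agent.H41

open Matrix

variable {F : Type*} [Field F]

/-- Entries of elements of `SL₂`. -/
abbrev ent (g : Matrix.SpecialLinearGroup (Fin 2) F) (i j : Fin 2) : F :=
  (g : Matrix (Fin 2) (Fin 2) F) i j

theorem sl2_det (g : Matrix.SpecialLinearGroup (Fin 2) F) :
    ent g 0 0 * ent g 1 1 - ent g 0 1 * ent g 1 0 = 1 := by
  have h := g.2
  rw [Matrix.det_fin_two] at h
  exact h

theorem sl2_ext {g h : Matrix.SpecialLinearGroup (Fin 2) F} (h00 : ent g 0 0 = ent h 0 0)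
    (h01 : ent g 0 1 = ent h 0 1) (h10 : ent g 1 0 = ent h 1 0) (h11 : ent g 1 1 = ent h 1 1) :
    g = h := by
  apply Subtype.ext
  ext i j
  fin_cases i <;> fin_cases j
  · exact h00
  · exact h01
  · exact h10
  · exact h11

theorem sl2_mul00 (g h : Matrix.SpecialLinearGroup (Fin 2) F) :
    ent (g * h) 0 0 = ent g 0 0 * ent h 0 0 + ent g 0 1 * ent h 1 0 := by
  simp [ent, Matrix.SpecialLinearGroup.coe_mul, Matrix.mul_apply, Fin.sum_univ_two]

theorem sl2_mul01 (g h : Matrix.SpecialLinearGroup (Fin 2) F) :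
    ent (g * h) 0 1 = ent g 0 0 * ent h 0 1 + ent g 0 1 * ent h 1 1 := by
  simp [ent, Matrix.SpecialLinearGroup.coe_mul, Matrix.mul_apply, Fin.sum_univ_two]

theorem sl2_mul10 (g h : Matrix.SpecialLinearGroup (Fin 2) F) :
    ent (g * h) 1 0 = ent g 1 0 * ent h 0 0 + ent g 1 1 * ent h 1 0 := by
  simp [ent, Matrix.SpecialLinearGroup.coe_mul, Matrix.mul_apply, Fin.sum_univ_two]

theorem sl2_mul11 (g h : Matrix.SpecialLinearGroup (Fin 2) F) :
    ent (g * h) 1 1 = ent g 1 0 * ent h 0 1 + ent g 1 1 * ent h 1 1 := by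
  simp [ent, Matrix.SpecialLinearGroup.coe_mul, Matrix.mul_apply, Fin.sum_univ_two]

theorem sl2_inv00 (g : Matrix.SpecialLinearGroup (Fin 2) F) : ent g⁻¹ 0 0 = ent g 1 1 := by
  simp [ent, Matrix.SpecialLinearGroup.coe_inv, Matrix.adjugate_fin_two]

theorem sl2_inv01 (g : Matrix.SpecialLinearGroup (Fin 2) F) : ent g⁻¹ 0 1 = - ent g 0 1 := by
  simp [ent, Matrix.SpecialLinearGroup.coe_inv, Matrix.adjugate_fin_two]

theorem sl2_inv10 (g : Matrix.SpecialLinearGroup (Fin 2) F) : ent g⁻¹ 1 0 = - ent g 1 0 := by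
  simp [ent, Matrix.SpecialLinearGroup.coe_inv, Matrix.adjugate_fin_two]

theorem sl2_inv11 (g : Matrix.SpecialLinearGroup (Fin 2) F) : ent g⁻¹ 1 1 = ent g 0 0 := by
  simp [ent, Matrix.SpecialLinearGroup.coe_inv, Matrix.adjugate_fin_two]

theorem sl2_one00 : ent (1 : Matrix.SpecialLinearGroup (Fin 2) F) 0 0 = 1 := by simp [ent]
theorem sl2_one01 : ent (1 : Matrix.SpecialLinearGroup (Fin 2) F) 0 1 = 0 := by simp [ent]
theorem sl2_one10 : ent (1 : Matrix.SpecialLinearGroup (Fin 2) F) 1 0 = 0 := by simp [ent]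
theorem sl2_one11 : ent (1 : Matrix.SpecialLinearGroup (Fin 2) F) 1 1 = 1 := by simp [ent]

/-- Build an element of `SL₂` from its entries. -/
def mkSL (a b c d : F) (h : a * d - b * c = 1) : Matrix.SpecialLinearGroup (Fin 2) F :=
  ⟨!![a, b; c, d], by rw [Matrix.det_fin_two_of]; exact h⟩

theorem mkSL00 (a b c d : F) (h : a * d - b * c = 1) : ent (mkSL a b c d h) 0 0 = a := rfl
theorem mkSL01 (a b c d : F) (h : a * d - b * c = 1) : ent (mkSL a b c d h) 0 1 = b := rfl
theorem mkSL10 (a b c d : F) (h : a * d - b * c = 1) : ent (mkSL a b c d h) 1 0 = c := rfl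
theorem mkSL11 (a b c d : F) (h : a * d - b * c = 1) : ent (mkSL a b c d h) 1 1 = d := rfl

/-- The central element `-1` of `SL₂`. -/
def negOne : Matrix.SpecialLinearGroup (Fin 2) F := mkSL (-1) 0 0 (-1) (by ring)

theorem negOne_coe : ((negOne : Matrix.SpecialLinearGroup (Fin 2) F) : Matrix (Fin 2) (Fin 2) F)
    = -1 := by
  ext i j
  fin_cases i <;> fin_cases j <;> simp [negOne, mkSL]

end Cfsg.Agent.H41
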