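import Mathlib
import Cfsg.Agent.H41.SL2Entry

set_option autoImplicit false

namespace Cfsg.Agent.H41

open Matrix

variable {F : Type*} [Field F]

theorem psl_mk_pow_eq_one_iff (g : Matrix.SpecialLinearGroup (Fin 2) F) (n : ℕ) :
    (g : Matrix.ProjectiveSpecialLinearGroup (Fin 2) F) ^ n = 1 ↔
      ∃ r : F, r * r = 1 ∧ (g : Matrix (Fin 2) (Fin 2) F) ^ n = r • (1 : Matrix (Fin 2) (Fin 2) F) := by
  rw [← QuotientGroup.mk_pow, QuotientGroup.eq_one_iff, Matrix.SpecialLinearGroup.mem_center_iff]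
  constructor
  · rintro ⟨r, hr, h⟩
    refine ⟨r, by simpa [pow_two] using hr, ?_⟩
    rw [← Matrix.SpecialLinearGroup.coe_pow, ← h]
    ext i j
    simp [Matrix.one_apply, Matrix.diagonal_apply]
  · rintro ⟨r, hr, h⟩
    refine ⟨r, by simpa [pow_two] using hr, ?_⟩
    rw [Matrix.SpecialLinearGroup.coe_pow, h]
    ext i j
    simp [Matrix.one_apply, Matrix.diagonal_apply]

theorem psl_mk_eq_one_iff (g : Matrix.SpecialLinearGroup (Fin 2) F) :
    (g : Matrix.ProjectiveSpecialLinearGroup (Fin 2) F) = 1 ↔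
      ∃ r : F, r * r = 1 ∧ (g : Matrix (Fin 2) (Fin 2) F) = r • (1 : Matrix (Fin 2) (Fin 2) F) := by
  have h := psl_mk_pow_eq_one_iff g 1
  simpa using h

/-- A lift of a non-identity element of `PSL₂` is not scalar. -/
theorem nonscalar_of_mk_ne_one (g : Matrix.SpecialLinearGroup (Fin 2) F)
    (hg : (g : Matrix.ProjectiveSpecialLinearGroup (Fin 2) F) ≠ 1) :
    ent g 0 1 ≠ 0 ∨ ent g 1 0 ≠ 0 ∨ ent g 0 0 ≠ ent g 1 1 := by
  by_contra hcon
  push Not at hcon
  obtain ⟨h01, h10, h00⟩ := hcon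
  apply hg
  rw [psl_mk_eq_one_iff]
  have hdet := sl2_det g
  refine ⟨ent g 0 0, ?_, ?_⟩
  · rw [h01, ← h00] at hdet
    linear_combination hdet
  · ext i j
    fin_cases i <;> fin_cases j <;> simp
    · exact h01
    · exact h10
    · exact h00.symm

theorem negOne_mem_center :
    (negOne : Matrix.SpecialLinearGroup (Fin 2) F) ∈
      Subgroup.center (Matrix.SpecialLinearGroup (Fin 2) F) := by
  rw [Matrix.SpecialLinearGroup.mem_center_iff]
  refine ⟨-1, by simp, ?_⟩
  rw [negOne_coe]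
  ext i j
  fin_cases i <;> fin_cases j <;> simp

theorem psl_mk_negOne_mul (g : Matrix.SpecialLinearGroup (Fin 2) F) :
    ((negOne * g : Matrix.SpecialLinearGroup (Fin 2) F) :
      Matrix.ProjectiveSpecialLinearGroup (Fin 2) F) = g := by
  rw [QuotientGroup.mk_mul, (QuotientGroup.eq_one_iff _).2 negOne_mem_center, one_mul]

theorem negOne_mul_ent (g : Matrix.SpecialLinearGroup (Fin 2) F) (i j : Fin 2) :
    ent (negOne * g) i j = - ent g i j := by
  fin_cases i <;> fin_cases j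
  · simp [sl2_mul00, negOne, mkSL00, mkSL01]
  · simp [sl2_mul01, negOne, mkSL00, mkSL01]
  · simp [sl2_mul10, negOne, mkSL10, mkSL11]
  · simp [sl2_mul11, negOne, mkSL10, mkSL11]

end Cfsg.Agent.H41
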