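import Mathlib

set_option autoImplicit false

namespace Cfsg.Agent.H41

open Polynomial Matrix

variable {F : Type*} [Field F]

/-- Cayley–Hamilton for a 2×2 matrix of determinant one. -/
theorem mul_self_eq_of_det_one (A : Matrix (Fin 2) (Fin 2) F) (hA : A.det = 1) :
    A * A = (A 0 0 + A 1 1) • A - 1 := by
  rw [Matrix.det_fin_two] at hA
  ext i j
  fin_cases i <;> fin_cases j <;>
    simp [Matrix.mul_apply, Fin.sum_univ_two] <;>
    first | linear_combination (-1 : F) * hA | ring1

/-- The characteristic polynomial `X² - tX + 1` of an element of `SL₂` of trace `t`. -/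
noncomputable def tpoly (t : F) : F[X] := X ^ 2 - C t * X + 1

theorem aeval_tpoly (A : Matrix (Fin 2) (Fin 2) F) (hA : A.det = 1) :
    aeval A (tpoly (A 0 0 + A 1 1)) = 0 := by
  have hCH := mul_self_eq_of_det_one A hA
  generalize A 0 0 + A 1 1 = t at hCH ⊢
  simp only [tpoly, map_add, map_sub, map_mul, map_pow, aeval_X, aeval_C, map_one]
  rw [pow_two, hCH, Algebra.algebraMap_eq_smul_one, smul_mul_assoc, one_mul]
  abel

theorem pow_eq_smul_of_tpoly_dvd (A : Matrix (Fin 2) (Fin 2) F) (hA : A.det = 1) (k : ℕ) (ε : F)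
    (h : tpoly (A 0 0 + A 1 1) ∣ X ^ k - C ε) : A ^ k = ε • (1 : Matrix (Fin 2) (Fin 2) F) := by
  obtain ⟨g, hg⟩ := h
  have h1 := congrArg (aeval A) hg
  rw [map_mul, aeval_tpoly A hA, zero_mul] at h1
  simp only [map_sub, map_pow, aeval_X, aeval_C] at h1
  rw [Algebra.algebraMap_eq_smul_one] at h1
  exact sub_eq_zero.1 h1

theorem tpoly_monic (t : F) : (tpoly t).Monic := by
  have : tpoly t = X ^ 2 + (C (-t) * X + C 1) := by
    simp [tpoly]; ring
  rw [this]
  apply Polynomial.monic_X_pow_add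
  exact lt_of_le_of_lt (degree_linear_le) (by norm_num)

theorem tpoly_natDegree (t : F) : (tpoly t).natDegree = 2 := by
  have : tpoly t = C 1 * X ^ 2 + C (-t) * X + C 1 := by
    simp [tpoly]; ring
  rw [this]
  exact natDegree_quadratic one_ne_zero

theorem tpoly_eval (t x : F) : (tpoly t).eval x = x ^ 2 - t * x + 1 := by
  simp [tpoly]

theorem tpoly_eq_mul (t a b : F) (hab : a + b = t) (hab' : a * b = 1) :
    tpoly t = (X - C a) * (X - C b) := by
  simp only [tpoly, ← hab]
  have : (1 : F[X]) = C a * C b := by rw [← C_mul, hab', C_1]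
  rw [this, C_add]
  ring

/-- Two distinct roots with the same `k`-th power `ε`. -/
theorem tpoly_dvd_of_roots (t a b ε : F) (hab : a + b = t) (hab' : a * b = 1) (hne : a ≠ b) (k : ℕ)
    (ha : a ^ k = ε) (hb : b ^ k = ε) : tpoly t ∣ X ^ k - C ε := by
  rw [tpoly_eq_mul t a b hab hab']
  apply IsCoprime.mul_dvd
  · exact Polynomial.isCoprime_X_sub_C_of_isUnit_sub (sub_ne_zero.2 hne).isUnit
  · rw [Polynomial.dvd_iff_isRoot]; simp [ha]
  · rw [Polynomial.dvd_iff_isRoot]; simp [hb]

/-- A double root `a` (so `a² = 1`): the `p`-th power is scalar in characteristic `p`. -/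
theorem tpoly_dvd_of_double_root (p : ℕ) [Fact p.Prime] [CharP F p] (t a : F) (hab : a + a = t)
    (hab' : a * a = 1) : tpoly t ∣ X ^ p - C (a ^ p) := by
  rw [tpoly_eq_mul t a a hab hab']
  have hp : (X - C a : F[X]) ^ p = X ^ p - C (a ^ p) := by
    rw [sub_pow_char, C_pow]
  rw [← hp, ← pow_two]
  exact pow_dvd_pow _ (Fact.out : p.Prime).two_le

end Cfsg.Agent.H41
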