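import Mathlib
import Cfsg.Agent.H41.SL2Poly

set_option autoImplicit false

namespace Cfsg.Agent.H41

open Polynomial Matrix

section arith

theorem sub_one_dvd_two_mul (q : ℕ) (hq : 1 ≤ q) :
    (q - 1) ∣ 2 * ((q - 1) / Nat.gcd 2 (q - 1)) := by
  rcases Nat.even_or_odd q with ⟨j, hj⟩ | ⟨j, hj⟩
  · have h1 : Nat.gcd 2 (q - 1) = 1 := by
      have : Odd (q - 1) := ⟨j - 1, by omega⟩
      exact Nat.coprime_two_left.2 this
    rw [h1, Nat.div_one]
    exact dvd_mul_left _ _
  · have h1 : Nat.gcd 2 (q - 1) = 2 := Nat.gcd_eq_left ⟨j, by omega⟩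
    rw [h1]
    have : (q - 1) / 2 = j := by omega
    rw [this]
    exact ⟨1, by omega⟩

theorem add_one_dvd_two_mul (q : ℕ) (hq : 1 ≤ q) :
    (q + 1) ∣ 2 * ((q + 1) / Nat.gcd 2 (q - 1)) := by
  rcases Nat.even_or_odd q with ⟨j, hj⟩ | ⟨j, hj⟩
  · have h1 : Nat.gcd 2 (q - 1) = 1 := by
      have : Odd (q - 1) := ⟨j - 1, by omega⟩
      exact Nat.coprime_two_left.2 this
    rw [h1, Nat.div_one]
    exact dvd_mul_left _ _
  · have h1 : Nat.gcd 2 (q - 1) = 2 := Nat.gcd_eq_left ⟨j, by omega⟩
    rw [h1]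
    have : (q + 1) / 2 = j + 1 := by omega
    rw [this]
    exact ⟨1, by omega⟩

end arith

section quad

variable {F : Type*} [Field F] [Fintype F]
variable {K : Type*} [Field K] [Algebra F K] [Finite K]

theorem natCard_quad (h2 : Module.finrank F K = 2) : Nat.card K = Fintype.card F ^ 2 := by
  have : Module.Finite F K := .of_finite
  rw [Module.natCard_eq_pow_finrank (K := F) (V := K), h2, Nat.card_eq_fintype_card]

/-- The norm of `x` is `x ^ (q + 1)`. -/
theorem algebraMap_norm_quad (h2 : Module.finrank F K = 2) (x : K) :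
    algebraMap F K (Algebra.norm F x) = x ^ (Fintype.card F + 1) := by
  rw [FiniteField.algebraMap_norm_eq_pow, natCard_quad h2, Nat.card_eq_fintype_card]
  have hq : 2 ≤ Fintype.card F := Fintype.one_lt_card
  obtain ⟨m, hm⟩ : ∃ m, Fintype.card F = m + 2 := ⟨Fintype.card F - 2, by omega⟩
  rw [hm]
  have : (m + 2) ^ 2 - 1 = (m + 2 + 1) * (m + 2 - 1) := by
    have : (m + 2) ^ 2 = (m + 2 + 1) * (m + 2 - 1) + 1 := by
      have : m + 2 - 1 = m + 1 := by omega
      rw [this]; ring
    omega
  rw [this, Nat.mul_div_cancel _ (by omega)]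

/-- Elements fixed by the Frobenius lie in the base field. -/
theorem mem_range_of_pow_card_eq (a : K) (ha : a ^ Fintype.card F = a) :
    a ∈ Set.range (algebraMap F K) := by
  have : Module.Finite F K := .of_finite
  rw [IsGalois.mem_range_algebraMap_iff_fixed]
  intro g
  obtain ⟨n, rfl⟩ := (FiniteField.bijective_frobeniusAlgEquivOfAlgebraic_pow F K).2 g
  simp only [AlgEquiv.coe_pow]
  apply Function.iterate_fixed
  rw [FiniteField.coe_frobeniusAlgEquivOfAlgebraic]
  exact ha

/-- A root in `K` of `X² - tX + 1` having no root in `F` satisfies `a^q = t - a`, `a^(q+1) = 1`. -/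
theorem root_pow_card (t : F) (hroot : ∀ x : F, x ^ 2 - t * x + 1 ≠ 0) (a : K)
    (ha : a ^ 2 - algebraMap F K t * a + 1 = 0) :
    a ^ Fintype.card F = algebraMap F K t - a ∧ a ^ (Fintype.card F + 1) = 1 := by
  have hne : a ^ Fintype.card F ≠ a := by
    intro h
    obtain ⟨c, rfl⟩ := mem_range_of_pow_card_eq a h
    apply hroot c
    apply (algebraMap F K).injective
    simpa using ha
  have hσ : (a ^ Fintype.card F) ^ 2 - algebraMap F K t * a ^ Fintype.card F + 1 = 0 := by
    have h := congrArg (FiniteField.frobeniusAlgHom F K) ha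
    rw [map_add, map_sub, map_mul, map_pow, map_one, map_zero, AlgHom.commutes] at h
    have e : ∀ x : K, FiniteField.frobeniusAlgHom F K x = x ^ Fintype.card F := fun x => rfl
    rw [e] at h
    exact h
  have hprod : (a ^ Fintype.card F - a) * (a ^ Fintype.card F - (algebraMap F K t - a)) = 0 := by
    linear_combination hσ - ha
  have h1 : a ^ Fintype.card F = algebraMap F K t - a := by
    rcases mul_eq_zero.1 hprod with h | h
    · exact absurd (sub_eq_zero.1 h) hne
    · exact sub_eq_zero.1 h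
  refine ⟨h1, ?_⟩
  rw [pow_succ, h1]
  linear_combination (-1 : K) * ha

/-- A quadratic extension contains a root of every irreducible quadratic polynomial. -/
theorem exists_root_quad (p : ℕ) [Fact p.Prime] [CharP F p] (h2 : Module.finrank F K = 2)
    (f : F[X]) (hf : Irreducible f) (hdeg : f.natDegree = 2) : ∃ a : K, aeval a f = 0 := by
  have : Fact (Irreducible f) := ⟨hf⟩
  have : NeZero (2 : ℕ) := ⟨by norm_num⟩
  let e₁ := FiniteField.algEquivExtension F p 2 (AdjoinRoot f)
    ((finrank_quotient_span_eq_natDegree (f := f)).trans hdeg)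
  let e₂ := FiniteField.algEquivExtension F p 2 K h2
  refine ⟨e₂.symm (e₁ (AdjoinRoot.root f)), ?_⟩
  have h := Polynomial.aeval_algHom_apply ((e₁.trans e₂.symm : AdjoinRoot f ≃ₐ[F] K) : AdjoinRoot f →ₐ[F] K)
    (AdjoinRoot.root f) f
  simp only [AlgEquiv.coe_toAlgHom, AlgEquiv.trans_apply] at h
  rw [h, AdjoinRoot.aeval_eq, AdjoinRoot.mk_self, map_zero, map_zero]

end quad

section main

variable {F : Type*} [Field F] [Fintype F]

/-- Every element of `SL₂(q)` has a power, with exponent `p`, `(q-1)/d` or `(q+1)/d`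
(`d = gcd(2, q-1)`), which is `±1`. -/
theorem exists_pow_eq_smul (p : ℕ) [Fact p.Prime] [CharP F p] (A : Matrix (Fin 2) (Fin 2) F)
    (hA : A.det = 1) :
    ∃ (k : ℕ) (ε : F), (k = p ∨ k = (Fintype.card F - 1) / Nat.gcd 2 (Fintype.card F - 1) ∨
        k = (Fintype.card F + 1) / Nat.gcd 2 (Fintype.card F - 1)) ∧ ε * ε = 1 ∧
      A ^ k = ε • (1 : Matrix (Fin 2) (Fin 2) F) := by
  set t := A 0 0 + A 1 1 with ht
  set q := Fintype.card F with hq
  have hq1 : 1 ≤ q := Fintype.card_pos
  by_cases hroot : ∃ a : F, a ^ 2 - t * a + 1 = 0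
  · obtain ⟨a, ha⟩ := hroot
    have hab : a + (t - a) = t := by ring
    have hab' : a * (t - a) = 1 := by linear_combination (-1 : F) * ha
    by_cases hne : a = t - a
    · refine ⟨p, a ^ p, Or.inl rfl, ?_, ?_⟩
      · rw [← hne] at hab'
        rw [← mul_pow, hab', one_pow]
      · apply pow_eq_smul_of_tpoly_dvd A hA
        rw [← hne] at hab hab'
        exact tpoly_dvd_of_double_root p t a hab hab'
    · set k := (q - 1) / Nat.gcd 2 (q - 1) with hk
      have ha0 : a ≠ 0 := by rintro rfl; simp at hab'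
      have h2k : a ^ (2 * k) = 1 := by
        obtain ⟨c, hc⟩ := sub_one_dvd_two_mul q hq1
        rw [hc, pow_mul, FiniteField.pow_card_sub_one_eq_one a ha0, one_pow]
      have hsq : a ^ k * a ^ k = 1 := by rw [← pow_add, ← two_mul]; exact h2k
      refine ⟨k, a ^ k, Or.inr (Or.inl rfl), hsq, ?_⟩
      apply pow_eq_smul_of_tpoly_dvd A hA
      apply tpoly_dvd_of_roots t a (t - a) (a ^ k) hab hab' hne k rfl
      have h1 : t - a = a⁻¹ := eq_inv_of_mul_eq_one_right hab'
      rw [h1, inv_pow]
      exact inv_eq_of_mul_eq_one_left hsq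
  · push Not at hroot
    have : NeZero (2 : ℕ) := ⟨by norm_num⟩
    have h2 : Module.finrank F (FiniteField.Extension F p 2) = 2 :=
      FiniteField.finrank_extension F p 2
    have hirr : Irreducible (tpoly t) :=
      irreducible_of_degree_le_three_of_not_isRoot (by rw [tpoly_natDegree]; decide)
        (fun x hx => hroot x (by simpa [tpoly_eval] using hx))
    obtain ⟨a, ha⟩ := exists_root_quad (K := FiniteField.Extension F p 2) p h2 (tpoly t) hirr
      (tpoly_natDegree t)
    have ha' : a ^ 2 - algebraMap F (FiniteField.Extension F p 2) t * a + 1 = 0 := by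
      simpa [tpoly] using ha
    obtain ⟨h1, h3⟩ := root_pow_card t hroot a ha'
    set k := (q + 1) / Nat.gcd 2 (q - 1) with hk
    have h2k : a ^ (2 * k) = 1 := by
      obtain ⟨c, hc⟩ := add_one_dvd_two_mul q hq1
      rw [hc, pow_mul, h3, one_pow]
    have hsq : a ^ k * a ^ k = 1 := by rw [← pow_add, ← two_mul]; exact h2k
    have hmin := minpoly.eq_of_irreducible_of_monic hirr ha (tpoly_monic t)
    rcases mul_self_eq_one_iff.1 hsq with h | h
    · refine ⟨k, 1, Or.inr (Or.inr rfl), by simp, ?_⟩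
      apply pow_eq_smul_of_tpoly_dvd A hA
      rw [← ht, hmin]
      apply minpoly.dvd
      simp [h]
    · refine ⟨k, -1, Or.inr (Or.inr rfl), by simp, ?_⟩
      apply pow_eq_smul_of_tpoly_dvd A hA
      rw [← ht, hmin]
      apply minpoly.dvd
      simp [h]

end main

end Cfsg.Agent.H41
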