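import Mathlib
import Cfsg.Agent.H41.SL2Quad

set_option autoImplicit false

namespace Cfsg.Agent.H41

open Matrix

theorem orderOf_eq_of_forall_pow {G : Type*} [Monoid G] (x : G) (m : ℕ)
    (h : ∀ n : ℕ, x ^ n = 1 ↔ m ∣ n) : orderOf x = m :=
  Nat.dvd_antisymm (orderOf_dvd_of_pow_eq_one ((h m).2 dvd_rfl)) ((h _).1 (pow_orderOf_eq_one x))

section arith2

theorem add_one_dvd_two_mul_iff (q n : ℕ) (hq : 1 ≤ q) :
    (q + 1) ∣ 2 * n ↔ (q + 1) / Nat.gcd 2 (q - 1) ∣ n := by
  rcases Nat.even_or_odd q with ⟨j, hj⟩ | ⟨j, hj⟩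
  · have h1 : Nat.gcd 2 (q - 1) = 1 := by
      have : Odd (q - 1) := ⟨j - 1, by omega⟩
      exact Nat.coprime_two_left.2 this
    rw [h1, Nat.div_one]
    have hc : Nat.Coprime (q + 1) 2 := by
      rw [Nat.coprime_comm, Nat.coprime_two_left]; exact ⟨j, by omega⟩
    exact hc.dvd_mul_left
  · have h1 : Nat.gcd 2 (q - 1) = 2 := Nat.gcd_eq_left ⟨j, by omega⟩
    rw [h1]
    have h3 : (q + 1) / 2 = j + 1 := by omega
    have h4 : q + 1 = 2 * (j + 1) := by omega
    rw [h3, h4]
    exact Nat.mul_dvd_mul_iff_left (by norm_num)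

theorem sub_one_dvd_two_mul_iff (q n : ℕ) (hq : 2 ≤ q) :
    (q - 1) ∣ 2 * n ↔ (q - 1) / Nat.gcd 2 (q - 1) ∣ n := by
  rcases Nat.even_or_odd q with ⟨j, hj⟩ | ⟨j, hj⟩
  · have hodd : Odd (q - 1) := ⟨j - 1, by omega⟩
    have h1 : Nat.gcd 2 (q - 1) = 1 := Nat.coprime_two_left.2 hodd
    rw [h1, Nat.div_one]
    have hc : Nat.Coprime (q - 1) 2 := by
      rw [Nat.coprime_comm, Nat.coprime_two_left]; exact hodd
    exact hc.dvd_mul_left
  · have h1 : Nat.gcd 2 (q - 1) = 2 := Nat.gcd_eq_left ⟨j, by omega⟩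
    rw [h1]
    have h3 : (q - 1) / 2 = j := by omega
    have h4 : q - 1 = 2 * j := by omega
    rw [h3, h4]
    exact Nat.mul_dvd_mul_iff_left (by norm_num)

end arith2

section torus

variable {F : Type*} [Field F] [Fintype F]
variable {K : Type*} [Field K] [Algebra F K] [Finite K]

theorem norm_eq_one_of_pow (h2 : Module.finrank F K = 2) (x : K)
    (hx : x ^ (Fintype.card F + 1) = 1) : Algebra.norm F x = 1 := by
  apply (algebraMap F K).injective
  rw [algebraMap_norm_quad h2, hx, map_one]

theorem card_rootsOfUnity_quad (h2 : Module.finrank F K = 2) :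
    Nat.card (rootsOfUnity (Fintype.card F + 1) K) = Fintype.card F + 1 := by
  obtain ⟨α, hα⟩ := IsCyclic.exists_ofOrder_eq_natCard (α := Kˣ)
  rw [Nat.card_units, natCard_quad h2] at hα
  have hq : 2 ≤ Fintype.card F := Fintype.one_lt_card
  obtain ⟨m, hm⟩ : ∃ m, Fintype.card F = m + 2 := ⟨Fintype.card F - 2, by omega⟩
  have hsq : Fintype.card F ^ 2 - 1 = (Fintype.card F + 1) * (Fintype.card F - 1) := by
    rw [hm]
    have : (m + 2) ^ 2 = (m + 2 + 1) * (m + 2 - 1) + 1 := by
      have : m + 2 - 1 = m + 1 := by omega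
      rw [this]; ring
    omega
  have hβ : orderOf (α ^ (Fintype.card F - 1)) = Fintype.card F + 1 := by
    rw [orderOf_pow' _ (by omega), hα, hsq, Nat.gcd_mul_left_left,
      Nat.mul_div_cancel _ (by omega)]
  have hprim : IsPrimitiveRoot (α ^ (Fintype.card F - 1)) (Fintype.card F + 1) :=
    hβ ▸ IsPrimitiveRoot.orderOf _
  exact hprim.card_rootsOfUnity'

/-- The embedding of the norm-one elements of a quadratic extension `K` into `SL₂(F)`. -/
noncomputable def torusHom (h2 : Module.finrank F K = 2) (b : Module.Basis (Fin 2) F K) :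
    rootsOfUnity (Fintype.card F + 1) K →* Matrix.SpecialLinearGroup (Fin 2) F where
  toFun x := ⟨Algebra.leftMulMatrix b ((x : Kˣ) : K), by
    rw [← Algebra.norm_eq_matrix_det]
    exact norm_eq_one_of_pow h2 _ (by
      have h := x.2
      rw [mem_rootsOfUnity] at h
      have h' := congrArg Units.val h
      simpa using h')⟩
  map_one' := by
    apply Subtype.ext
    simp
  map_mul' x y := by
    apply Subtype.ext
    simp only [Subgroup.coe_mul, Units.val_mul, map_mul]
    rfl

theorem torusHom_coe (h2 : Module.finrank F K = 2) (b : Module.Basis (Fin 2) F K)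
    (x : rootsOfUnity (Fintype.card F + 1) K) :
    ((torusHom h2 b x : Matrix.SpecialLinearGroup (Fin 2) F) : Matrix (Fin 2) (Fin 2) F)
      = Algebra.leftMulMatrix b ((x : Kˣ) : K) := rfl

theorem torusHom_injective (h2 : Module.finrank F K = 2) (b : Module.Basis (Fin 2) F K) :
    Function.Injective (torusHom h2 b) := by
  intro x y hxy
  have h := congrArg (fun g : Matrix.SpecialLinearGroup (Fin 2) F => (g : Matrix (Fin 2) (Fin 2) F)) hxy
  simp only [torusHom_coe] at h
  have h' := Algebra.leftMulMatrix_injective b h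
  exact Subtype.ext (Units.ext h')

/-- The non-split torus of `SL₂(F)` attached to a quadratic extension and a basis. -/
noncomputable def torus (h2 : Module.finrank F K = 2) (b : Module.Basis (Fin 2) F K) :
    Subgroup (Matrix.SpecialLinearGroup (Fin 2) F) := (torusHom h2 b).range

theorem mem_torus_iff (h2 : Module.finrank F K = 2) (b : Module.Basis (Fin 2) F K)
    (g : Matrix.SpecialLinearGroup (Fin 2) F) :
    g ∈ torus h2 b ↔ ∃ x : K, Algebra.leftMulMatrix b x = (g : Matrix (Fin 2) (Fin 2) F) := by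
  constructor
  · rintro ⟨x, rfl⟩
    exact ⟨_, rfl⟩
  · rintro ⟨x, hx⟩
    have hn : Algebra.norm F x = 1 := by
      rw [Algebra.norm_eq_matrix_det b, hx]; exact g.2
    have hx1 : x ^ (Fintype.card F + 1) = 1 := by
      rw [← algebraMap_norm_quad h2, hn, map_one]
    have hx0 : x ≠ 0 := by
      rintro rfl
      simp at hx1
    refine ⟨⟨Units.mk0 x hx0, ?_⟩, ?_⟩
    · rw [mem_rootsOfUnity]
      apply Units.ext
      simpa using hx1
    · apply Subtype.ext
      rw [torusHom_coe]
      exact hx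

theorem isCyclic_torus (h2 : Module.finrank F K = 2) (b : Module.Basis (Fin 2) F K) :
    IsCyclic (torus h2 b) := by
  have : IsCyclic (rootsOfUnity (Fintype.card F + 1) K) := rootsOfUnity.isCyclic K _
  exact isCyclic_of_surjective (torusHom h2 b).rangeRestrict (torusHom h2 b).rangeRestrict_surjective

theorem card_torus (h2 : Module.finrank F K = 2) (b : Module.Basis (Fin 2) F K) :
    Nat.card (torus h2 b) = Fintype.card F + 1 := by
  rw [← card_rootsOfUnity_quad h2 (K := K)]
  exact (Nat.card_congr (Equiv.ofInjective _ (torusHom_injective h2 b))).symm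

end torus

end Cfsg.Agent.H41
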