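import Mathlib
import Cfsg.Agent.H41.SL2Torus

set_option autoImplicit false
set_option linter.unusedSimpArgs false
set_option linter.unusedSectionVars false
set_option linter.unusedVariables false
set_option linter.style.haveILetI false

namespace Cfsg.Agent.H41

open Matrix Polynomial

section psl

variable {n : Type*} [Fintype n] [DecidableEq n] {F : Type*} [Field F]

/-- A power of the image in `PSL` is trivial iff the power of the matrix is scalar. -/
theorem psl_pow_eq_one_iff (g : Matrix.SpecialLinearGroup n F) (m : ℕ) :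
    (g : Matrix.ProjectiveSpecialLinearGroup n F) ^ m = 1 ↔
      ∃ c : F, (g : Matrix n n F) ^ m = c • (1 : Matrix n n F) := by
  rw [← QuotientGroup.mk_pow, QuotientGroup.eq_one_iff, Matrix.SpecialLinearGroup.mem_center_iff]
  constructor
  · rintro ⟨r, hr, h⟩
    refine ⟨r, ?_⟩
    rw [← Matrix.SpecialLinearGroup.coe_pow, ← h]
    ext i j
    simp [Matrix.one_apply, Matrix.diagonal_apply]
  · rintro ⟨c, h⟩
    refine ⟨c, ?_, ?_⟩
    · have hdet := congrArg Matrix.det h
      rw [← Matrix.SpecialLinearGroup.coe_pow, Matrix.SpecialLinearGroup.det_coe, Matrix.det_smul,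
        Matrix.det_one, mul_one] at hdet
      exact hdet.symm
    · rw [Matrix.SpecialLinearGroup.coe_pow, h]
      ext i j
      simp [Matrix.one_apply, Matrix.diagonal_apply]

theorem psl_orderOf_eq (g : Matrix.SpecialLinearGroup n F) (N : ℕ)
    (h : ∀ m : ℕ, (∃ c : F, (g : Matrix n n F) ^ m = c • (1 : Matrix n n F)) ↔ N ∣ m) :
    orderOf (g : Matrix.ProjectiveSpecialLinearGroup n F) = N := by
  apply orderOf_eq_of_forall_pow
  intro m
  rw [psl_pow_eq_one_iff]
  exact h m

theorem psl_orderOf_dvd (g : Matrix.SpecialLinearGroup n F) (N : ℕ) (c : F)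
    (h : (g : Matrix n n F) ^ N = c • (1 : Matrix n n F)) :
    orderOf (g : Matrix.ProjectiveSpecialLinearGroup n F) ∣ N := by
  apply orderOf_dvd_of_pow_eq_one
  rw [psl_pow_eq_one_iff]
  exact ⟨c, h⟩

/-- Cayley–Hamilton: if the characteristic polynomial divides `X ^ m - c` then the `m`-th power
is the scalar `c`. -/
theorem pow_eq_smul_of_charpoly_dvd (A : Matrix n n F) (m : ℕ) (c : F)
    (h : A.charpoly ∣ (X ^ m - C c : F[X])) : A ^ m = c • (1 : Matrix n n F) := by
  obtain ⟨R, hR⟩ := h
  have h1 := congrArg (aeval A) hR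
  rw [map_mul, Matrix.aeval_self_charpoly, zero_mul] at h1
  simp only [map_sub, map_pow, aeval_X, aeval_C] at h1
  rw [sub_eq_zero] at h1
  rw [h1, Algebra.algebraMap_eq_smul_one]

end psl

section transfer

variable {F : Type*} [Field F]

/-- Transfer an endomorphism of determinant one of an `N`-dimensional space to `SL_N`. -/
theorem exists_sl_of_end {V : Type*} [AddCommGroup V] [Module F V] [Module.Finite F V]
    (N : ℕ) (hN : Module.finrank F V = N) (φ : Module.End F V) (hdet : LinearMap.det φ = 1) :
    ∃ g : Matrix.SpecialLinearGroup (Fin N) F, ∀ (m : ℕ) (c : F),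
      (g : Matrix (Fin N) (Fin N) F) ^ m = c • (1 : Matrix (Fin N) (Fin N) F) ↔
        φ ^ m = c • (1 : Module.End F V) := by
  classical
  let b := Module.finBasisOfFinrankEq F V hN
  have hd : (LinearMap.toMatrixAlgEquiv b φ).det = 1 := by
    have := LinearMap.det_toMatrix b φ
    rw [hdet] at this
    exact this
  refine ⟨⟨LinearMap.toMatrixAlgEquiv b φ, hd⟩, ?_⟩
  intro m c
  show (LinearMap.toMatrixAlgEquiv b φ) ^ m = c • 1 ↔ _
  rw [← map_pow, ← map_one (LinearMap.toMatrixAlgEquiv b), ← map_smul]
  exact (LinearMap.toMatrixAlgEquiv b).injective.eq_iff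

/-- An endomorphism of determinant one whose powers are scalar exactly at the multiples of `M`
gives an element of order `M` in `PSL`. -/
theorem exists_psl_orderOf {V : Type*} [AddCommGroup V] [Module F V] [Module.Finite F V]
    (N : ℕ) (hN : Module.finrank F V = N) (φ : Module.End F V) (hdet : LinearMap.det φ = 1)
    (M : ℕ) (h : ∀ m : ℕ, (∃ c : F, φ ^ m = c • (1 : Module.End F V)) ↔ M ∣ m) :
    ∃ g : Matrix.ProjectiveSpecialLinearGroup (Fin N) F, orderOf g = M := by
  obtain ⟨g, hg⟩ := exists_sl_of_end N hN φ hdet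
  refine ⟨(g : Matrix.ProjectiveSpecialLinearGroup (Fin N) F), ?_⟩
  apply psl_orderOf_eq
  intro m
  rw [← h m]
  constructor
  · rintro ⟨c, hc⟩
    exact ⟨c, (hg m c).1 hc⟩
  · rintro ⟨c, hc⟩
    exact ⟨c, (hg m c).2 hc⟩

variable {V W : Type*} [AddCommGroup V] [Module F V] [AddCommGroup W] [Module F W]

theorem prodMap_pow_eq (f : Module.End F V) (g : Module.End F W) (m : ℕ) :
    (f.prodMap g) ^ m = (f ^ m).prodMap (g ^ m) := by
  induction m with
  | zero => rw [pow_zero, pow_zero, pow_zero, LinearMap.prodMap_one]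
  | succ m ih => rw [pow_succ, ih, LinearMap.prodMap_mul, ← pow_succ, ← pow_succ]

theorem prodMap_eq_smul_iff (f : Module.End F V) (g : Module.End F W) (c : F) :
    f.prodMap g = c • (1 : Module.End F (V × W)) ↔
      f = c • (1 : Module.End F V) ∧ g = c • (1 : Module.End F W) := by
  constructor
  · intro h
    constructor
    · apply LinearMap.ext
      intro v
      have h1 : (f.prodMap g) (v, (0 : W)) = (c • (1 : Module.End F (V × W))) (v, (0 : W)) := by
        rw [h]
      rw [LinearMap.prodMap_apply] at h1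
      have h2 := congrArg Prod.fst h1
      simpa using h2
    · apply LinearMap.ext
      intro w
      have h1 : (f.prodMap g) ((0 : V), w) = (c • (1 : Module.End F (V × W))) ((0 : V), w) := by
        rw [h]
      rw [LinearMap.prodMap_apply] at h1
      have h2 := congrArg Prod.snd h1
      simpa using h2
  · rintro ⟨hf, hg⟩
    apply LinearMap.ext
    rintro ⟨v, w⟩
    rw [LinearMap.prodMap_apply, hf, hg]
    simp

theorem prodMap_pow_eq_smul_iff (f : Module.End F V) (g : Module.End F W) (m : ℕ) (c : F) :
    (f.prodMap g) ^ m = c • (1 : Module.End F (V × W)) ↔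
      f ^ m = c • (1 : Module.End F V) ∧ g ^ m = c • (1 : Module.End F W) := by
  rw [prodMap_pow_eq, prodMap_eq_smul_iff]

end transfer

section lmul

variable {F : Type*} [Field F] {K : Type*} [Field K] [Algebra F K]

theorem lmul_pow_eq_smul_iff (x : K) (m : ℕ) (c : F) :
    (Algebra.lmul F K x) ^ m = c • (1 : Module.End F K) ↔ x ^ m = algebraMap F K c := by
  rw [← map_pow]
  constructor
  · intro h
    have := congrArg (fun φ : Module.End F K => φ 1) h
    simpa [Algebra.algebraMap_eq_smul_one] using this
  · intro h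
    ext y
    simp [h, Algebra.smul_def]

end lmul

end Cfsg.Agent.H41
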