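import Mathlib
import Cfsg.Agent.H41.PSLn
import Cfsg.Agent.H41.FinFieldAux

set_option autoImplicit false
set_option linter.unusedSimpArgs false
set_option linter.unusedSectionVars false
set_option linter.unusedVariables false
set_option linter.style.haveILetI false

namespace Cfsg.Agent.H41

open Matrix Polynomial

section gens

/-- A generator of the multiplicative group of a finite field. -/
theorem exists_gen (K : Type*) [Field K] [Finite K] :
    ∃ ζ : K, ζ ≠ 0 ∧ ∀ m : ℕ, ζ ^ m = 1 ↔ (Nat.card K - 1) ∣ m := by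
  obtain ⟨α, hα⟩ := IsCyclic.exists_ofOrder_eq_natCard (α := Kˣ)
  rw [Nat.card_units] at hα
  refine ⟨(α : K), α.ne_zero, ?_⟩
  intro m
  rw [← hα, orderOf_dvd_iff_pow_eq_one, ← Units.val_pow_eq_pow_val, Units.val_eq_one]

end gens

section blocks

variable {F : Type*} [Field F]

theorem toLin'_pow_eq_smul_iff {ι : Type*} [Fintype ι] [DecidableEq ι] (A : Matrix ι ι F) (m : ℕ)
    (c : F) : (Matrix.toLin' A) ^ m = c • (1 : Module.End F (ι → F)) ↔
      A ^ m = c • (1 : Matrix ι ι F) := by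
  have h1 : (Matrix.toLin' A) ^ m = Matrix.toLinAlgEquiv' (A ^ m) := by
    rw [map_pow]
    rfl
  have h2 : c • (1 : Module.End F (ι → F)) = Matrix.toLinAlgEquiv' (c • (1 : Matrix ι ι F)) := by
    rw [map_smul, map_one]
  rw [h1, h2]
  exact Matrix.toLinAlgEquiv'.injective.eq_iff

theorem jordan_pow (a : F) (ha : a ≠ 0) (m : ℕ) :
    (!![a, 1; 0, a] : Matrix (Fin 2) (Fin 2) F) ^ m = a ^ m • !![1, (m : F) * a⁻¹; 0, 1] := by
  induction m with
  | zero =>
    ext i j
    fin_cases i <;> fin_cases j <;> simp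
  | succ m ih =>
    rw [pow_succ, ih]
    ext i j
    fin_cases i <;> fin_cases j <;> simp [Matrix.mul_apply, Fin.sum_univ_two, pow_succ] <;>
      field_simp <;> ring

theorem jordan_pow_eq_smul_iff (a : F) (ha : a ≠ 0) (m : ℕ) (c : F) :
    (!![a, 1; 0, a] : Matrix (Fin 2) (Fin 2) F) ^ m = c • (1 : Matrix (Fin 2) (Fin 2) F) ↔
      a ^ m = c ∧ (m : F) = 0 := by
  rw [jordan_pow a ha]
  constructor
  · intro h
    have h00 := congrFun (congrFun h 0) 0
    have h01 := congrFun (congrFun h 0) 1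
    simp at h00
    refine ⟨h00, ?_⟩
    by_contra hm
    simp [ha, hm] at h01
  · rintro ⟨h1, h2⟩
    ext i j
    fin_cases i <;> fin_cases j <;> simp [h1, h2]

theorem det_lmul_self (a : F) : LinearMap.det (Algebra.lmul F F a) = a := by
  rw [← Algebra.norm_apply, Algebra.norm_self]
  rfl

end blocks

section exist

variable {F : Type*} [Field F] [Fintype F]

/-- Diagonal elements of `SL₃`, through their action. -/
theorem exists_psl3_orderOf_sub_one :
    ∃ g : Matrix.ProjectiveSpecialLinearGroup (Fin 3) F, orderOf g = Fintype.card F - 1 := by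
  obtain ⟨a, ha0, ha⟩ := exists_gen F
  rw [Nat.card_eq_fintype_card] at ha
  apply exists_psl_orderOf (V := F × F × F) 3 (by simp)
    ((Algebra.lmul F F a).prodMap ((Algebra.lmul F F a⁻¹).prodMap (Algebra.lmul F F 1)))
  · rw [LinearMap.det_prodMap, LinearMap.det_prodMap, det_lmul_self, det_lmul_self,
      det_lmul_self, mul_one, mul_inv_cancel₀ ha0]
  · intro m
    constructor
    · rintro ⟨c, hc⟩
      rw [prodMap_pow_eq_smul_iff, prodMap_pow_eq_smul_iff, lmul_pow_eq_smul_iff,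
        lmul_pow_eq_smul_iff, lmul_pow_eq_smul_iff, one_pow] at hc
      obtain ⟨h1, -, h3⟩ := hc
      rw [← ha m, h1, ← h3]
    · intro h
      refine ⟨1, ?_⟩
      rw [prodMap_pow_eq_smul_iff, prodMap_pow_eq_smul_iff, lmul_pow_eq_smul_iff,
        lmul_pow_eq_smul_iff, lmul_pow_eq_smul_iff, one_pow, inv_pow, (ha m).2 h]
      simp

/-- Elements of order `p (q - 1) / d`. -/
theorem exists_psl3_orderOf_char (p : ℕ) [Fact p.Prime] [CharP F p] :
    ∃ g : Matrix.ProjectiveSpecialLinearGroup (Fin 3) F,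
      orderOf g = p * (Fintype.card F - 1) / Nat.gcd 3 (Fintype.card F - 1) := by
  have hp : p.Prime := Fact.out
  obtain ⟨a, ha0, ha⟩ := exists_gen F
  rw [Nat.card_eq_fintype_card] at ha
  have hq : 2 ≤ Fintype.card F := Fintype.one_lt_card
  obtain ⟨n, -, hn⟩ := FiniteField.card F p
  have hpq : p ∣ Fintype.card F := by
    rw [hn]
    exact dvd_pow_self p n.ne_zero
  have hcop : Nat.Coprime p (Fintype.card F - 1) := by
    rw [Nat.Prime.coprime_iff_not_dvd hp]
    intro h
    have h1 : p ∣ (Fintype.card F - 1) + 1 := by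
      rw [Nat.sub_add_cancel (by omega)]
      exact hpq
    exact hp.one_lt.ne' (Nat.dvd_one.1 ((Nat.dvd_add_right h).1 h1))
  have hd : Nat.gcd 3 (Fintype.card F - 1) ∣ Fintype.card F - 1 := Nat.gcd_dvd_right _ _
  rw [Nat.mul_div_assoc p hd]
  have hcop' : Nat.Coprime p ((Fintype.card F - 1) / Nat.gcd 3 (Fintype.card F - 1)) :=
    Nat.Coprime.coprime_dvd_right (Nat.div_dvd_of_dvd hd) hcop
  apply exists_psl_orderOf (V := (Fin 2 → F) × F) 3 (by simp)
    ((Matrix.toLin' (!![a, 1; 0, a] : Matrix (Fin 2) (Fin 2) F)).prodMap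
      (Algebra.lmul F F (a⁻¹ * a⁻¹)))
  · rw [LinearMap.det_prodMap, LinearMap.det_toLin', det_lmul_self, Matrix.det_fin_two_of]
    field_simp
    ring
  · intro m
    have key : (∃ c : F, a ^ m = c ∧ (m : F) = 0 ∧ (a⁻¹ * a⁻¹) ^ m = c) ↔
        p * ((Fintype.card F - 1) / Nat.gcd 3 (Fintype.card F - 1)) ∣ m := by
      have h3 : (a⁻¹ * a⁻¹) ^ m = a ^ m ↔ Fintype.card F - 1 ∣ 3 * m := by
        rw [← ha (3 * m)]
        have ham : a ^ m ≠ 0 := pow_ne_zero m ha0
        have e : a ^ (3 * m) = a ^ m * a ^ m * a ^ m := by ring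
        rw [e]
        have e2 : (a⁻¹ * a⁻¹) ^ m * (a ^ m * a ^ m) = 1 := by
          rw [← mul_pow, ← mul_pow]
          have e3 : a⁻¹ * a⁻¹ * (a * a) = 1 := by field_simp
          rw [e3, one_pow]
        constructor
        · intro h
          calc a ^ m * a ^ m * a ^ m = (a⁻¹ * a⁻¹) ^ m * (a ^ m * a ^ m) := by rw [h]; ring
            _ = 1 := e2
        · intro h
          calc (a⁻¹ * a⁻¹) ^ m = (a⁻¹ * a⁻¹) ^ m * (a ^ m * a ^ m * a ^ m) := by rw [h, mul_one]
            _ = ((a⁻¹ * a⁻¹) ^ m * (a ^ m * a ^ m)) * a ^ m := by ring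
            _ = a ^ m := by rw [e2, one_mul]
      rw [dvd_mul_iff_div_gcd _ _ _ (by omega : 0 < Fintype.card F - 1), Nat.gcd_comm] at h3
      constructor
      · rintro ⟨c, h1, h2, h4⟩
        rw [← h1] at h4
        exact Nat.Coprime.mul_dvd_of_dvd_of_dvd hcop' ((CharP.cast_eq_zero_iff F p m).1 h2)
          (h3.1 h4)
      · intro h
        refine ⟨a ^ m, rfl, ?_, ?_⟩
        · exact (CharP.cast_eq_zero_iff F p m).2 (dvd_of_mul_right_dvd h)
        · exact h3.2 (dvd_of_mul_left_dvd h)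
    rw [← key]
    constructor
    · rintro ⟨c, hc⟩
      rw [prodMap_pow_eq_smul_iff, toLin'_pow_eq_smul_iff, jordan_pow_eq_smul_iff a ha0,
        lmul_pow_eq_smul_iff] at hc
      exact ⟨c, hc.1.1, hc.1.2, hc.2⟩
    · rintro ⟨c, h1, h2, h4⟩
      refine ⟨c, ?_⟩
      rw [prodMap_pow_eq_smul_iff, toLin'_pow_eq_smul_iff, jordan_pow_eq_smul_iff a ha0,
        lmul_pow_eq_smul_iff]
      exact ⟨⟨h1, h2⟩, h4⟩

/-- Elements of order `4` in characteristic two. -/
theorem exists_psl3_orderOf_four [CharP F 2] :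
    ∃ g : Matrix.ProjectiveSpecialLinearGroup (Fin 3) F, orderOf g = 4 := by
  have h2 : (1 : F) + 1 = 0 := by
    rw [one_add_one_eq_two]
    exact CharTwo.two_eq_zero
  have hdet : (!![1, 1, 0; 0, 1, 1; 0, 0, 1] : Matrix (Fin 3) (Fin 3) F).det = 1 := by
    simp [Matrix.det_fin_three]
  have hU2 : (!![1, 1, 0; 0, 1, 1; 0, 0, 1] : Matrix (Fin 3) (Fin 3) F) ^ 2 =
      !![1, 0, 1; 0, 1, 0; 0, 0, 1] := by
    rw [pow_two]
    ext i j
    fin_cases i <;> fin_cases j <;> simp [Matrix.mul_apply, Fin.sum_univ_three, h2]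
  have hU4 : (!![1, 1, 0; 0, 1, 1; 0, 0, 1] : Matrix (Fin 3) (Fin 3) F) ^ 4 = 1 := by
    have e : (4 : ℕ) = 2 * 2 := by norm_num
    rw [e, pow_mul, hU2, pow_two]
    ext i j
    fin_cases i <;> fin_cases j <;> simp [Matrix.mul_apply, Fin.sum_univ_three, h2]
  obtain ⟨g, hg⟩ : ∃ g : Matrix.SpecialLinearGroup (Fin 3) F,
      (g : Matrix (Fin 3) (Fin 3) F) = !![1, 1, 0; 0, 1, 1; 0, 0, 1] := ⟨⟨_, hdet⟩, rfl⟩
  refine ⟨(g : Matrix.ProjectiveSpecialLinearGroup (Fin 3) F), ?_⟩
  have e4 : (4 : ℕ) = 2 ^ (1 + 1) := by norm_num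
  rw [e4]
  apply orderOf_eq_prime_pow
  · rw [pow_one, psl_pow_eq_one_iff]
    rintro ⟨c, hc⟩
    rw [hg, hU2] at hc
    have h02 := congrFun (congrFun hc 0) 2
    simp at h02
  · rw [psl_pow_eq_one_iff]
    refine ⟨1, ?_⟩
    have e : (2 : ℕ) ^ (1 + 1) = 4 := by norm_num
    rw [e, one_smul, hg]
    exact hU4

/-- Singer elements: order `(q² + q + 1) / d`. -/
theorem exists_psl3_orderOf_singer (p : ℕ) [Fact p.Prime] [CharP F p] :
    ∃ g : Matrix.ProjectiveSpecialLinearGroup (Fin 3) F,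
      orderOf g = (Fintype.card F ^ 2 + Fintype.card F + 1) / Nat.gcd 3 (Fintype.card F - 1) := by
  haveI : NeZero (3 : ℕ) := ⟨by norm_num⟩
  obtain ⟨ζ, hζ0, hζ⟩ := exists_gen (FiniteField.Extension F p 3)
  rw [FiniteField.natCard_extension, Nat.card_eq_fintype_card] at hζ
  have hq : 2 ≤ Fintype.card F := Fintype.one_lt_card
  have hfac : Fintype.card F ^ 3 - 1 =
      (Fintype.card F - 1) * (Fintype.card F ^ 2 + Fintype.card F + 1) := by
    obtain ⟨j, hj⟩ : ∃ j, Fintype.card F = j + 1 := ⟨Fintype.card F - 1, by omega⟩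
    rw [hj]
    have : (j + 1) ^ 3 = j * ((j + 1) ^ 2 + (j + 1) + 1) + 1 := by ring
    rw [Nat.add_sub_cancel]
    omega
  have hx0 : ζ ^ (Fintype.card F - 1) ≠ 0 := pow_ne_zero _ hζ0
  have hxpow : ∀ m : ℕ, (ζ ^ (Fintype.card F - 1)) ^ m = 1 ↔
      (Fintype.card F ^ 2 + Fintype.card F + 1) ∣ m := by
    intro m
    rw [← pow_mul, hζ, hfac]
    exact Nat.mul_dvd_mul_iff_left (by omega)
  apply exists_psl_orderOf (V := FiniteField.Extension F p 3) 3
    (FiniteField.finrank_extension F p 3) (Algebra.lmul F _ (ζ ^ (Fintype.card F - 1)))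
  · rw [← Algebra.norm_apply]
    apply (algebraMap F (FiniteField.Extension F p 3)).injective
    rw [FiniteField.algebraMap_norm_eq_pow, map_one, FiniteField.natCard_extension,
      Nat.card_eq_fintype_card, hfac, Nat.mul_div_cancel_left _ (by omega)]
    exact (hxpow _).2 dvd_rfl
  · intro m
    have key : (∃ c : F, (ζ ^ (Fintype.card F - 1)) ^ m =
        algebraMap F (FiniteField.Extension F p 3) c) ↔
        (Fintype.card F ^ 2 + Fintype.card F + 1) ∣ (Fintype.card F - 1) * m := by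
      constructor
      · rintro ⟨c, hc⟩
        have h1 := algebraMap_pow_card_sub_one c _ (pow_ne_zero m hx0) hc.symm
        rw [← pow_mul, hxpow, mul_comm] at h1
        exact h1
      · intro h
        have h1 : ((ζ ^ (Fintype.card F - 1)) ^ m) ^ (Fintype.card F - 1) = 1 := by
          rw [← pow_mul, hxpow, mul_comm]
          exact h
        obtain ⟨c, hc⟩ := mem_range_of_pow_card_sub_one _ h1
        exact ⟨c, hc.symm⟩
    rw [dvd_mul_iff_div_gcd _ _ _ (by positivity), gcd_sq_add _ (by omega)] at key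
    rw [← key]
    constructor
    · rintro ⟨c, hc⟩
      exact ⟨c, (lmul_pow_eq_smul_iff _ m c).1 hc⟩
    · rintro ⟨c, hc⟩
      exact ⟨c, (lmul_pow_eq_smul_iff _ m c).2 hc⟩

/-- Elements of order `(q² - 1) / d`. -/
theorem exists_psl3_orderOf_quad (p : ℕ) [Fact p.Prime] [CharP F p] :
    ∃ g : Matrix.ProjectiveSpecialLinearGroup (Fin 3) F,
      orderOf g = (Fintype.card F ^ 2 - 1) / Nat.gcd 3 (Fintype.card F - 1) := by
  haveI : NeZero (2 : ℕ) := ⟨by norm_num⟩
  obtain ⟨y, hy0, hy⟩ := exists_gen (FiniteField.Extension F p 2)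
  rw [FiniteField.natCard_extension, Nat.card_eq_fintype_card] at hy
  have hq : 2 ≤ Fintype.card F := Fintype.one_lt_card
  have hfac : Fintype.card F ^ 2 - 1 = (Fintype.card F - 1) * (Fintype.card F + 1) := by
    obtain ⟨j, hj⟩ : ∃ j, Fintype.card F = j + 1 := ⟨Fintype.card F - 1, by omega⟩
    rw [hj]
    have : (j + 1) ^ 2 = j * (j + 1 + 1) + 1 := by ring
    rw [Nat.add_sub_cancel]
    omega
  have hnorm : algebraMap F (FiniteField.Extension F p 2) (Algebra.norm F y) =
      y ^ (Fintype.card F + 1) := by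
    rw [FiniteField.algebraMap_norm_eq_pow, FiniteField.natCard_extension,
      Nat.card_eq_fintype_card, hfac, Nat.mul_div_cancel_left _ (by omega)]
  have hn0 : Algebra.norm F y ≠ 0 := by
    intro h
    rw [h, map_zero] at hnorm
    exact pow_ne_zero _ hy0 hnorm.symm
  apply exists_psl_orderOf (V := FiniteField.Extension F p 2 × F) 3
    (by rw [Module.finrank_prod, FiniteField.finrank_extension, Module.finrank_self])
    ((Algebra.lmul F (FiniteField.Extension F p 2) y).prodMap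
      (Algebra.lmul F F (Algebra.norm F y)⁻¹))
  · rw [LinearMap.det_prodMap, ← Algebra.norm_apply, det_lmul_self, mul_inv_cancel₀ hn0]
  · intro m
    have key : (∃ c : F, y ^ m = algebraMap F (FiniteField.Extension F p 2) c ∧
        ((Algebra.norm F y)⁻¹) ^ m = c) ↔
        (Fintype.card F ^ 2 - 1) ∣ (Fintype.card F + 2) * m := by
      rw [← hy]
      have e : y ^ ((Fintype.card F + 2) * m) = y ^ m * (y ^ (Fintype.card F + 1)) ^ m := by
        ring
      have e2 : algebraMap F (FiniteField.Extension F p 2) (((Algebra.norm F y)⁻¹) ^ m) *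
          (y ^ (Fintype.card F + 1)) ^ m = 1 := by
        rw [← hnorm, ← map_pow, ← map_mul, ← mul_pow, inv_mul_cancel₀ hn0, one_pow, map_one]
      constructor
      · rintro ⟨c, h1, h2⟩
        rw [e, h1, ← h2, e2]
      · intro h
        refine ⟨((Algebra.norm F y)⁻¹) ^ m, ?_, rfl⟩
        rw [e] at h
        calc y ^ m = (y ^ m * (y ^ (Fintype.card F + 1)) ^ m) *
              algebraMap F (FiniteField.Extension F p 2) (((Algebra.norm F y)⁻¹) ^ m) := by
              rw [mul_assoc, mul_comm ((y ^ (Fintype.card F + 1)) ^ m), e2, mul_one]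
          _ = algebraMap F (FiniteField.Extension F p 2) (((Algebra.norm F y)⁻¹) ^ m) := by
              rw [h, one_mul]
    have hq2 : 4 ≤ Fintype.card F ^ 2 := by nlinarith
    rw [dvd_mul_iff_div_gcd _ _ _ (by omega), gcd_sq_sub _ hq] at key
    rw [← key]
    constructor
    · rintro ⟨c, hc⟩
      rw [prodMap_pow_eq_smul_iff, lmul_pow_eq_smul_iff, lmul_pow_eq_smul_iff] at hc
      exact ⟨c, hc.1, hc.2⟩
    · rintro ⟨c, h1, h2⟩
      refine ⟨c, ?_⟩
      rw [prodMap_pow_eq_smul_iff, lmul_pow_eq_smul_iff, lmul_pow_eq_smul_iff]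
      exact ⟨h1, h2⟩

end exist

end Cfsg.Agent.H41
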