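import Mathlib
import Cfsg.Agent.H41.PSLn
import Cfsg.Agent.H41.FinFieldAux

set_option autoImplicit false
set_option linter.unusedSimpArgs false
set_option linter.unusedSectionVars false
set_option linter.unusedVariables false
set_option linter.style.haveILetI false

namespace Cfsg.Agent.H41

open Matrix Polynomial

section upper

variable {F : Type*} [Field F] [Fintype F]

theorem charpoly3_natDegree (A : Matrix (Fin 3) (Fin 3) F) : A.charpoly.natDegree = 3 := by
  rw [Matrix.charpoly_natDegree_eq_dim]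
  rfl

theorem charpoly3_coeff_zero (g : Matrix.SpecialLinearGroup (Fin 3) F) :
    (g : Matrix (Fin 3) (Fin 3) F).charpoly.coeff 0 = -1 := by
  have h := Matrix.det_eq_sign_charpoly_coeff (g : Matrix (Fin 3) (Fin 3) F)
  rw [Matrix.SpecialLinearGroup.det_coe] at h
  have e : Fintype.card (Fin 3) = 3 := rfl
  rw [e] at h
  linear_combination h

theorem gcd3_dvd_add_two (q : ℕ) (hq : 1 ≤ q) : Nat.gcd 3 (q - 1) ∣ q + 2 := by
  have h1 : Nat.gcd 3 (q - 1) ∣ 3 := Nat.gcd_dvd_left _ _
  have h2 : Nat.gcd 3 (q - 1) ∣ q - 1 := Nat.gcd_dvd_right _ _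
  have e : q + 2 = (q - 1) + 3 := by omega
  rw [e]
  exact Nat.dvd_add h2 h1

theorem gcd3_dvd_sq_add (q : ℕ) (hq : 1 ≤ q) : Nat.gcd 3 (q - 1) ∣ q ^ 2 + q + 1 := by
  have h1 : Nat.gcd 3 (q - 1) ∣ 3 := Nat.gcd_dvd_left _ _
  have h2 : Nat.gcd 3 (q - 1) ∣ q - 1 := Nat.gcd_dvd_right _ _
  obtain ⟨j, rfl⟩ : ∃ j, q = j + 1 := ⟨q - 1, by omega⟩
  have e : (j + 1) ^ 2 + (j + 1) + 1 = j * (j + 3) + 3 := by ring
  rw [e]
  rw [Nat.add_sub_cancel] at h2
  exact Nat.dvd_add (Dvd.dvd.mul_right h2 _) h1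

/-- The irreducible cubic case. -/
theorem psl3_irred (g : Matrix.SpecialLinearGroup (Fin 3) F)
    (hirr : Irreducible (g : Matrix (Fin 3) (Fin 3) F).charpoly) :
    orderOf (g : Matrix.ProjectiveSpecialLinearGroup (Fin 3) F) ∣
      (Fintype.card F ^ 2 + Fintype.card F + 1) / Nat.gcd 3 (Fintype.card F - 1) := by
  have hq : 2 ≤ Fintype.card F := Fintype.one_lt_card
  have hmonic := Matrix.charpoly_monic (g : Matrix (Fin 3) (Fin 3) F)
  have hdeg := charpoly3_natDegree (g : Matrix (Fin 3) (Fin 3) F)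
  have hc0 := charpoly3_coeff_zero g
  haveI : Fact (Irreducible (g : Matrix (Fin 3) (Fin 3) F).charpoly) := ⟨hirr⟩
  have hN := root_pow_norm (g : Matrix (Fin 3) (Fin 3) F).charpoly hmonic
  have hfac : Fintype.card F ^ 3 - 1 =
      (Fintype.card F - 1) * (Fintype.card F ^ 2 + Fintype.card F + 1) := by
    obtain ⟨j, hj⟩ : ∃ j, Fintype.card F = j + 1 := ⟨Fintype.card F - 1, by omega⟩
    rw [hj]
    have : (j + 1) ^ 3 = j * ((j + 1) ^ 2 + (j + 1) + 1) + 1 := by ring
    rw [Nat.add_sub_cancel]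
    omega
  rw [hdeg, hc0, hfac, Nat.mul_div_cancel_left _ (by omega)] at hN
  have e1 : ((-1 : F) ^ 3 * -1) = 1 := by ring
  rw [e1, map_one] at hN
  have hd1 : Nat.gcd 3 (Fintype.card F - 1) ∣ Fintype.card F - 1 := Nat.gcd_dvd_right _ _
  have hd2 := gcd3_dvd_sq_add (Fintype.card F) (by omega)
  obtain ⟨d, hd⟩ : ∃ d, d = Nat.gcd 3 (Fintype.card F - 1) := ⟨_, rfl⟩
  rw [← hd] at hd1 hd2 ⊢
  obtain ⟨j, hj⟩ := hd1
  have hy : ((AdjoinRoot.root (g : Matrix (Fin 3) (Fin 3) F).charpoly) ^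
      ((Fintype.card F ^ 2 + Fintype.card F + 1) / d)) ^
      (Fintype.card F - 1) = 1 := by
    have h1 : ((AdjoinRoot.root (g : Matrix (Fin 3) (Fin 3) F).charpoly) ^
        ((Fintype.card F ^ 2 + Fintype.card F + 1) / d)) ^ d = 1 := by
      rw [← pow_mul, Nat.div_mul_cancel hd2, hN]
    rw [hj, pow_mul, h1, one_pow]
  obtain ⟨c, hc⟩ := mem_range_of_pow_card_sub_one _ hy
  have hdvd := dvd_X_pow_sub_C_of_root (g : Matrix (Fin 3) (Fin 3) F).charpoly _ c hc.symm
  exact psl_orderOf_dvd g _ c (pow_eq_smul_of_charpoly_dvd _ _ c hdvd)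

/-- The case of a linear factor times an irreducible quadratic. -/
theorem psl3_quad (g : Matrix.SpecialLinearGroup (Fin 3) F) (a : F) (Q : F[X]) (hQm : Q.Monic)
    (hQd : Q.natDegree = 2) (hQ : Irreducible Q)
    (hχ : (g : Matrix (Fin 3) (Fin 3) F).charpoly = (X - C a) * Q) :
    orderOf (g : Matrix.ProjectiveSpecialLinearGroup (Fin 3) F) ∣
      (Fintype.card F ^ 2 - 1) / Nat.gcd 3 (Fintype.card F - 1) := by
  have hq : 2 ≤ Fintype.card F := Fintype.one_lt_card
  have hc0 := charpoly3_coeff_zero g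
  rw [hχ, mul_coeff_zero] at hc0
  simp only [coeff_sub, coeff_X_zero, coeff_C_zero, zero_sub] at hc0
  have haQ : a * Q.coeff 0 = 1 := by linear_combination -hc0
  have ha0 : a ≠ 0 := by
    rintro rfl
    rw [zero_mul] at haQ
    exact zero_ne_one haQ
  haveI : Fact (Irreducible Q) := ⟨hQ⟩
  have hN := root_pow_norm Q hQm
  have hfac : Fintype.card F ^ 2 - 1 = (Fintype.card F - 1) * (Fintype.card F + 1) := by
    obtain ⟨j, hj⟩ : ∃ j, Fintype.card F = j + 1 := ⟨Fintype.card F - 1, by omega⟩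
    rw [hj]
    have : (j + 1) ^ 2 = j * (j + 1 + 1) + 1 := by ring
    rw [Nat.add_sub_cancel]
    omega
  rw [hQd, hfac, Nat.mul_div_cancel_left _ (by omega)] at hN
  have e1 : ((-1 : F) ^ 2 * Q.coeff 0) = Q.coeff 0 := by ring
  rw [e1] at hN
  have hd1 : Nat.gcd 3 (Fintype.card F - 1) ∣ Fintype.card F - 1 := Nat.gcd_dvd_right _ _
  have hd3 := gcd3_dvd_add_two (Fintype.card F) (by omega)
  have hdpos : 0 < Nat.gcd 3 (Fintype.card F - 1) := Nat.gcd_pos_of_pos_left _ (by norm_num)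
  obtain ⟨d, hd⟩ : ∃ d, d = Nat.gcd 3 (Fintype.card F - 1) := ⟨_, rfl⟩
  rw [← hd] at hd1 hd3 hdpos ⊢
  obtain ⟨e, he⟩ := hd1
  obtain ⟨t, ht⟩ := hd3
  have hm : (Fintype.card F ^ 2 - 1) / d =
      (Fintype.card F + 1) * e := by
    rw [hfac, he, mul_assoc, Nat.mul_div_cancel_left _ hdpos, mul_comm]
  rw [hm]
  have hapow : a ^ (Fintype.card F - 1) = 1 := FiniteField.pow_card_sub_one_eq_one a ha0
  have h1 : a ^ ((Fintype.card F + 1) * e) * a ^ e = 1 := by
    rw [← pow_add]
    have e2 : (Fintype.card F + 1) * e + e = (Fintype.card F - 1) * t := by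
      have e3 : (Fintype.card F + 1) * e + e = (Fintype.card F + 2) * e := by ring
      rw [e3, ht, he]
      ring
    rw [e2, pow_mul, hapow, one_pow]
  have h2 : Q.coeff 0 ^ e * a ^ e = 1 := by
    rw [← mul_pow, mul_comm, haQ, one_pow]
  have h3 : Q.coeff 0 ^ e = a ^ ((Fintype.card F + 1) * e) := by
    have hae : a ^ e ≠ 0 := pow_ne_zero _ ha0
    apply mul_right_cancel₀ hae
    rw [h1, h2]
  have hroot : (AdjoinRoot.root Q) ^ ((Fintype.card F + 1) * e) =
      algebraMap F (AdjoinRoot Q) (a ^ ((Fintype.card F + 1) * e)) := by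
    rw [pow_mul, hN, ← map_pow, h3]
  have hdvd1 := dvd_X_pow_sub_C_of_root Q _ _ hroot
  have hdvd2 : (X - C a) ∣ (X ^ ((Fintype.card F + 1) * e) -
      C (a ^ ((Fintype.card F + 1) * e)) : F[X]) := by
    rw [dvd_iff_isRoot, IsRoot.def]
    simp
  have hcop : IsCoprime (X - C a) Q := by
    apply IsCoprime.symm
    rw [hQ.coprime_iff_not_dvd]
    intro hdvd
    have := natDegree_le_of_dvd hdvd (X_sub_C_ne_zero a)
    rw [hQd, natDegree_X_sub_C] at this
    omega
  have hdvd : (g : Matrix (Fin 3) (Fin 3) F).charpoly ∣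
      (X ^ ((Fintype.card F + 1) * e) - C (a ^ ((Fintype.card F + 1) * e)) : F[X]) := by
    rw [hχ]
    exact hcop.mul_dvd hdvd2 hdvd1
  exact psl_orderOf_dvd g _ _ (pow_eq_smul_of_charpoly_dvd _ _ _ hdvd)

/-- A double root. -/
theorem pow_of_double_root (p : ℕ) [Fact p.Prime] [CharP F p] (A : Matrix (Fin 3) (Fin 3) F)
    (a c : F) (hac : a ≠ c) (h1 : a * a * c = 1)
    (hχ : A.charpoly = (X - C a) ^ 2 * (X - C c)) :
    A ^ (p * ((Fintype.card F - 1) / Nat.gcd 3 (Fintype.card F - 1))) =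
      (a ^ (p * ((Fintype.card F - 1) / Nat.gcd 3 (Fintype.card F - 1)))) •
        (1 : Matrix (Fin 3) (Fin 3) F) := by
  have hp : p.Prime := Fact.out
  have ha0 : a ≠ 0 := by
    rintro rfl
    rw [zero_mul, zero_mul] at h1
    exact zero_ne_one h1
  have hd1 : Nat.gcd 3 (Fintype.card F - 1) ∣ Fintype.card F - 1 := Nat.gcd_dvd_right _ _
  have hd3 : Nat.gcd 3 (Fintype.card F - 1) ∣ 3 := Nat.gcd_dvd_left _ _
  have hdpos : 0 < Nat.gcd 3 (Fintype.card F - 1) := Nat.gcd_pos_of_pos_left _ (by norm_num)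
  obtain ⟨d, hd⟩ : ∃ d, d = Nat.gcd 3 (Fintype.card F - 1) := ⟨_, rfl⟩
  rw [← hd] at hd1 hd3 hdpos ⊢
  obtain ⟨e, he⟩ := hd1
  obtain ⟨t, ht⟩ := hd3
  have hediv : (Fintype.card F - 1) / d = e := by
    rw [he, Nat.mul_div_cancel_left _ hdpos]
  rw [hediv]
  have hapow : a ^ (Fintype.card F - 1) = 1 := FiniteField.pow_card_sub_one_eq_one a ha0
  have ha3 : a ^ (3 * e) = 1 := by
    have e2 : 3 * e = (Fintype.card F - 1) * t := by
      rw [he]
      calc 3 * e = d * t * e := by rw [← ht]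
        _ = d * e * t := by ring
    rw [e2, pow_mul, hapow, one_pow]
  have hce : c ^ e = a ^ e := by
    have h2 : (a * a * c) ^ e = 1 := by rw [h1, one_pow]
    calc c ^ e = c ^ e * a ^ (3 * e) := by rw [ha3, mul_one]
      _ = (a * a * c) ^ e * a ^ e := by ring
      _ = a ^ e := by rw [h2, one_mul]
  have hdvd1 : (X - C a) ∣ (X ^ e - C (a ^ e) : F[X]) := by
    rw [dvd_iff_isRoot, IsRoot.def]
    simp
  have hdvd2 : (X - C c) ∣ (X ^ e - C (a ^ e) : F[X]) := by
    rw [dvd_iff_isRoot, IsRoot.def]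
    simp [hce]
  have hcop : IsCoprime (X - C a) (X - C c) :=
    isCoprime_X_sub_C_of_isUnit_sub (sub_ne_zero.2 hac).isUnit
  have hdvd3 : (X - C a) * (X - C c) ∣ (X ^ e - C (a ^ e) : F[X]) := hcop.mul_dvd hdvd1 hdvd2
  have hdvd4 : A.charpoly ∣ (X ^ e - C (a ^ e) : F[X]) ^ 2 := by
    rw [hχ]
    have e3 : ((X - C a) * (X - C c)) ^ 2 = (X - C a) ^ 2 * (X - C c) * (X - C c) := by ring
    exact dvd_trans ⟨X - C c, e3⟩ (pow_dvd_pow_of_dvd hdvd3 2)
  have hdvd5 : A.charpoly ∣ (X ^ e - C (a ^ e) : F[X]) ^ p :=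
    dvd_trans hdvd4 (pow_dvd_pow _ hp.two_le)
  have e4 : (X ^ e - C (a ^ e) : F[X]) ^ p = X ^ (p * e) - C (a ^ (p * e)) := by
    rw [sub_pow_char, ← pow_mul, ← C_pow, ← pow_mul, mul_comm e p]
  rw [e4] at hdvd5
  exact pow_eq_smul_of_charpoly_dvd _ _ _ hdvd5

/-- The split case. -/
theorem psl3_split (p : ℕ) [Fact p.Prime] [CharP F p] (g : Matrix.SpecialLinearGroup (Fin 3) F)
    (a b c : F)
    (hχ : (g : Matrix (Fin 3) (Fin 3) F).charpoly = (X - C a) * ((X - C b) * (X - C c))) :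
    orderOf (g : Matrix.ProjectiveSpecialLinearGroup (Fin 3) F) ∣ Fintype.card F - 1 ∨
    orderOf (g : Matrix.ProjectiveSpecialLinearGroup (Fin 3) F) ∣
      p * (Fintype.card F - 1) / Nat.gcd 3 (Fintype.card F - 1) ∨
    (p = 2 ∧ orderOf (g : Matrix.ProjectiveSpecialLinearGroup (Fin 3) F) ∣ 4) := by
  have hp : p.Prime := Fact.out
  have hc0 := charpoly3_coeff_zero g
  rw [hχ, mul_coeff_zero, mul_coeff_zero] at hc0
  simp only [coeff_sub, coeff_X_zero, coeff_C_zero, zero_sub] at hc0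
  have habc : a * b * c = 1 := by linear_combination -hc0
  have hd1 : Nat.gcd 3 (Fintype.card F - 1) ∣ Fintype.card F - 1 := Nat.gcd_dvd_right _ _
  have hmul : p * (Fintype.card F - 1) / Nat.gcd 3 (Fintype.card F - 1) =
      p * ((Fintype.card F - 1) / Nat.gcd 3 (Fintype.card F - 1)) := Nat.mul_div_assoc p hd1
  have hdouble : ∀ a' c' : F, a' ≠ c' → a' * a' * c' = 1 →
      (g : Matrix (Fin 3) (Fin 3) F).charpoly = (X - C a') ^ 2 * (X - C c') →
      orderOf (g : Matrix.ProjectiveSpecialLinearGroup (Fin 3) F) ∣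
        p * (Fintype.card F - 1) / Nat.gcd 3 (Fintype.card F - 1) := by
    intro a' c' hne h1 hχ'
    rw [hmul]
    exact psl_orderOf_dvd g _ _ (pow_of_double_root p _ a' c' hne h1 hχ')
  by_cases hab : a = b
  · by_cases hbc : b = c
    · subst hab
      subst hbc
      have hχ3 : (g : Matrix (Fin 3) (Fin 3) F).charpoly = (X - C a) ^ 3 := by
        rw [hχ]
        ring
      by_cases hp2 : p = 2
      · right; right
        refine ⟨hp2, ?_⟩
        have hdvd : (g : Matrix (Fin 3) (Fin 3) F).charpoly ∣ (X ^ 4 - C (a ^ 4) : F[X]) := by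
          have e : (X - C a : F[X]) ^ 4 = X ^ 4 - C (a ^ 4) := by
            subst hp2
            have e1 : (X - C a : F[X]) ^ 4 = ((X - C a : F[X]) ^ 2) ^ 2 := by ring
            rw [e1, sub_pow_char, sub_pow_char, ← C_pow, ← C_pow]
            ring_nf
          rw [← e, hχ3]
          exact pow_dvd_pow _ (by norm_num)
        exact psl_orderOf_dvd g 4 _ (pow_eq_smul_of_charpoly_dvd _ 4 _ hdvd)
      · right; left
        rw [hmul]
        have h3 : 3 ≤ p := by
          have := hp.two_le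
          omega
        have hdvd : (g : Matrix (Fin 3) (Fin 3) F).charpoly ∣ (X ^ p - C (a ^ p) : F[X]) := by
          have e : (X - C a : F[X]) ^ p = X ^ p - C (a ^ p) := by
            rw [sub_pow_char, ← C_pow]
          rw [← e, hχ3]
          exact pow_dvd_pow _ h3
        exact dvd_trans (psl_orderOf_dvd g p _ (pow_eq_smul_of_charpoly_dvd _ p _ hdvd))
          (dvd_mul_right p _)
    · right; left
      subst hab
      exact hdouble a c hbc habc (by rw [hχ]; ring)
  · by_cases hbc : b = c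
    · right; left
      subst hbc
      exact hdouble b a (Ne.symm hab) (by rw [← habc]; ring) (by rw [hχ]; ring)
    · by_cases hac : a = c
      · right; left
        subst hac
        exact hdouble a b hab (by rw [← habc]; ring) (by rw [hχ]; ring)
      · left
        have ha0 : a ≠ 0 := by
          rintro rfl
          simp at habc
        have hb0 : b ≠ 0 := by
          rintro rfl
          simp at habc
        have hc0' : c ≠ 0 := by
          rintro rfl
          simp at habc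
        have hdvd : (g : Matrix (Fin 3) (Fin 3) F).charpoly ∣
            (X ^ (Fintype.card F - 1) - C 1 : F[X]) := by
          rw [hχ]
          have h1 : ∀ t : F, t ≠ 0 → (X - C t) ∣ (X ^ (Fintype.card F - 1) - C 1 : F[X]) := by
            intro t ht
            rw [dvd_iff_isRoot, IsRoot.def]
            simp [FiniteField.pow_card_sub_one_eq_one t ht]
          have cab : IsCoprime (X - C a) (X - C b) :=
            isCoprime_X_sub_C_of_isUnit_sub (sub_ne_zero.2 hab).isUnit
          have cac : IsCoprime (X - C a) (X - C c) :=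
            isCoprime_X_sub_C_of_isUnit_sub (sub_ne_zero.2 hac).isUnit
          have cbc : IsCoprime (X - C b) (X - C c) :=
            isCoprime_X_sub_C_of_isUnit_sub (sub_ne_zero.2 hbc).isUnit
          exact (IsCoprime.mul_right cab cac).mul_dvd (h1 a ha0)
            (cbc.mul_dvd (h1 b hb0) (h1 c hc0'))
        exact psl_orderOf_dvd g _ 1 (pow_eq_smul_of_charpoly_dvd _ _ _ hdvd)

/-- Every element order of `PSL₃(q)` divides one of the listed numbers. -/
theorem psl3_orderOf_cases (p : ℕ) [Fact p.Prime] [CharP F p]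
    (g : Matrix.SpecialLinearGroup (Fin 3) F) :
    orderOf (g : Matrix.ProjectiveSpecialLinearGroup (Fin 3) F) ∣
      (Fintype.card F ^ 2 + Fintype.card F + 1) / Nat.gcd 3 (Fintype.card F - 1) ∨
    orderOf (g : Matrix.ProjectiveSpecialLinearGroup (Fin 3) F) ∣
      (Fintype.card F ^ 2 - 1) / Nat.gcd 3 (Fintype.card F - 1) ∨
    orderOf (g : Matrix.ProjectiveSpecialLinearGroup (Fin 3) F) ∣ Fintype.card F - 1 ∨
    orderOf (g : Matrix.ProjectiveSpecialLinearGroup (Fin 3) F) ∣
      p * (Fintype.card F - 1) / Nat.gcd 3 (Fintype.card F - 1) ∨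
    (p = 2 ∧ orderOf (g : Matrix.ProjectiveSpecialLinearGroup (Fin 3) F) ∣ 4) := by
  have hmonic := Matrix.charpoly_monic (g : Matrix (Fin 3) (Fin 3) F)
  have hdeg := charpoly3_natDegree (g : Matrix (Fin 3) (Fin 3) F)
  by_cases hroot : ∃ a, (g : Matrix (Fin 3) (Fin 3) F).charpoly.IsRoot a
  · obtain ⟨a, ha⟩ := hroot
    have hfac := mul_divByMonic_eq_iff_isRoot.2 ha
    obtain ⟨Q, hQ⟩ : ∃ Q, Q = (g : Matrix (Fin 3) (Fin 3) F).charpoly /ₘ (X - C a) := ⟨_, rfl⟩
    rw [← hQ] at hfac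
    have hQm : Q.Monic :=
      Monic.of_mul_monic_left (monic_X_sub_C a) (by rw [hfac]; exact hmonic)
    have hQd : Q.natDegree = 2 := by
      have h := congrArg natDegree hfac
      rw [(monic_X_sub_C a).natDegree_mul hQm, natDegree_X_sub_C, hdeg] at h
      omega
    by_cases hroot2 : ∃ b, Q.IsRoot b
    · obtain ⟨b, hb⟩ := hroot2
      have hfac2 := mul_divByMonic_eq_iff_isRoot.2 hb
      obtain ⟨R, hR⟩ : ∃ R, R = Q /ₘ (X - C b) := ⟨_, rfl⟩
      rw [← hR] at hfac2
      have hRm : R.Monic :=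
        Monic.of_mul_monic_left (monic_X_sub_C b) (by rw [hfac2]; exact hQm)
      have hRd : R.natDegree = 1 := by
        have h := congrArg natDegree hfac2
        rw [(monic_X_sub_C b).natDegree_mul hRm, natDegree_X_sub_C, hQd] at h
        omega
      have hR' : R = X - C (-R.coeff 0) := by
        rw [C_neg, sub_neg_eq_add]
        exact hRm.eq_X_add_C hRd
      have hχ : (g : Matrix (Fin 3) (Fin 3) F).charpoly =
          (X - C a) * ((X - C b) * (X - C (-R.coeff 0))) := by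
        rw [← hR', hfac2, hfac]
      rcases psl3_split p g a b _ hχ with h | h | h
      · right; right; left; exact h
      · right; right; right; left; exact h
      · right; right; right; right; exact h
    · right; left
      have hirr : Irreducible Q :=
        irreducible_of_degree_le_three_of_not_isRoot (by rw [hQd]; simp)
          (fun x hx => hroot2 ⟨x, hx⟩)
      exact psl3_quad g a Q hQm hQd hirr hfac.symm
  · left
    have hirr : Irreducible (g : Matrix (Fin 3) (Fin 3) F).charpoly :=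
      irreducible_of_degree_le_three_of_not_isRoot (by rw [hdeg]; simp)
        (fun x hx => hroot ⟨x, hx⟩)
    exact psl3_irred g hirr

end upper

end Cfsg.Agent.H41
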