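import Mathlib
import Cfsg.Agent.H41.PSLn
import Cfsg.Agent.H41.FinFieldAux
import Cfsg.Agent.H41.PSL3Exist

set_option autoImplicit false
set_option linter.unusedSimpArgs false
set_option linter.unusedSectionVars false
set_option linter.unusedVariables false
set_option linter.style.haveILetI false

namespace Cfsg.Agent.H41

open Matrix Polynomial

section arith

theorem dvd_pow_sub_one_iff (r q k : ℕ) (hq : 1 ≤ q) :
    r ∣ q ^ k - 1 ↔ orderOf ((q : ℕ) : ZMod r) ∣ k := by
  rw [orderOf_dvd_iff_pow_eq_one]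
  have h1 : 1 ≤ q ^ k := Nat.one_le_pow _ _ hq
  rw [← Nat.modEq_iff_dvd' h1, ← ZMod.natCast_eq_natCast_iff]
  push_cast
  exact eq_comm

theorem dvd_sub_one_iff (r q : ℕ) (hq : 1 ≤ q) :
    r ∣ q - 1 ↔ orderOf ((q : ℕ) : ZMod r) = 1 := by
  have h := dvd_pow_sub_one_iff r q 1 hq
  rw [pow_one, Nat.dvd_one] at h
  exact h

end arith

section blocks

variable {F : Type*} [Field F] [Fintype F]

/-- An element of prescribed order and norm one in an extension field. -/
theorem exists_orderOf_norm_one (p : ℕ) [Fact p.Prime] [CharP F p] (k : ℕ) [NeZero k] (M : ℕ)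
    (hM : M ∣ Fintype.card F ^ k - 1) (hcop : Nat.Coprime M (Fintype.card F - 1)) :
    ∃ x : FiniteField.Extension F p k, orderOf x = M ∧ Algebra.norm F x = 1 ∧ x ≠ 0 := by
  obtain ⟨ζ, hζ0, hζ⟩ := exists_gen (FiniteField.Extension F p k)
  rw [FiniteField.natCard_extension, Nat.card_eq_fintype_card] at hζ
  have hq : 2 ≤ Fintype.card F := Fintype.one_lt_card
  have hk : k ≠ 0 := NeZero.ne k
  have hpos : 0 < Fintype.card F ^ k - 1 := by
    have : 2 ^ 1 ≤ Fintype.card F ^ k :=
      le_trans (Nat.pow_le_pow_left hq 1) (Nat.pow_le_pow_right (by omega) (by omega))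
    omega
  obtain ⟨t, ht⟩ := hM
  have ht0 : t ≠ 0 := by
    rintro rfl
    rw [mul_zero] at ht
    omega
  have hord : orderOf ζ = Fintype.card F ^ k - 1 := orderOf_eq_of_forall_pow ζ _ hζ
  have hxM : (ζ ^ t) ^ M = 1 := by
    rw [← pow_mul, mul_comm, ← ht]
    exact (hζ _).2 dvd_rfl
  refine ⟨ζ ^ t, ?_, ?_, pow_ne_zero _ hζ0⟩
  · rw [orderOf_pow_of_dvd ht0 (by rw [hord, ht]; exact dvd_mul_left t M), hord, ht,
      Nat.mul_div_cancel _ (Nat.pos_of_ne_zero ht0)]
  · have hNM : (Algebra.norm F (ζ ^ t)) ^ M = 1 := by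
      rw [← map_pow, hxM, map_one]
    have hM0 : M ≠ 0 := by
      rintro rfl
      rw [zero_mul] at ht
      omega
    have hN0 : Algebra.norm F (ζ ^ t) ≠ 0 := by
      intro h0
      rw [h0, zero_pow hM0] at hNM
      exact zero_ne_one hNM
    have hNq : (Algebra.norm F (ζ ^ t)) ^ (Fintype.card F - 1) = 1 :=
      FiniteField.pow_card_sub_one_eq_one _ hN0
    have h1 : orderOf (Algebra.norm F (ζ ^ t)) ∣ M := orderOf_dvd_of_pow_eq_one hNM
    have h2 : orderOf (Algebra.norm F (ζ ^ t)) ∣ Fintype.card F - 1 :=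
      orderOf_dvd_of_pow_eq_one hNq
    exact orderOf_eq_one_iff.1 (Nat.Coprime.eq_one_of_dvd (hcop.coprime_dvd_left h1) h2)

/-- One field block, padded with the identity. -/
theorem exists_psl_orderOf_of_field (p : ℕ) [Fact p.Prime] [CharP F p] (k : ℕ) [NeZero k] (n : ℕ)
    (hkn : k ≤ n) (x : FiniteField.Extension F p k) (hnorm : Algebra.norm F x = 1) (hx0 : x ≠ 0)
    (hcop : Nat.Coprime (orderOf x) (Fintype.card F - 1)) :
    ∃ g : Matrix.ProjectiveSpecialLinearGroup (Fin n) F, orderOf g = orderOf x := by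
  apply exists_psl_orderOf (V := FiniteField.Extension F p k × (Fin (n - k) → F)) n
    (by rw [Module.finrank_prod, FiniteField.finrank_extension, Module.finrank_fin_fun]; omega)
    ((Algebra.lmul F _ x).prodMap 1)
  · rw [LinearMap.det_prodMap, ← Algebra.norm_apply, hnorm, one_mul]
    exact LinearMap.det_id
  · intro m
    constructor
    · rintro ⟨c, hc⟩
      rw [prodMap_pow_eq_smul_iff, lmul_pow_eq_smul_iff] at hc
      have h1 := algebraMap_pow_card_sub_one c (x ^ m) (pow_ne_zero m hx0) hc.1.symm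
      rw [← pow_mul] at h1
      exact hcop.dvd_of_dvd_mul_right (orderOf_dvd_of_pow_eq_one h1)
    · intro h
      refine ⟨1, ?_⟩
      rw [prodMap_pow_eq_smul_iff, lmul_pow_eq_smul_iff, one_pow, one_smul, map_one]
      exact ⟨orderOf_dvd_iff_pow_eq_one.1 h, rfl⟩

/-- Two field blocks, padded with the identity. -/
theorem exists_psl_orderOf_of_two_fields (p : ℕ) [Fact p.Prime] [CharP F p] (k l : ℕ) [NeZero k]
    [NeZero l] (n : ℕ) (hkn : k + l ≤ n)
    (x : FiniteField.Extension F p k) (y : FiniteField.Extension F p l)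
    (hnx : Algebra.norm F x = 1) (hny : Algebra.norm F y = 1) (hx0 : x ≠ 0) (hy0 : y ≠ 0)
    (hcx : Nat.Coprime (orderOf x) (Fintype.card F - 1))
    (hcy : Nat.Coprime (orderOf y) (Fintype.card F - 1))
    (hxy : Nat.Coprime (orderOf x) (orderOf y)) :
    ∃ g : Matrix.ProjectiveSpecialLinearGroup (Fin n) F, orderOf g = orderOf x * orderOf y := by
  apply exists_psl_orderOf
    (V := FiniteField.Extension F p k × (FiniteField.Extension F p l × (Fin (n - k - l) → F))) n
    (by rw [Module.finrank_prod, Module.finrank_prod, FiniteField.finrank_extension,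
      FiniteField.finrank_extension, Module.finrank_fin_fun]; omega)
    ((Algebra.lmul F _ x).prodMap ((Algebra.lmul F _ y).prodMap 1))
  · rw [LinearMap.det_prodMap, LinearMap.det_prodMap, ← Algebra.norm_apply, ← Algebra.norm_apply,
      hnx, hny, one_mul, one_mul]
    exact LinearMap.det_id
  · intro m
    constructor
    · rintro ⟨c, hc⟩
      rw [prodMap_pow_eq_smul_iff, prodMap_pow_eq_smul_iff, lmul_pow_eq_smul_iff,
        lmul_pow_eq_smul_iff] at hc
      have h1 := algebraMap_pow_card_sub_one c (x ^ m) (pow_ne_zero m hx0) hc.1.symm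
      have h2 := algebraMap_pow_card_sub_one c (y ^ m) (pow_ne_zero m hy0) hc.2.1.symm
      rw [← pow_mul] at h1 h2
      exact Nat.Coprime.mul_dvd_of_dvd_of_dvd hxy
        (hcx.dvd_of_dvd_mul_right (orderOf_dvd_of_pow_eq_one h1))
        (hcy.dvd_of_dvd_mul_right (orderOf_dvd_of_pow_eq_one h2))
    · intro h
      refine ⟨1, ?_⟩
      rw [prodMap_pow_eq_smul_iff, prodMap_pow_eq_smul_iff, lmul_pow_eq_smul_iff,
        lmul_pow_eq_smul_iff, one_pow, one_smul, map_one, map_one]
      exact ⟨orderOf_dvd_iff_pow_eq_one.1 (dvd_of_mul_right_dvd h),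
        orderOf_dvd_iff_pow_eq_one.1 (dvd_of_mul_left_dvd h), rfl⟩

/-- A prime different from the characteristic dividing the order of `PSL_n(q)` has
multiplicative order of `q` at most `n`. -/
theorem orderOf_le_of_dvd_card_psl (p : ℕ) [Fact p.Prime] [CharP F p] (n : ℕ) (s : ℕ)
    (hs : s.Prime) (hsp : s ≠ p)
    (h : s ∣ Nat.card (Matrix.ProjectiveSpecialLinearGroup (Fin n) F)) :
    orderOf ((Fintype.card F : ℕ) : ZMod s) ≤ n := by
  have hq : 1 ≤ Fintype.card F := Fintype.card_pos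
  have h1 : Nat.card (Matrix.ProjectiveSpecialLinearGroup (Fin n) F) ∣
      Nat.card (Matrix.SpecialLinearGroup (Fin n) F) :=
    Subgroup.card_quotient_dvd_card _
  have h2 : Nat.card (Matrix.SpecialLinearGroup (Fin n) F) ∣ Nat.card (GL (Fin n) F) :=
    Subgroup.card_dvd_of_injective Matrix.SpecialLinearGroup.toGL
      Matrix.SpecialLinearGroup.toGL_injective
  have h3 := dvd_trans h (dvd_trans h1 h2)
  rw [Matrix.card_GL_field] at h3
  obtain ⟨i, -, hi⟩ := (Prime.dvd_finsetProd_iff (Nat.Prime.prime hs) _).1 h3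
  have hin : (i : ℕ) < n := i.2
  have e : Fintype.card F ^ n - Fintype.card F ^ (i : ℕ) =
      Fintype.card F ^ (i : ℕ) * (Fintype.card F ^ (n - (i : ℕ)) - 1) := by
    rw [Nat.mul_sub, mul_one, ← pow_add, Nat.add_sub_cancel' hin.le]
  rw [e] at hi
  obtain ⟨f, -, hf⟩ := FiniteField.card F p
  have hnot : ¬ s ∣ Fintype.card F ^ (i : ℕ) := by
    intro hdvd
    have h4 := hs.dvd_of_dvd_pow hdvd
    rw [hf] at h4
    have h5 := hs.dvd_of_dvd_pow h4
    exact hsp ((Nat.prime_dvd_prime_iff_eq hs Fact.out).1 h5)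
  rcases (Nat.Prime.dvd_mul hs).1 hi with h4 | h4
  · exact absurd h4 hnot
  · have h5 := (dvd_pow_sub_one_iff s _ _ hq).1 h4
    exact le_trans (Nat.le_of_dvd (by omega) h5) (Nat.sub_le _ _)

end blocks

end Cfsg.Agent.H41
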