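import Mathlib
import Cfsg.Agent.H41.PSLnBlocks
import Cfsg.Agent.H41.FixFree

set_option autoImplicit false
set_option linter.unusedSimpArgs false
set_option linter.unusedSectionVars false
set_option linter.unusedVariables false
set_option linter.style.haveILetI false

namespace Cfsg.Agent.H41

open Matrix Polynomial

section rs

variable {F : Type*} [Field F] [Fintype F]

theorem natCast_ne_zero_of_prime_ne (p : ℕ) [Fact p.Prime] [CharP F p] (r : ℕ) (hr : r.Prime)
    (hrp : r ≠ p) : (r : F) ≠ 0 := by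
  intro h
  have h1 := (CharP.cast_eq_zero_iff F p r).1 h
  exact hrp ((Nat.prime_dvd_prime_iff_eq Fact.out hr).1 h1).symm

/-- A scalar power of an element of `SL_n` has nonzero scalar. -/
theorem scalar_ne_zero_of_pow {n : ℕ} (hn : 1 ≤ n) (g : Matrix.SpecialLinearGroup (Fin n) F)
    (m : ℕ) (c : F)
    (hc : (g : Matrix (Fin n) (Fin n) F) ^ m = c • (1 : Matrix (Fin n) (Fin n) F)) : c ≠ 0 := by
  rintro rfl
  haveI : Nonempty (Fin n) := ⟨⟨0, by omega⟩⟩
  have hdet := congrArg Matrix.det hc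
  rw [← Matrix.SpecialLinearGroup.coe_pow, Matrix.SpecialLinearGroup.det_coe, zero_smul,
    Matrix.det_zero] at hdet
  exact one_ne_zero hdet

theorem toLin'_commute {n : ℕ} (A B : Matrix (Fin n) (Fin n) F) (h : Commute A B) :
    Commute (Matrix.toLin' A) (Matrix.toLin' B) := by
  show Matrix.toLin' A * Matrix.toLin' B = Matrix.toLin' B * Matrix.toLin' A
  rw [Module.End.mul_eq_comp, Module.End.mul_eq_comp, ← Matrix.toLin'_mul, ← Matrix.toLin'_mul,
    h.eq]

/-- Non-adjacency of two odd primes in the prime graph of `PSL_n(q)`. -/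
theorem psl_no_rs (p : ℕ) [Fact p.Prime] [CharP F p] (n : ℕ) (hn1 : 1 ≤ n) (r s : ℕ)
    (hr : r.Prime) (hs : s.Prime) (hrp : r ≠ p) (hsp : s ≠ p)
    (h2k : 2 ≤ orderOf ((Fintype.card F : ℕ) : ZMod r))
    (hkl : orderOf ((Fintype.card F : ℕ) : ZMod r) ≤ orderOf ((Fintype.card F : ℕ) : ZMod s))
    (hn : n < orderOf ((Fintype.card F : ℕ) : ZMod r) + orderOf ((Fintype.card F : ℕ) : ZMod s))
    (x : Matrix.ProjectiveSpecialLinearGroup (Fin n) F) (hx : orderOf x = r * s) :
    orderOf ((Fintype.card F : ℕ) : ZMod r) ∣ orderOf ((Fintype.card F : ℕ) : ZMod s) := by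
  obtain ⟨g, rfl⟩ := QuotientGroup.mk_surjective x
  have hq : 2 ≤ Fintype.card F := Fintype.one_lt_card
  haveI := Fact.mk hr
  haveI := Fact.mk hs
  have hrq : ¬ r ∣ Fintype.card F - 1 := by
    rw [dvd_sub_one_iff _ _ (by omega)]
    omega
  have hsq : ¬ s ∣ Fintype.card F - 1 := by
    rw [dvd_sub_one_iff _ _ (by omega)]
    omega
  have h1 : (g : Matrix.ProjectiveSpecialLinearGroup (Fin n) F) ^ (r * s) = 1 := by
    rw [← hx]
    exact pow_orderOf_eq_one _
  obtain ⟨c, hc⟩ := (psl_pow_eq_one_iff g (r * s)).1 h1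
  have hc0 := scalar_ne_zero_of_pow hn1 g _ c hc
  obtain ⟨A, hA⟩ : ∃ A : Matrix (Fin n) (Fin n) F,
      A = (g : Matrix (Fin n) (Fin n) F) ^ (Fintype.card F - 1) := ⟨_, rfl⟩
  have hArs : A ^ (r * s) = 1 := by
    rw [hA, ← pow_mul, mul_comm, pow_mul, hc, _root_.smul_pow, one_pow,
      FiniteField.pow_card_sub_one_eq_one c hc0, one_smul]
  have hAs : A ^ s ≠ 1 := by
    intro h
    have h2 : (g : Matrix.ProjectiveSpecialLinearGroup (Fin n) F) ^ ((Fintype.card F - 1) * s) =
        1 := by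
      rw [psl_pow_eq_one_iff]
      refine ⟨1, ?_⟩
      rw [pow_mul, ← hA, h, one_smul]
    have h3 := orderOf_dvd_of_pow_eq_one h2
    rw [hx] at h3
    exact hrq (Nat.dvd_of_mul_dvd_mul_right hs.pos h3)
  have hAr : A ^ r ≠ 1 := by
    intro h
    have h2 : (g : Matrix.ProjectiveSpecialLinearGroup (Fin n) F) ^ ((Fintype.card F - 1) * r) =
        1 := by
      rw [psl_pow_eq_one_iff]
      refine ⟨1, ?_⟩
      rw [pow_mul, ← hA, h, one_smul]
    have h3 := orderOf_dvd_of_pow_eq_one h2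
    rw [hx, mul_comm r s] at h3
    exact hsq (Nat.dvd_of_mul_dvd_mul_right hr.pos h3)
  have har : (Matrix.toLin' (A ^ s)) ^ r = 1 := by
    have := (toLin'_pow_eq_smul_iff (A ^ s) r 1).2 (by rw [← pow_mul, mul_comm, hArs, one_smul])
    rwa [one_smul] at this
  have hbs : (Matrix.toLin' (A ^ r)) ^ s = 1 := by
    have := (toLin'_pow_eq_smul_iff (A ^ r) s 1).2 (by rw [← pow_mul, hArs, one_smul])
    rwa [one_smul] at this
  have ha1 : Matrix.toLin' (A ^ s) ≠ 1 := by
    intro h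
    apply hAs
    have := (toLin'_pow_eq_smul_iff (A ^ s) 1 1).1 (by rw [pow_one, one_smul, h])
    rwa [pow_one, one_smul] at this
  have hb1 : Matrix.toLin' (A ^ r) ≠ 1 := by
    intro h
    apply hAr
    have := (toLin'_pow_eq_smul_iff (A ^ r) 1 1).1 (by rw [pow_one, one_smul, h])
    rwa [pow_one, one_smul] at this
  have hcomm : Commute (Matrix.toLin' (A ^ s)) (Matrix.toLin' (A ^ r)) :=
    toLin'_commute _ _ ((Commute.refl A).pow_pow s r)
  exact dvd_of_commuting_prime_orders (V := Fin n → F) r s _ _ hcomm har hbs ha1 hb1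
    (natCast_ne_zero_of_prime_ne p r hr hrp) (natCast_ne_zero_of_prime_ne p s hs hsp) hkl
    (by rw [Module.finrank_fin_fun]; exact hn)

end rs

end Cfsg.Agent.H41
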