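import Mathlib
import Cfsg.Agent.H41.PSLnRS
import Cfsg.Agent.H41.NilFix

set_option autoImplicit false
set_option linter.unusedSimpArgs false
set_option linter.unusedSectionVars false
set_option linter.unusedVariables false
set_option linter.style.haveILetI false

namespace Cfsg.Agent.H41

open Matrix Polynomial

section rp

variable {F : Type*} [Field F] [Fintype F]

omit [Fintype F] in
theorem toLin'_pow_eq {n : ℕ} (A : Matrix (Fin n) (Fin n) F) (m : ℕ) :
    (Matrix.toLin' A) ^ m = Matrix.toLin' (A ^ m) := by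
  induction m with
  | zero => rw [pow_zero, pow_zero, Matrix.toLin'_one]; rfl
  | succ m ih => rw [pow_succ, pow_succ, ih, Matrix.toLin'_mul, Module.End.mul_eq_comp]

/-- If `PSL_n(q)`, `n ≥ 3`, has an element of order `r p` then `k + 2 ≤ n`. -/
theorem psl_rp_le (p : ℕ) [Fact p.Prime] [CharP F p] (n : ℕ) (h3 : 3 ≤ n) (r : ℕ)
    (hr : r.Prime) (hrp : r ≠ p)
    (x : Matrix.ProjectiveSpecialLinearGroup (Fin n) F) (hx : orderOf x = r * p) :
    orderOf ((Fintype.card F : ℕ) : ZMod r) + 2 ≤ n := by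
  obtain ⟨g, rfl⟩ := QuotientGroup.mk_surjective x
  haveI := Fact.mk hr
  have hp : p.Prime := Fact.out
  have hq : 2 ≤ Fintype.card F := Fintype.one_lt_card
  haveI : Nonempty (Fin n) := ⟨⟨0, by omega⟩⟩
  have h1 : (g : Matrix.ProjectiveSpecialLinearGroup (Fin n) F) ^ (r * p) = 1 := by
    rw [← hx]
    exact pow_orderOf_eq_one _
  obtain ⟨c, hc⟩ := (psl_pow_eq_one_iff g (r * p)).1 h1
  have hc0 := scalar_ne_zero_of_pow (by omega) g _ c hc
  obtain ⟨A, hA⟩ : ∃ A : Matrix (Fin n) (Fin n) F, A = (g : Matrix (Fin n) (Fin n) F) :=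
    ⟨_, rfl⟩
  rw [← hA] at hc
  obtain ⟨f, -, hf⟩ := FiniteField.card F p
  obtain ⟨c', hc'⟩ : ∃ c' : F, c' ^ p = c := by
    refine ⟨c ^ (p ^ ((f : ℕ) - 1)), ?_⟩
    rw [← pow_mul, ← pow_succ, Nat.sub_add_cancel f.pos, ← hf, FiniteField.pow_card]
  have hNp : (A ^ r - c' • (1 : Matrix (Fin n) (Fin n) F)) ^ p = 0 := by
    have hcomm : Commute (A ^ r) (c' • (1 : Matrix (Fin n) (Fin n) F)) :=
      Commute.smul_right (Commute.one_right _) c'
    rw [sub_pow_char_of_commute (p := p) hcomm, ← pow_mul, hc, _root_.smul_pow, one_pow, hc',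
      sub_self]
  have hN0 : A ^ r - c' • (1 : Matrix (Fin n) (Fin n) F) ≠ 0 := by
    intro h
    rw [sub_eq_zero] at h
    have h2 : (g : Matrix.ProjectiveSpecialLinearGroup (Fin n) F) ^ r = 1 :=
      (psl_pow_eq_one_iff g r).2 ⟨c', by rw [← hA]; exact h⟩
    have h4 := orderOf_dvd_of_pow_eq_one h2
    rw [hx] at h4
    have h5 : p ∣ 1 := Nat.dvd_of_mul_dvd_mul_left hr.pos (by rwa [mul_one])
    exact hp.one_lt.ne' (Nat.dvd_one.1 h5)
  have hbr : (A ^ (p * (Fintype.card F - 1))) ^ r = 1 := by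
    rw [← pow_mul]
    have e : p * (Fintype.card F - 1) * r = (r * p) * (Fintype.card F - 1) := by ring
    rw [e, pow_mul, hc, _root_.smul_pow, one_pow, FiniteField.pow_card_sub_one_eq_one c hc0,
      one_smul]
  by_cases hb1 : A ^ (p * (Fintype.card F - 1)) = 1
  · have h2 : (g : Matrix.ProjectiveSpecialLinearGroup (Fin n) F) ^
        (p * (Fintype.card F - 1)) = 1 :=
      (psl_pow_eq_one_iff g _).2 ⟨1, by rw [← hA, hb1, one_smul]⟩
    have h4 := orderOf_dvd_of_pow_eq_one h2
    rw [hx, mul_comm r p] at h4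
    have h5 : r ∣ Fintype.card F - 1 := Nat.dvd_of_mul_dvd_mul_left hp.pos h4
    rw [(dvd_sub_one_iff r _ (by omega)).1 h5]
    omega
  · have hcommAN : Commute (A ^ (p * (Fintype.card F - 1)))
        (A ^ r - c' • (1 : Matrix (Fin n) (Fin n) F)) :=
      ((Commute.refl A).pow_pow _ _).sub_right (Commute.smul_right (Commute.one_right _) c')
    have har' : (Matrix.toLin' (A ^ (p * (Fintype.card F - 1)))) ^ r = 1 := by
      rw [toLin'_pow_eq, hbr, Matrix.toLin'_one]
      rfl
    have hb1' : Matrix.toLin' (A ^ (p * (Fintype.card F - 1))) ≠ 1 := by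
      intro h
      apply hb1
      apply Matrix.toLin'.injective
      rw [h, Matrix.toLin'_one]
      rfl
    have hNp' : (Matrix.toLin' (A ^ r - c' • (1 : Matrix (Fin n) (Fin n) F))) ^ p = 0 := by
      rw [toLin'_pow_eq, hNp, map_zero]
    have hN0' : Matrix.toLin' (A ^ r - c' • (1 : Matrix (Fin n) (Fin n) F)) ≠ 0 := by
      intro h
      apply hN0
      apply Matrix.toLin'.injective
      rw [h, map_zero]
    have key := add_two_le_of_commute_nilpotent (V := Fin n → F) r _ _
      (toLin'_commute _ _ hcommAN) har' hb1' (natCast_ne_zero_of_prime_ne p r hr hrp) p hNp' hN0'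
      (by rw [Module.finrank_fin_fun]; exact h3)
    rwa [Module.finrank_fin_fun] at key

/-- An element of order `r p` from a field block and a unipotent block. -/
theorem exists_psl_orderOf_rp_field (p : ℕ) [Fact p.Prime] [CharP F p] (k : ℕ) [NeZero k] (n : ℕ)
    (hkn : k + 2 ≤ n) (r : ℕ) (hr : r.Prime) (hrp : r ≠ p)
    (x : FiniteField.Extension F p k) (hx : orderOf x = r) (hnorm : Algebra.norm F x = 1) :
    ∃ g : Matrix.ProjectiveSpecialLinearGroup (Fin n) F, orderOf g = r * p := by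
  have hp : p.Prime := Fact.out
  apply exists_psl_orderOf
    (V := FiniteField.Extension F p k × ((Fin 2 → F) × (Fin (n - k - 2) → F))) n
    (by rw [Module.finrank_prod, Module.finrank_prod, FiniteField.finrank_extension,
      Module.finrank_fin_fun, Module.finrank_fin_fun]; omega)
    ((Algebra.lmul F _ x).prodMap
      ((Matrix.toLin' (!![1, 1; 0, 1] : Matrix (Fin 2) (Fin 2) F)).prodMap 1))
  · rw [LinearMap.det_prodMap, LinearMap.det_prodMap, ← Algebra.norm_apply, hnorm,
      LinearMap.det_toLin', Matrix.det_fin_two_of, one_mul]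
    have : LinearMap.det (1 : Module.End F (Fin (n - k - 2) → F)) = 1 := LinearMap.det_id
    rw [this]
    ring
  · intro m
    constructor
    · rintro ⟨c, hc⟩
      rw [prodMap_pow_eq_smul_iff, prodMap_pow_eq_smul_iff, lmul_pow_eq_smul_iff,
        toLin'_pow_eq_smul_iff, jordan_pow_eq_smul_iff 1 one_ne_zero, one_pow] at hc
      obtain ⟨h1, ⟨h2, h3⟩, -⟩ := hc
      rw [← h2, map_one] at h1
      have hr' : r ∣ m := by
        rw [← hx]
        exact orderOf_dvd_of_pow_eq_one h1
      exact Nat.Coprime.mul_dvd_of_dvd_of_dvd ((Nat.coprime_primes hr hp).2 hrp) hr'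
        ((CharP.cast_eq_zero_iff F p m).1 h3)
    · intro h
      refine ⟨1, ?_⟩
      rw [prodMap_pow_eq_smul_iff, prodMap_pow_eq_smul_iff, lmul_pow_eq_smul_iff,
        toLin'_pow_eq_smul_iff, jordan_pow_eq_smul_iff 1 one_ne_zero, one_pow, one_pow, one_smul,
        map_one]
      refine ⟨?_, ⟨rfl, (CharP.cast_eq_zero_iff F p m).2 (dvd_of_mul_left_dvd h)⟩, rfl⟩
      rw [← hx] at h
      exact orderOf_dvd_iff_pow_eq_one.1 (dvd_of_mul_right_dvd h)

/-- An element of order `r p` from a split torus element and a unipotent block. -/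
theorem exists_psl_orderOf_rp_split (p : ℕ) [Fact p.Prime] [CharP F p] (n : ℕ) (h4 : 4 ≤ n)
    (r : ℕ) (hr : r.Prime) (hrp : r ≠ p) (a : F) (ha : orderOf a = r) :
    ∃ g : Matrix.ProjectiveSpecialLinearGroup (Fin n) F, orderOf g = r * p := by
  have hp : p.Prime := Fact.out
  have ha0 : a ≠ 0 := by
    rintro rfl
    rw [orderOf_eq_zero_iff.2 (by
      intro h
      obtain ⟨m, hm, hm'⟩ := h.exists_pow_eq_one
      rw [zero_pow hm.ne'] at hm'
      exact zero_ne_one hm')] at ha
    exact hr.ne_zero ha.symm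
  apply exists_psl_orderOf
    (V := F × (F × ((Fin 2 → F) × (Fin (n - 4) → F)))) n
    (by rw [Module.finrank_prod, Module.finrank_prod, Module.finrank_prod, Module.finrank_self,
      Module.finrank_fin_fun, Module.finrank_fin_fun]; omega)
    ((Algebra.lmul F F a).prodMap ((Algebra.lmul F F a⁻¹).prodMap
      ((Matrix.toLin' (!![1, 1; 0, 1] : Matrix (Fin 2) (Fin 2) F)).prodMap 1)))
  · rw [LinearMap.det_prodMap, LinearMap.det_prodMap, LinearMap.det_prodMap, det_lmul_self,
      det_lmul_self, LinearMap.det_toLin', Matrix.det_fin_two_of]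
    have : LinearMap.det (1 : Module.End F (Fin (n - 4) → F)) = 1 := LinearMap.det_id
    rw [this]
    field_simp
    ring
  · intro m
    constructor
    · rintro ⟨c, hc⟩
      rw [prodMap_pow_eq_smul_iff, prodMap_pow_eq_smul_iff, prodMap_pow_eq_smul_iff,
        lmul_pow_eq_smul_iff, lmul_pow_eq_smul_iff, toLin'_pow_eq_smul_iff,
        jordan_pow_eq_smul_iff 1 one_ne_zero, one_pow] at hc
      obtain ⟨h1, -, ⟨h2, h3⟩, -⟩ := hc
      rw [← h2] at h1
      have hr' : r ∣ m := by
        rw [← ha]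
        exact orderOf_dvd_of_pow_eq_one h1
      exact Nat.Coprime.mul_dvd_of_dvd_of_dvd ((Nat.coprime_primes hr hp).2 hrp) hr'
        ((CharP.cast_eq_zero_iff F p m).1 h3)
    · intro h
      refine ⟨1, ?_⟩
      rw [prodMap_pow_eq_smul_iff, prodMap_pow_eq_smul_iff, prodMap_pow_eq_smul_iff,
        lmul_pow_eq_smul_iff, lmul_pow_eq_smul_iff, toLin'_pow_eq_smul_iff,
        jordan_pow_eq_smul_iff 1 one_ne_zero, one_pow, one_pow, one_smul]
      rw [← ha] at h
      have ham : a ^ m = 1 := orderOf_dvd_iff_pow_eq_one.1 (dvd_of_mul_right_dvd h)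
      refine ⟨ham, ?_, ⟨rfl, (CharP.cast_eq_zero_iff F p m).2 (dvd_of_mul_left_dvd h)⟩, rfl⟩
      rw [inv_pow, ham]
      simp

theorem exists_orderOf_eq_of_dvd (r : ℕ) (hr : r ∣ Fintype.card F - 1) :
    ∃ a : F, orderOf a = r := by
  obtain ⟨ζ, hζ0, hζ⟩ := exists_gen F
  rw [Nat.card_eq_fintype_card] at hζ
  have hq : 2 ≤ Fintype.card F := Fintype.one_lt_card
  obtain ⟨t, ht⟩ := hr
  have ht0 : t ≠ 0 := by
    rintro rfl
    rw [mul_zero] at ht
    omega
  have hord : orderOf ζ = Fintype.card F - 1 := orderOf_eq_of_forall_pow ζ _ hζ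
  refine ⟨ζ ^ t, ?_⟩
  rw [orderOf_pow_of_dvd ht0 (by rw [hord, ht]; exact dvd_mul_left t r), hord, ht,
    Nat.mul_div_cancel _ (Nat.pos_of_ne_zero ht0)]

end rp

end Cfsg.Agent.H41
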