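import Mathlib

set_option autoImplicit false
set_option linter.unusedSimpArgs false
set_option linter.unusedSectionVars false
set_option linter.unusedVariables false
set_option linter.style.haveILetI false

namespace Cfsg.Agent.H41

open Matrix Polynomial

section selfdual

variable {F : Type*} [Field F]

/-- A polynomial of odd degree `d` whose coefficients satisfy `a_i + a_{d-i} = 0` vanishes at
`1`. -/
theorem eval_one_eq_zero_of_antipalindromic (P : F[X]) (d : ℕ) (hd : Odd d)
    (hdeg : P.natDegree = d) (h : ∀ i ≤ d, P.coeff i + P.coeff (d - i) = 0) :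
    P.eval 1 = 0 := by
  rw [Polynomial.eval_eq_sum_range, hdeg]
  simp only [one_pow, mul_one]
  apply Finset.sum_involution (fun i _ => d - i)
  · intro i hi
    rw [Finset.mem_range] at hi
    exact h i (by omega)
  · intro i hi _
    rw [Finset.mem_range] at hi
    obtain ⟨j, hj⟩ := hd
    omega
  · intro i hi
    rw [Finset.mem_range] at hi ⊢
    omega
  · intro i hi
    rw [Finset.mem_range] at hi
    omega

/-- A matrix of odd size and odd order preserving a nondegenerate bilinear form has eigenvalue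
`1`. -/
theorem det_one_sub_eq_zero_of_preserves {ι : Type*} [Fintype ι] [DecidableEq ι]
    (M G : Matrix ι ι F) (hMG : Mᵀ * G * M = G) (hG : G.det ≠ 0) (r : ℕ) (hr : Odd r)
    (hMr : M ^ r = 1) (hd : Odd (Fintype.card ι)) : (1 - M).det = 0 := by
  have hdet2 : M.det * M.det = 1 := by
    have h1 := congrArg Matrix.det hMG
    rw [Matrix.det_mul, Matrix.det_mul, Matrix.det_transpose] at h1
    have h2 : G.det * (M.det * M.det) = G.det * 1 := by
      calc G.det * (M.det * M.det) = M.det * G.det * M.det := by ring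
        _ = G.det * 1 := by rw [h1, mul_one]
    exact mul_left_cancel₀ hG h2
  have hdetr : M.det ^ r = 1 := by
    rw [← Matrix.det_pow, hMr, Matrix.det_one]
  have hdet : M.det = 1 := by
    obtain ⟨j, hj⟩ := hr
    rw [hj, pow_succ, pow_mul, sq, hdet2, one_pow, one_mul] at hdetr
    exact hdetr
  have hMu : IsUnit M := (Matrix.isUnit_iff_isUnit_det M).2 (by rw [hdet]; exact isUnit_one)
  have hGu : IsUnit G.det := isUnit_iff_ne_zero.2 hG
  have hMM : M * M⁻¹ = 1 := Matrix.mul_nonsing_inv M (by rw [hdet]; exact isUnit_one)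
  have hT : Mᵀ = G * M⁻¹ * G⁻¹ := by
    have h1 : Mᵀ * G = G * M⁻¹ := by
      calc Mᵀ * G = Mᵀ * G * (M * M⁻¹) := by rw [hMM, mul_one]
        _ = (Mᵀ * G * M) * M⁻¹ := by simp only [mul_assoc]
        _ = G * M⁻¹ := by rw [hMG]
    calc Mᵀ = Mᵀ * (G * G⁻¹) := by rw [Matrix.mul_nonsing_inv G hGu, mul_one]
      _ = (Mᵀ * G) * G⁻¹ := by rw [mul_assoc]
      _ = G * M⁻¹ * G⁻¹ := by rw [h1]
  have hchar : M.charpoly = M⁻¹.charpoly := by
    rw [← Matrix.charpoly_transpose M, hT, Matrix.charpoly_mul_comm, ← mul_assoc,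
      Matrix.nonsing_inv_mul G hGu, one_mul]
  have hrev : M.charpoly = - M.charpoly.reverse := by
    conv_lhs => rw [hchar]
    rw [Matrix.charpoly_inv M hMu, hdet, Ring.inverse_one, map_one, mul_one,
      Matrix.reverse_charpoly, hd.neg_one_pow, neg_one_mul]
  rw [← map_one (Matrix.scalar ι), ← Matrix.eval_charpoly]
  apply eval_one_eq_zero_of_antipalindromic _ (Fintype.card ι) hd
    (Matrix.charpoly_natDegree_eq_dim M)
  intro i hi
  have h1 : M.charpoly.coeff i = - M.charpoly.coeff (Fintype.card ι - i) := by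
    conv_lhs => rw [hrev]
    rw [Polynomial.coeff_neg, Polynomial.coeff_reverse, Matrix.charpoly_natDegree_eq_dim,
      Polynomial.revAt_le hi]
  rw [h1, neg_add_cancel]

/-- A linear map of odd order on an odd-dimensional space preserving a (right-)nondegenerate
bilinear form has a nonzero fixed vector. -/
theorem exists_fixed_of_odd {X : Type*} [AddCommGroup X] [Module F X] [Module.Finite F X]
    (β : LinearMap.BilinForm F X) (f : Module.End F X)
    (hinv : ∀ x y, β (f x) (f y) = β x y) (hsep : ∀ y, (∀ x, β x y = 0) → y = 0)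
    (r : ℕ) (hr : Odd r) (hfr : f ^ r = 1) (hd : Odd (Module.finrank F X)) :
    ∃ x : X, x ≠ 0 ∧ f x = x := by
  classical
  obtain ⟨b, hb⟩ : ∃ b : Module.Basis (Fin (Module.finrank F X)) F X, b = Module.finBasis F X :=
    ⟨_, rfl⟩
  have hnd : β.Nondegenerate := LinearMap.BilinForm.Nondegenerate.ofSeparatingRight hsep
  have hG : (LinearMap.BilinForm.toMatrix b β).det ≠ 0 :=
    (LinearMap.BilinForm.nondegenerate_iff_det_ne_zero b).1 hnd
  have hcomp : β.comp f f = β := by
    apply LinearMap.ext₂
    intro x y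
    rw [LinearMap.BilinForm.comp_apply, hinv]
  have hMG : (LinearMap.toMatrix b b f)ᵀ * LinearMap.BilinForm.toMatrix b β *
      LinearMap.toMatrix b b f = LinearMap.BilinForm.toMatrix b β := by
    rw [← LinearMap.BilinForm.toMatrix_comp b b, hcomp]
  have hMr : (LinearMap.toMatrix b b f) ^ r = 1 := by
    rw [LinearMap.toMatrix_pow, hfr, LinearMap.toMatrix_one]
  have hdet := det_one_sub_eq_zero_of_preserves _ _ hMG hG r hr hMr
    (by rw [Fintype.card_fin]; exact hd)
  have hdet' : LinearMap.det (1 - f) = 0 := by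
    rw [← LinearMap.det_toMatrix b, map_sub, LinearMap.toMatrix_one]
    exact hdet
  have hker := LinearMap.bot_lt_ker_of_det_eq_zero hdet'
  obtain ⟨x, hx, hx0⟩ := (Submodule.ne_bot_iff _).1 hker.ne'
  refine ⟨x, hx0, ?_⟩
  rw [LinearMap.mem_ker, LinearMap.sub_apply, Module.End.one_apply, sub_eq_zero] at hx
  exact hx.symm

/-- Submodule version: `f` leaves `X` invariant, preserves `β` on `X`, and `β` restricted to `X`
is right-nondegenerate. -/
theorem exists_fixed_of_odd_submodule {V : Type*} [AddCommGroup V] [Module F V]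
    [Module.Finite F V] (X : Submodule F V)
    (β : LinearMap.BilinForm F V) (f : Module.End F V) (hX : ∀ x ∈ X, f x ∈ X)
    (hinv : ∀ x ∈ X, ∀ y ∈ X, β (f x) (f y) = β x y)
    (hsep : ∀ y ∈ X, (∀ x ∈ X, β x y = 0) → y = 0)
    (r : ℕ) (hr : Odd r) (hfr : f ^ r = 1) (hd : Odd (Module.finrank F X)) :
    ∃ x ∈ X, x ≠ 0 ∧ f x = x := by
  have hfr' : (f.restrict hX) ^ r = 1 := by
    rw [Module.End.pow_restrict, LinearMap.ext_iff]
    intro x
    apply Subtype.ext
    rw [LinearMap.coe_restrict_apply, hfr]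
    rfl
  obtain ⟨x, hx0, hx⟩ := exists_fixed_of_odd (β.restrict X) (f.restrict hX)
    (by
      intro x y
      exact hinv x x.2 y y.2)
    (by
      intro y hy
      apply Subtype.ext
      exact hsep y y.2 (fun x hx => hy ⟨x, hx⟩))
    r hr hfr' hd
  refine ⟨x, x.2, fun h => hx0 (Subtype.ext h), ?_⟩
  have := congrArg Subtype.val hx
  rwa [LinearMap.coe_restrict_apply] at this

end selfdual

end Cfsg.Agent.H41
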