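import Mathlib
import Cfsg.Agent.H41.FixFree
import Cfsg.Agent.H41.NilFix
import Cfsg.Agent.H41.SelfDual

set_option autoImplicit false
set_option linter.unusedSimpArgs false
set_option linter.unusedSectionVars false
set_option linter.unusedVariables false
set_option linter.style.haveILetI false

namespace Cfsg.Agent.H41

open Finset

section spnil

variable {F : Type*} [Field F] {V : Type*} [AddCommGroup V] [Module F V]

theorem form_pow_invariant (ω : LinearMap.BilinForm F V) (b : Module.End F V)
    (hb : ∀ x y, ω (b x) (b y) = ω x y) (i : ℕ) (x y : V) :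
    ω ((b ^ i) x) ((b ^ i) y) = ω x y := by
  induction i with
  | zero => simp
  | succ i ih => rw [pow_succ', Module.End.mul_apply, Module.End.mul_apply, hb, ih]

/-- Fixed vectors are orthogonal to the norm kernel. -/
theorem form_fixed_normKer (ω : LinearMap.BilinForm F V) (b : Module.End F V)
    (hb : ∀ x y, ω (b x) (b y) = ω x y) (r : ℕ) (hrF : (r : F) ≠ 0) (e w : V) (he : b e = e)
    (hw : w ∈ normKer b r) : ω e w = 0 := by
  rw [mem_normKer, LinearMap.sum_apply] at hw
  have h2 : ∀ i ∈ range r, ω e ((b ^ i) w) = ω e w := by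
    intro i _
    conv_lhs => rw [← pow_apply_of_fixed b e he i]
    exact form_pow_invariant ω b hb i e w
  have h1 : ω e (∑ i ∈ range r, (b ^ i) w) = (r : F) * ω e w := by
    rw [map_sum, Finset.sum_congr rfl h2, Finset.sum_const, Finset.card_range, nsmul_eq_mul]
  rw [hw, map_zero] at h1
  exact (mul_eq_zero.1 h1.symm).resolve_left hrF

theorem form_normKer_fixed (ω : LinearMap.BilinForm F V) (b : Module.End F V)
    (hb : ∀ x y, ω (b x) (b y) = ω x y) (r : ℕ) (hrF : (r : F) ≠ 0) (e w : V) (he : b e = e)
    (hw : w ∈ normKer b r) : ω w e = 0 := by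
  have h := form_fixed_normKer ω.flip b (fun x y => by
    rw [LinearMap.BilinForm.flip_apply, LinearMap.BilinForm.flip_apply, hb]) r hrF e w he hw
  rwa [LinearMap.BilinForm.flip_apply] at h

theorem exists_fixed_add_normKer (b : Module.End F V) (r : ℕ) (hrF : (r : F) ≠ 0)
    (hbr : b ^ r = 1) (x : V) : ∃ e w, b e = e ∧ w ∈ normKer b r ∧ x = e + w := by
  obtain ⟨S, hS⟩ : ∃ S : Module.End F V, S = ∑ i ∈ range r, b ^ i := ⟨_, rfl⟩
  have hbS : b * S = S := by
    have h := mul_geom_sum b r
    rw [← hS, hbr, sub_self, sub_mul, one_mul, sub_eq_zero] at h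
    exact h
  have hfix : ∀ y, b (S y) = S y := fun y => by rw [← Module.End.mul_apply, hbS]
  have hSS : ∀ z, b z = z → S z = (r : F) • z := by
    intro z hz
    rw [hS, LinearMap.sum_apply, Finset.sum_congr rfl (fun i _ => pow_apply_of_fixed b z hz i),
      Finset.sum_const, Finset.card_range, Nat.cast_smul_eq_nsmul]
  refine ⟨(r : F)⁻¹ • S x, x - (r : F)⁻¹ • S x, ?_, ?_, by abel⟩
  · rw [map_smul, hfix]
  · rw [mem_normKer, ← hS, map_sub, map_smul, hSS (S x) (hfix x), smul_smul,
      inv_mul_cancel₀ hrF, one_smul, sub_self]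

variable [Fintype F] [Module.Finite F V]

/-- The key bound for `r p`-elements in symplectic groups. -/
theorem sp_rp_bound (ω : LinearMap.BilinForm F V) (halt : ω.IsAlt) (hnd : ω.Nondegenerate)
    (r : ℕ) [Fact r.Prime] (hr2 : r ≠ 2) (hrF : (r : F) ≠ 0)
    (b u : Module.End F V) (hb : ∀ x y, ω (b x) (b y) = ω x y)
    (hu : ∀ x y, ω (u x) (u y) = ω x y)
    (hbu : Commute b u) (hbr : b ^ r = 1) (hb1 : b ≠ 1) (J : ℕ) (hNp : (u - 1) ^ J = 0)
    (hN0 : u - 1 ≠ 0) :
    (Odd (orderOf ((Fintype.card F : ℕ) : ZMod r)) →
      2 * orderOf ((Fintype.card F : ℕ) : ZMod r) + 2 ≤ Module.finrank F V) ∧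
    (Even (orderOf ((Fintype.card F : ℕ) : ZMod r)) →
      orderOf ((Fintype.card F : ℕ) : ZMod r) + 2 ≤ Module.finrank F V) := by
  have hrp : r.Prime := Fact.out
  have hrodd : Odd r := hrp.odd_of_ne_two hr2
  have hkU0 := orderOf_dvd_finrank_of_le_normKer r b hbr hrF (normKer b r) le_rfl
    (normKer_invariant b b (Commute.refl b) r)
  obtain ⟨k, hk⟩ : ∃ k, k = orderOf ((Fintype.card F : ℕ) : ZMod r) := ⟨_, rfl⟩
  rw [← hk] at hkU0 ⊢
  have hUinv := normKer_invariant b b (Commute.refl b) r
  have hUfree := normKer_fixfree b r hrF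
  have hUpos : 0 < Module.finrank F (normKer b r) := by
    rw [Module.finrank_pos_iff_exists_ne_zero]
    obtain ⟨x, hx, hx0⟩ := (Submodule.ne_bot_iff _).1 (normKer_ne_bot b r hbr hb1)
    exact ⟨⟨x, hx⟩, fun h => hx0 (congrArg Subtype.val h)⟩
  have hUsep : ∀ y ∈ normKer b r, (∀ x ∈ normKer b r, ω x y = 0) → y = 0 := by
    intro y hy h
    apply hnd.2
    intro x
    obtain ⟨e, w, he, hw, rfl⟩ := exists_fixed_add_normKer b r hrF hbr x
    rw [map_add, LinearMap.add_apply, form_fixed_normKer ω b hb r hrF e y he hy, h w hw,
      add_zero]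
  have hUeven : Even (Module.finrank F (normKer b r)) := by
    by_contra hodd
    rw [Nat.not_even_iff_odd] at hodd
    obtain ⟨x, hxU, hx0, hx⟩ := exists_fixed_of_odd_submodule (normKer b r) ω b hUinv
      (fun x _ y _ => hb x y) hUsep r hrodd hbr hodd
    exact hx0 (hUfree x hxU hx)
  have hk0 : 0 < k := by
    apply Nat.pos_of_ne_zero
    rintro rfl
    rw [zero_dvd_iff] at hkU0
    omega
  have hU1 : Odd k → 2 * k ∣ Module.finrank F (normKer b r) := by
    intro hodd
    exact Nat.Coprime.mul_dvd_of_dvd_of_dvd (Nat.coprime_two_left.2 hodd) hUeven.two_dvd hkU0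
  have hU2 : k ≤ Module.finrank F (normKer b r) := Nat.le_of_dvd hUpos hkU0
  by_cases hE : ∃ e, e ≠ 0 ∧ b e = e
  · obtain ⟨e, he0, he⟩ := hE
    have hex : ∃ x, ω x e ≠ 0 := by
      by_contra hcon
      push Not at hcon
      exact he0 (hnd.2 e hcon)
    obtain ⟨x, hx⟩ := hex
    obtain ⟨e', w, he', hw, rfl⟩ := exists_fixed_add_normKer b r hrF hbr x
    rw [map_add, LinearMap.add_apply, form_normKer_fixed ω b hb r hrF e w he hw, add_zero] at hx
    obtain ⟨E, hE⟩ : ∃ E : Submodule F V, E = LinearMap.ker (b - 1) := ⟨_, rfl⟩
    have hmemE : ∀ z, z ∈ E ↔ b z = z := by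
      intro z
      rw [hE, LinearMap.mem_ker, LinearMap.sub_apply, Module.End.one_apply, sub_eq_zero]
    have hdisj : Disjoint E (normKer b r) := by
      rw [Submodule.disjoint_def]
      intro z hz hz'
      exact hUfree z hz' ((hmemE z).1 hz)
    have hli : LinearIndependent F ![(⟨e, (hmemE e).2 he⟩ : E), ⟨e', (hmemE e').2 he'⟩] := by
      rw [LinearIndependent.pair_iff]
      intro s t hst
      have hst' : s • e + t • e' = 0 := by
        have := congrArg Subtype.val hst
        simpa using this
      have h1 : t * ω e' e = 0 := by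
        have := congrArg (fun z => ω z e) hst'
        simp only [map_add, map_smul, LinearMap.add_apply, LinearMap.smul_apply, smul_eq_mul,
          halt e, mul_zero, zero_add, map_zero, LinearMap.zero_apply] at this
        exact this
      have ht : t = 0 := (mul_eq_zero.1 h1).resolve_right hx
      rw [ht, zero_smul, add_zero] at hst'
      exact ⟨(smul_eq_zero.1 hst').resolve_right he0, ht⟩
    have hE2 : 2 ≤ Module.finrank F E := by
      have := hli.fintype_card_le_finrank
      simpa using this
    have hsum : Module.finrank F E + Module.finrank F (normKer b r) ≤ Module.finrank F V := by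
      have h1 := Submodule.finrank_sup_add_finrank_inf_eq E (normKer b r)
      rw [hdisj.eq_bot, finrank_bot, add_zero] at h1
      rw [← h1]
      exact Submodule.finrank_le _
    constructor
    · intro hodd
      have := Nat.le_of_dvd hUpos (hU1 hodd)
      omega
    · intro _
      omega
  · push Not at hE
    have hfree : ∀ w, b w = w → w = 0 := fun w hw => by_contra fun h => hE w h hw
    have hUtop : normKer b r = ⊤ := by
      rw [eq_top_iff]
      intro x _
      obtain ⟨e, w, he, hw, rfl⟩ := exists_fixed_add_normKer b r hrF hbr x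
      rw [hfree e he, zero_add]
      exact hw
    have hVU : Module.finrank F (normKer b r) = Module.finrank F V := by
      rw [hUtop, finrank_top]
    rw [hVU] at hkU0 hUpos hUeven hU1 hU2
    obtain ⟨N, hN⟩ : ∃ N : Module.End F V, N = u - 1 := ⟨_, rfl⟩
    rw [← hN] at hNp hN0
    have hbN : Commute b N := by
      rw [hN]
      exact hbu.sub_right (Commute.one_right b)
    have hcomm : ∀ y, N (b y) = b (N y) := by
      intro y
      have := congrArg (fun f => f y) hbN.eq
      simpa [Module.End.mul_apply] using this.symm
    have hNform : ∀ x y, ω x (N y) + ω (N x) y + ω (N x) (N y) = 0 := by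
      intro x y
      have h := hu x y
      have hux : u x = x + N x := by
        rw [hN, LinearMap.sub_apply, Module.End.one_apply]
        abel
      have huy : u y = y + N y := by
        rw [hN, LinearMap.sub_apply, Module.End.one_apply]
        abel
      rw [hux, huy] at h
      simp only [map_add, LinearMap.add_apply] at h
      linear_combination h
    have hkerrange : ∀ z y, N z = 0 → ω z (N y) = 0 := by
      intro z y hz
      have h := hNform z y
      rw [hz] at h
      simpa using h
    have hWinv : ∀ w ∈ LinearMap.ker N, b w ∈ LinearMap.ker N := by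
      intro w hw
      rw [LinearMap.mem_ker] at hw ⊢
      rw [hcomm, hw, map_zero]
    have hkW : k ∣ Module.finrank F (LinearMap.ker N) := by
      rw [hk]
      exact orderOf_dvd_finrank_of_fixedPointFree r b hbr (LinearMap.ker N) hWinv
        (fun w _ h => hfree w h)
    have hWpos : 0 < Module.finrank F (LinearMap.ker N) := by
      have hV : ∃ v : V, v ≠ 0 := by
        by_contra hcon
        push Not at hcon
        apply hN0
        ext v
        rw [hcon v, map_zero, map_zero]
      obtain ⟨v, hv0⟩ := hV
      obtain ⟨w, -, hw0, hw⟩ := exists_ker_of_nilpotent N J hNp ⊤ (fun _ _ => Submodule.mem_top)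
        v Submodule.mem_top hv0
      rw [Module.finrank_pos_iff_exists_ne_zero]
      exact ⟨⟨w, LinearMap.mem_ker.2 hw⟩, fun h => hw0 (congrArg Subtype.val h)⟩
    have hWlt : Module.finrank F (LinearMap.ker N) < Module.finrank F V := by
      apply Submodule.finrank_lt
      intro h
      apply hN0
      exact LinearMap.ker_eq_top.1 h
    have hrank := LinearMap.finrank_range_add_finrank_ker N
    constructor
    · intro hodd
      have h2k := hU1 hodd
      by_contra hlt
      push Not at hlt
      obtain ⟨c, hc⟩ := h2k
      have hc1 : c = 1 := by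
        rcases Nat.lt_or_ge c 2 with h | h
        · have : c ≠ 0 := by
            rintro rfl
            omega
          omega
        · have : 2 * k * 2 ≤ 2 * k * c := Nat.mul_le_mul_left _ h
          omega
      rw [hc1, mul_one] at hc
      obtain ⟨d, hd⟩ := hkW
      have hd1 : d = 1 := by
        rcases Nat.lt_or_ge d 2 with h | h
        · have : d ≠ 0 := by
            rintro rfl
            omega
          omega
        · have : k * 2 ≤ k * d := Nat.mul_le_mul_left _ h
          omega
      rw [hd1, mul_one] at hd
      have hXdim : Module.finrank F (LinearMap.range N) = k := by omega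
      obtain ⟨s₀, hs₀⟩ := LinearMap.exists_rightInverse_of_surjective N.rangeRestrict
        (LinearMap.range_rangeRestrict N)
      obtain ⟨π, hπ⟩ := LinearMap.exists_leftInverse_of_injective (LinearMap.range N).subtype
        (Submodule.ker_subtype _)
      have hs : ∀ w ∈ LinearMap.range N, N (s₀ (π w)) = w := by
        intro w hw
        have h1 : π w = ⟨w, hw⟩ := by
          have := congrArg (fun f => f ⟨w, hw⟩) hπ
          simpa using this
        rw [h1]
        have h2 := congrArg (fun f => ((f ⟨w, hw⟩ : LinearMap.range N) : V)) hs₀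
        simpa using h2
      obtain ⟨s, hsdef⟩ : ∃ s : V →ₗ[F] V, s = s₀ ∘ₗ π := ⟨_, rfl⟩
      have hs' : ∀ w ∈ LinearMap.range N, N (s w) = w := by
        intro w hw
        rw [hsdef]
        exact hs w hw
      have hXinv : ∀ x ∈ LinearMap.range N, b x ∈ LinearMap.range N := by
        rintro x ⟨y, rfl⟩
        exact ⟨b y, hcomm y⟩
      obtain ⟨x, hxX, hx0, hx⟩ := exists_fixed_of_odd_submodule (LinearMap.range N) (ω ∘ₗ s) b
        hXinv
        (by
          intro x hx y hy
          rw [LinearMap.comp_apply, LinearMap.comp_apply]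
          have hz : N (s (b x) - b (s x)) = 0 := by
            rw [map_sub, hs' _ (hXinv x hx), hcomm, hs' x hx, sub_self]
          obtain ⟨y', rfl⟩ := hy
          have h1 : ω (s (b x) - b (s x)) (b (N y')) = 0 := by
            rw [← hcomm]
            exact hkerrange _ _ hz
          rw [map_sub, LinearMap.sub_apply, sub_eq_zero] at h1
          rw [h1, hb])
        (by
          intro y hy h
          apply hnd.2
          intro v
          have hz : N (v - s (N v)) = 0 := by
            rw [map_sub, hs' _ ⟨v, rfl⟩, sub_self]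
          obtain ⟨y', rfl⟩ := hy
          have h1 := hkerrange _ y' hz
          rw [map_sub, LinearMap.sub_apply, sub_eq_zero] at h1
          rw [h1]
          have h2 := h (N v) ⟨v, rfl⟩
          rwa [LinearMap.comp_apply] at h2)
        r hrodd hbr (by rw [hXdim]; exact hodd)
      exact hx0 (hfree x hx)
    · intro heven
      obtain ⟨c, hc⟩ := hkU0
      obtain ⟨j, hj⟩ := heven
      have hkle := Nat.le_of_dvd hWpos hkW
      have hc2 : 2 ≤ c := by
        by_contra h
        push Not at h
        interval_cases c <;> omega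
      have : k * 2 ≤ k * c := Nat.mul_le_mul_left _ hc2
      omega

end spnil

end Cfsg.Agent.H41
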