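import Mathlib
import Cfsg.Agent.H41.SpNil
import Cfsg.Agent.H41.PSLnRS
import Cfsg.Agent.H41.PSLnBlocks
import Cfsg.Agent.Lib.Helper13.SympMat
import Cfsg.Agent.Lib.Helper5.SpCard
import Cfsg.Agent.S0246

set_option autoImplicit false
set_option linter.unusedSimpArgs false
set_option linter.unusedSectionVars false
set_option linter.unusedVariables false
set_option linter.style.haveILetI false

namespace Cfsg.Agent.H41

open Matrix Cfsg.Agent.Lib.Helper13.SympMat Cfsg.Agent.Lib.Helper5.SpCard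

section psprp

variable {F : Type*} [Field F]

theorem toLin'_pow_gen {ι : Type*} [Fintype ι] [DecidableEq ι] (A : Matrix ι ι F) (m : ℕ) :
    (Matrix.toLin' A) ^ m = Matrix.toLin' (A ^ m) := by
  induction m with
  | zero => rw [pow_zero, pow_zero, Matrix.toLin'_one]; rfl
  | succ m ih => rw [pow_succ, pow_succ, ih, Matrix.toLin'_mul, Module.End.mul_eq_comp]

theorem toLin'_commute_gen {ι : Type*} [Fintype ι] [DecidableEq ι] (A B : Matrix ι ι F)
    (h : Commute A B) : Commute (Matrix.toLin' A) (Matrix.toLin' B) := by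
  show Matrix.toLin' A * Matrix.toLin' B = Matrix.toLin' B * Matrix.toLin' A
  rw [Module.End.mul_eq_comp, Module.End.mul_eq_comp, ← Matrix.toLin'_mul, ← Matrix.toLin'_mul,
    h.eq]

/-- Powers in `PSp`: trivial iff the matrix power is a scalar `±1`. -/
theorem psp_pow_eq_one_iff {n : ℕ} (hn : 1 ≤ n) (g : Matrix.symplecticGroup (Fin n) F) (m : ℕ) :
    (QuotientGroup.mk g : Cfsg.PSp n F) ^ m = 1 ↔
      ∃ c : F, c ^ 2 = 1 ∧
        (g : Matrix (Fin n ⊕ Fin n) (Fin n ⊕ Fin n) F) ^ m = c • 1 := by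
  rw [← QuotientGroup.mk_pow, QuotientGroup.eq_one_iff]
  constructor
  · intro h
    obtain ⟨c, hc, hc'⟩ := Cfsg.Agent.S0246.center_scalar n hn (g ^ m) h
    refine ⟨c, hc, ?_⟩
    rw [← hc']
    rfl
  · rintro ⟨c, hc, hc'⟩
    rw [Subgroup.mem_center_iff]
    intro B
    apply Subtype.ext
    show (B : Matrix (Fin n ⊕ Fin n) (Fin n ⊕ Fin n) F) *
        (g : Matrix (Fin n ⊕ Fin n) (Fin n ⊕ Fin n) F) ^ m =
      (g : Matrix (Fin n ⊕ Fin n) (Fin n ⊕ Fin n) F) ^ m *
        (B : Matrix (Fin n ⊕ Fin n) (Fin n ⊕ Fin n) F)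
    rw [hc', Matrix.mul_smul, Matrix.smul_mul, Matrix.mul_one, Matrix.one_mul]

theorem pow_mem_symp {n : ℕ} (A : Matrix (Fin n ⊕ Fin n) (Fin n ⊕ Fin n) F)
    (hA : A ∈ Matrix.symplecticGroup (Fin n) F) (m : ℕ) :
    A ^ m ∈ Matrix.symplecticGroup (Fin n) F :=
  pow_mem hA m

variable [Fintype F]

/-- If `PSp_{2n}(q)` has an element of order `r p`, then `η(k) ≤ n - 1`. -/
theorem psp_rp_bound (p : ℕ) [Fact p.Prime] [CharP F p] (n : ℕ) (hn : 2 ≤ n) (r : ℕ)
    (hr : r.Prime) (hr2 : r ≠ 2) (hrp : r ≠ p)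
    (x : Cfsg.PSp n F) (hx : orderOf x = r * p) :
    (Odd (orderOf ((Fintype.card F : ℕ) : ZMod r)) →
      2 * orderOf ((Fintype.card F : ℕ) : ZMod r) + 2 ≤ 2 * n) ∧
    (Even (orderOf ((Fintype.card F : ℕ) : ZMod r)) →
      orderOf ((Fintype.card F : ℕ) : ZMod r) + 2 ≤ 2 * n) := by
  obtain ⟨g, rfl⟩ := QuotientGroup.mk_surjective x
  haveI := Fact.mk hr
  have hp : p.Prime := Fact.out
  have hq : 2 ≤ Fintype.card F := Fintype.one_lt_card
  haveI : Nonempty (Fin n ⊕ Fin n) := ⟨Sum.inl ⟨0, by omega⟩⟩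
  have h1 : (QuotientGroup.mk g : Cfsg.PSp n F) ^ (r * p) = 1 := by
    rw [← hx]
    exact pow_orderOf_eq_one _
  obtain ⟨c, hc2, hc⟩ := (psp_pow_eq_one_iff (by omega) g (r * p)).1 h1
  obtain ⟨A, hA⟩ : ∃ A : Matrix (Fin n ⊕ Fin n) (Fin n ⊕ Fin n) F,
      A = (g : Matrix (Fin n ⊕ Fin n) (Fin n ⊕ Fin n) F) := ⟨_, rfl⟩
  rw [← hA] at hc
  have hAmem : A ∈ Matrix.symplecticGroup (Fin n) F := by
    rw [hA]
    exact g.2
  have hc0 : c ≠ 0 := by
    rintro rfl
    simp at hc2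
  have hcc : c * c = 1 := by rw [← sq]; exact hc2
  have hcp : c ^ p = c := by
    rcases mul_self_eq_one_iff.1 hcc with h | h
    · rw [h, one_pow]
    · rw [h]
      rcases hp.eq_two_or_odd' with h2 | hodd
      · subst h2
        rw [neg_one_sq]
        exact (CharTwo.neg_eq (1 : F)).symm
      · exact hodd.neg_one_pow
  -- the unipotent part
  obtain ⟨U, hU⟩ : ∃ U : Matrix (Fin n ⊕ Fin n) (Fin n ⊕ Fin n) F, U = c • A ^ r := ⟨_, rfl⟩
  have hUmem : U ∈ Matrix.symplecticGroup (Fin n) F := by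
    have h2 : U = (c • (1 : Matrix (Fin n ⊕ Fin n) (Fin n ⊕ Fin n) F)) * A ^ r := by
      rw [hU, Matrix.smul_mul, Matrix.one_mul]
    rw [h2]
    exact mul_mem (Cfsg.Agent.S0246.scalar_mem n c hc2) (pow_mem_symp A hAmem r)
  have hUp : (U - 1) ^ p = 0 := by
    rw [sub_pow_char_of_commute (p := p) (Commute.one_right U), one_pow, hU, _root_.smul_pow,
      ← pow_mul, hc, hcp, smul_smul, hcc, one_smul, sub_self]
  have hU1 : U - 1 ≠ 0 := by
    intro h
    rw [sub_eq_zero] at h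
    have h3 : A ^ r = c • (1 : Matrix (Fin n ⊕ Fin n) (Fin n ⊕ Fin n) F) := by
      have h4 : c • U = c • (1 : Matrix (Fin n ⊕ Fin n) (Fin n ⊕ Fin n) F) := by rw [h]
      rw [hU, smul_smul, hcc, one_smul] at h4
      exact h4
    have h2 : (QuotientGroup.mk g : Cfsg.PSp n F) ^ r = 1 :=
      (psp_pow_eq_one_iff (by omega) g r).2 ⟨c, hc2, by rw [← hA]; exact h3⟩
    have h4 := orderOf_dvd_of_pow_eq_one h2
    rw [hx] at h4
    have h5 : p ∣ 1 := Nat.dvd_of_mul_dvd_mul_left hr.pos (by rwa [mul_one])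
    exact hp.one_lt.ne' (Nat.dvd_one.1 h5)
  -- the semisimple part
  obtain ⟨B, hB⟩ : ∃ B : Matrix (Fin n ⊕ Fin n) (Fin n ⊕ Fin n) F,
      B = A ^ (p * (Fintype.card F - 1)) := ⟨_, rfl⟩
  have hBmem : B ∈ Matrix.symplecticGroup (Fin n) F := by
    rw [hB]
    exact pow_mem_symp A hAmem _
  have hBr : B ^ r = 1 := by
    rw [hB, ← pow_mul]
    have e : p * (Fintype.card F - 1) * r = (r * p) * (Fintype.card F - 1) := by ring
    rw [e, pow_mul, hc, _root_.smul_pow, one_pow, FiniteField.pow_card_sub_one_eq_one c hc0,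
      one_smul]
  by_cases hB1 : B = 1
  · have h2 : (QuotientGroup.mk g : Cfsg.PSp n F) ^ (p * (Fintype.card F - 1)) = 1 :=
      (psp_pow_eq_one_iff (by omega) g _).2 ⟨1, one_pow 2, by rw [← hA, ← hB, hB1, one_smul]⟩
    have h4 := orderOf_dvd_of_pow_eq_one h2
    rw [hx, mul_comm r p] at h4
    have h5 : r ∣ Fintype.card F - 1 := Nat.dvd_of_mul_dvd_mul_left hp.pos h4
    rw [(dvd_sub_one_iff r _ (by omega)).1 h5]
    constructor
    · intro _
      omega
    · intro _
      omega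
  · have hBU : Commute B U := by
      rw [hB, hU]
      exact Commute.smul_right ((Commute.refl A).pow_pow _ _) c
    have hb : ∀ x y : Fin n ⊕ Fin n → F,
        form n F (Matrix.toLin' B x) (Matrix.toLin' B y) = form n F x y := by
      intro x y
      rw [Matrix.toLin'_apply, Matrix.toLin'_apply]
      exact (mem_symp_iff n B).1 hBmem x y
    have hu : ∀ x y : Fin n ⊕ Fin n → F,
        form n F (Matrix.toLin' U x) (Matrix.toLin' U y) = form n F x y := by
      intro x y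
      rw [Matrix.toLin'_apply, Matrix.toLin'_apply]
      exact (mem_symp_iff n U).1 hUmem x y
    have hbr' : (Matrix.toLin' B) ^ r = 1 := by
      rw [toLin'_pow_gen, hBr, Matrix.toLin'_one]
      rfl
    have hb1' : Matrix.toLin' B ≠ 1 := by
      intro h
      apply hB1
      apply Matrix.toLin'.injective
      rw [h, Matrix.toLin'_one]
      rfl
    have hNp' : (Matrix.toLin' U - 1) ^ p = 0 := by
      have e : Matrix.toLin' U - 1 = Matrix.toLin' (U - 1) := by
        rw [map_sub, Matrix.toLin'_one]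
        rfl
      rw [e, toLin'_pow_gen, hUp, map_zero]
    have hN0' : Matrix.toLin' U - 1 ≠ 0 := by
      intro h
      apply hU1
      apply Matrix.toLin'.injective
      rw [map_sub, Matrix.toLin'_one, map_zero]
      exact h
    have key := sp_rp_bound (V := Fin n ⊕ Fin n → F) (form n F) (form_alt n) (form_nondeg n) r
      hr2 (natCast_ne_zero_of_prime_ne p r hr hrp) (Matrix.toLin' B) (Matrix.toLin' U) hb hu
      (toLin'_commute_gen B U hBU) hbr' hb1' p hNp' hN0'
    have hfr : Module.finrank F (Fin n ⊕ Fin n → F) = 2 * n := by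
      rw [Module.finrank_fintype_fun_eq_card, Fintype.card_sum, Fintype.card_fin]
      ring
    rwa [hfr] at key

omit [Fintype F] in
theorem extMat_mul (m : ℕ) (A B : Matrix (Fin m ⊕ Fin m) (Fin m ⊕ Fin m) F) :
    extMat m (A * B) = extMat m A * extMat m B := by
  rw [extMat, extMat, extMat, Matrix.submatrix_mul_equiv, Matrix.fromBlocks_multiply]
  simp

omit [Fintype F] in
theorem extMat_one (m : ℕ) :
    extMat m (1 : Matrix (Fin m ⊕ Fin m) (Fin m ⊕ Fin m) F) = 1 := by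
  rw [extMat, Matrix.fromBlocks_one, Matrix.submatrix_one_equiv]

omit [Fintype F] in
theorem extMat_pow (m : ℕ) (A : Matrix (Fin m ⊕ Fin m) (Fin m ⊕ Fin m) F) (j : ℕ) :
    extMat m (A ^ j) = extMat m A ^ j := by
  induction j with
  | zero => rw [pow_zero, pow_zero, extMat_one]
  | succ j ih => rw [pow_succ, pow_succ, extMat_mul, ih]

omit [Fintype F] in
theorem transvection_pow (m : ℕ) (v : Fin m ⊕ Fin m → F) (j : ℕ) :
    Cfsg.sympTransvection m v (1 : F) ^ j = Cfsg.sympTransvection m v (j : F) := by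
  induction j with
  | zero => simp [Cfsg.sympTransvection]
  | succ j ih => rw [pow_succ, ih, transvection_mul, Nat.cast_succ]

/-- An element of order `r p` in `PSp_{2(m+1)}(q)` from an element of order `r` in
`Sp_{2m}(q)`. -/
theorem exists_psp_orderOf_rp (p : ℕ) [Fact p.Prime] [CharP F p] (m : ℕ) (r : ℕ)
    (hr : r.Prime) (hrp : r ≠ p)
    (hrdvd : r ∣ Nat.card (Matrix.symplecticGroup (Fin m) F)) :
    ∃ g : Cfsg.PSp (m + 1) F, orderOf g = r * p := by
  classical
  haveI := Fact.mk hr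
  have hp : p.Prime := Fact.out
  haveI : Finite (Matrix.symplecticGroup (Fin m) F) := Subtype.finite
  obtain ⟨a', ha'⟩ := exists_prime_orderOf_dvd_card' r hrdvd
  obtain ⟨A, hA⟩ : ∃ A : Matrix (Fin (m + 1) ⊕ Fin (m + 1)) (Fin (m + 1) ⊕ Fin (m + 1)) F,
      A = extMat m (a' : Matrix (Fin m ⊕ Fin m) (Fin m ⊕ Fin m) F) := ⟨_, rfl⟩
  have hAmem : A ∈ Matrix.symplecticGroup (Fin (m + 1)) F := by
    rw [hA]
    exact extMat_mem m _ a'.2
  obtain ⟨v, hv⟩ : ∃ v : Fin (m + 1) ⊕ Fin (m + 1) → F,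
      v = Pi.single ((eps m) (Sum.inl 0)) 1 := ⟨_, rfl⟩
  have hv0 : v ≠ 0 := by
    intro h
    have h1 := congrFun h ((eps m) (Sum.inl 0))
    rw [hv, Pi.single_eq_same] at h1
    exact one_ne_zero h1
  obtain ⟨T, hT⟩ : ∃ T : Matrix (Fin (m + 1) ⊕ Fin (m + 1)) (Fin (m + 1) ⊕ Fin (m + 1)) F,
      T = Cfsg.sympTransvection (m + 1) v 1 := ⟨_, rfl⟩
  have hTmem : T ∈ Matrix.symplecticGroup (Fin (m + 1)) F := by
    rw [hT]
    exact transvection_mem (m + 1) v 1
  have hAv : A *ᵥ v = v := by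
    rw [hA, hv]
    exact extMat_mulVec_single m _ 0
  have hTv : T *ᵥ v = v := by
    rw [hT, transvection_mulVec, form_alt (m + 1) v, mul_zero, zero_smul, add_zero]
  have hAr : A ^ r = 1 := by
    rw [hA, ← extMat_pow]
    have h1 : a' ^ r = 1 := by
      rw [← ha']
      exact pow_orderOf_eq_one a'
    have h2 : (a' : Matrix (Fin m ⊕ Fin m) (Fin m ⊕ Fin m) F) ^ r = 1 := by
      have := congrArg Subtype.val h1
      exact this
    rw [h2, extMat_one]
  have hA1 : A ≠ 1 := by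
    intro h
    rw [hA, ← extMat_one] at h
    have h1 := extMat_injective m h
    have h2 : a' = 1 := Subtype.ext h1
    rw [h2, orderOf_one] at ha'
    exact hr.one_lt.ne ha'
  have hTp : T ^ p = 1 := by
    rw [hT, transvection_pow, CharP.cast_eq_zero]
    simp [Cfsg.sympTransvection]
  have hT1 : T ≠ 1 := by
    intro h
    have hex : ∃ w, form (m + 1) F w v ≠ 0 := by
      by_contra hcon
      push Not at hcon
      exact hv0 ((form_nondeg (m + 1)).2 v hcon)
    obtain ⟨w, hw⟩ := hex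
    have h1 : T *ᵥ w = w := by rw [h, Matrix.one_mulVec]
    rw [hT, transvection_mulVec, one_mul] at h1
    have h2 : form (m + 1) F w v • v = 0 := by
      have := sub_eq_zero.2 h1
      simpa using this
    rcases smul_eq_zero.1 h2 with h3 | h3
    · exact hw h3
    · exact hv0 h3
  have hAT : A * T = T * A := by
    have h1 := transvection_conj (m + 1) v A 1 hAmem (by rw [hAv, one_smul]) 1
    rw [one_mul, one_mul, ← hT] at h1
    have hinv : A⁻¹ * A = 1 :=
      Matrix.nonsing_inv_mul A (SymplecticGroup.symplectic_det hAmem)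
    calc A * T = A * T * (A⁻¹ * A) := by rw [hinv, mul_one]
      _ = (A * T * A⁻¹) * A := by simp only [mul_assoc]
      _ = T * A := by rw [h1]
  obtain ⟨ga, hga⟩ : ∃ ga : Matrix.symplecticGroup (Fin (m + 1)) F, ga = ⟨A, hAmem⟩ :=
    ⟨_, rfl⟩
  obtain ⟨gu, hgu⟩ : ∃ gu : Matrix.symplecticGroup (Fin (m + 1)) F, gu = ⟨T, hTmem⟩ :=
    ⟨_, rfl⟩
  have hgaord : orderOf ga = r := by
    apply orderOf_eq_prime
    · apply Subtype.ext
      show (ga : Matrix (Fin (m + 1) ⊕ Fin (m + 1)) (Fin (m + 1) ⊕ Fin (m + 1)) F) ^ r = 1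
      rw [hga]
      exact hAr
    · intro h
      apply hA1
      have := congrArg Subtype.val h
      rw [hga] at this
      exact this
  have hguord : orderOf gu = p := by
    apply orderOf_eq_prime
    · apply Subtype.ext
      show (gu : Matrix (Fin (m + 1) ⊕ Fin (m + 1)) (Fin (m + 1) ⊕ Fin (m + 1)) F) ^ p = 1
      rw [hgu]
      exact hTp
    · intro h
      apply hT1
      have := congrArg Subtype.val h
      rw [hgu] at this
      exact this
  have hcomm : Commute ga gu := by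
    apply Subtype.ext
    show (ga : Matrix (Fin (m + 1) ⊕ Fin (m + 1)) (Fin (m + 1) ⊕ Fin (m + 1)) F) *
      (gu : Matrix (Fin (m + 1) ⊕ Fin (m + 1)) (Fin (m + 1) ⊕ Fin (m + 1)) F) =
      (gu : Matrix (Fin (m + 1) ⊕ Fin (m + 1)) (Fin (m + 1) ⊕ Fin (m + 1)) F) *
      (ga : Matrix (Fin (m + 1) ⊕ Fin (m + 1)) (Fin (m + 1) ⊕ Fin (m + 1)) F)
    rw [hga, hgu]
    exact hAT
  have hord : orderOf (ga * gu) = r * p := by
    rw [hcomm.orderOf_mul_eq_mul_orderOf_of_coprime
      (by rw [hgaord, hguord]; exact (Nat.coprime_primes hr hp).2 hrp), hgaord, hguord]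
  have hfix : ∀ j : ℕ, ((A * T) ^ j) *ᵥ v = v := by
    intro j
    induction j with
    | zero => rw [pow_zero, Matrix.one_mulVec]
    | succ j ih =>
      rw [pow_succ, ← Matrix.mulVec_mulVec, ← Matrix.mulVec_mulVec, hTv, hAv, ih]
  have hcoe : ((ga * gu : Matrix.symplecticGroup (Fin (m + 1)) F) :
      Matrix (Fin (m + 1) ⊕ Fin (m + 1)) (Fin (m + 1) ⊕ Fin (m + 1)) F) = A * T := by
    rw [hga, hgu]
    rfl
  refine ⟨QuotientGroup.mk (ga * gu), ?_⟩
  apply Nat.dvd_antisymm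
  · apply orderOf_dvd_of_pow_eq_one
    rw [← QuotientGroup.mk_pow, ← hord, pow_orderOf_eq_one]
    rfl
  · rw [← hord]
    apply orderOf_dvd_of_pow_eq_one
    have h1 : (QuotientGroup.mk (ga * gu) : Cfsg.PSp (m + 1) F) ^
        orderOf (QuotientGroup.mk (ga * gu) : Cfsg.PSp (m + 1) F) = 1 := pow_orderOf_eq_one _
    obtain ⟨c, hc2, hc⟩ := (psp_pow_eq_one_iff (by omega) (ga * gu) _).1 h1
    rw [hcoe] at hc
    have h2 := hfix (orderOf (QuotientGroup.mk (ga * gu) : Cfsg.PSp (m + 1) F))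
    rw [hc, Matrix.smul_mulVec, Matrix.one_mulVec] at h2
    have h3 := congrFun h2 ((eps m) (Sum.inl 0))
    rw [hv, Pi.smul_apply, Pi.single_eq_same, smul_eq_mul, mul_one] at h3
    apply Subtype.ext
    show ((ga * gu : Matrix.symplecticGroup (Fin (m + 1)) F) :
      Matrix (Fin (m + 1) ⊕ Fin (m + 1)) (Fin (m + 1) ⊕ Fin (m + 1)) F) ^ _ = 1
    rw [hcoe, hc, h3, one_smul]

end psprp

end Cfsg.Agent.H41
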