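import Mathlib
import Cfsg.Agent.H41.SL2Entry
import Cfsg.Agent.H41.Dicyclic

set_option autoImplicit false

namespace Cfsg.Agent.H41

open Matrix

variable {F : Type*} [Field F]

/-- The diagonal subgroup (split torus) of `SL₂`. -/
def diagSubgroup (F : Type*) [Field F] : Subgroup (Matrix.SpecialLinearGroup (Fin 2) F) where
  carrier := {g | ent g 0 1 = 0 ∧ ent g 1 0 = 0}
  mul_mem' := by
    rintro a b ⟨ha1, ha2⟩ ⟨hb1, hb2⟩
    constructor
    · rw [sl2_mul01, ha1, hb1]; ring
    · rw [sl2_mul10, ha2, hb2]; ring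
  one_mem' := ⟨sl2_one01, sl2_one10⟩
  inv_mem' := by
    rintro a ⟨ha1, ha2⟩
    exact ⟨by rw [sl2_inv01, ha1, neg_zero], by rw [sl2_inv10, ha2, neg_zero]⟩

theorem mem_diagSubgroup (g : Matrix.SpecialLinearGroup (Fin 2) F) :
    g ∈ diagSubgroup F ↔ ent g 0 1 = 0 ∧ ent g 1 0 = 0 := Iff.rfl

/-- Diagonal elements commute. -/
theorem diag_comm (g h : Matrix.SpecialLinearGroup (Fin 2) F) (hg : g ∈ diagSubgroup F)
    (hh : h ∈ diagSubgroup F) : g * h = h * g := by
  obtain ⟨g1, g2⟩ := hg
  obtain ⟨h1, h2⟩ := hh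
  apply sl2_ext <;>
    simp only [sl2_mul00, sl2_mul01, sl2_mul10, sl2_mul11, g1, g2, h1, h2] <;> ring

/-- The centralizer of a diagonal element with distinct eigenvalues is the diagonal subgroup. -/
theorem centralizer_diag (d : Matrix.SpecialLinearGroup (Fin 2) F) (hd : d ∈ diagSubgroup F)
    (hda : ent d 0 0 ^ 2 ≠ 1) :
    Subgroup.centralizer ({d} : Set (Matrix.SpecialLinearGroup (Fin 2) F)) = diagSubgroup F := by
  obtain ⟨d1, d2⟩ := hd
  have hdet := sl2_det d
  rw [d1, zero_mul, sub_zero] at hdet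
  have hne : ent d 0 0 ≠ ent d 1 1 := by
    intro h
    apply hda
    rw [pow_two]
    nth_rewrite 2 [h]
    exact hdet
  ext g
  rw [Subgroup.mem_centralizer_iff]
  constructor
  · intro h
    have h' := h d (Set.mem_singleton d)
    have e01 := congrArg (fun x => ent x 0 1) h'
    have e10 := congrArg (fun x => ent x 1 0) h'
    simp only [sl2_mul01, sl2_mul10, d1, d2] at e01 e10
    constructor
    · have : ent g 0 1 * (ent d 0 0 - ent d 1 1) = 0 := by linear_combination e01
      rcases mul_eq_zero.1 this with h0 | h0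
      · exact h0
      · exact absurd (sub_eq_zero.1 h0) hne
    · have : ent g 1 0 * (ent d 0 0 - ent d 1 1) = 0 := by linear_combination (-1 : F) * e10
      rcases mul_eq_zero.1 this with h0 | h0
      · exact h0
      · exact absurd (sub_eq_zero.1 h0) hne
  · intro hg h hh
    rw [Set.mem_singleton_iff] at hh
    subst hh
    exact diag_comm h g ⟨d1, d2⟩ hg

/-- Membership in the normalizer of the diagonal subgroup, provided a regular diagonal element
exists. -/
theorem mem_normalizer_diag (d : Matrix.SpecialLinearGroup (Fin 2) F) (hd : d ∈ diagSubgroup F)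
    (hda : ent d 0 0 ^ 2 ≠ 1) (g : Matrix.SpecialLinearGroup (Fin 2) F) :
    g ∈ Subgroup.normalizer ((diagSubgroup F : Subgroup (Matrix.SpecialLinearGroup (Fin 2) F)) :
        Set (Matrix.SpecialLinearGroup (Fin 2) F)) ↔
      (ent g 0 1 = 0 ∧ ent g 1 0 = 0) ∨ (ent g 0 0 = 0 ∧ ent g 1 1 = 0) := by
  have hdd := hd
  obtain ⟨d1, d2⟩ := hd
  have hdet := sl2_det d
  rw [d1, zero_mul, sub_zero] at hdet
  have hne : ent d 0 0 ≠ ent d 1 1 := by
    intro h
    apply hda
    rw [pow_two]
    nth_rewrite 2 [h]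
    exact hdet
  have hgdet := sl2_det g
  rw [Subgroup.mem_normalizer_iff]
  constructor
  · intro h
    have h1 := (h d).1 hdd
    obtain ⟨e01, e10⟩ := h1
    simp only [sl2_mul01, sl2_mul10, sl2_mul00, sl2_mul11, sl2_inv01, sl2_inv10, sl2_inv00,
      sl2_inv11, d1, d2] at e01 e10
    have p1 : ent g 0 0 * ent g 0 1 * (ent d 1 1 - ent d 0 0) = 0 := by linear_combination e01
    have p2 : ent g 1 0 * ent g 1 1 * (ent d 0 0 - ent d 1 1) = 0 := by linear_combination e10
    have q1 : ent g 0 0 * ent g 0 1 = 0 := by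
      rcases mul_eq_zero.1 p1 with h0 | h0
      · exact h0
      · exact absurd (sub_eq_zero.1 h0).symm hne
    have q2 : ent g 1 0 * ent g 1 1 = 0 := by
      rcases mul_eq_zero.1 p2 with h0 | h0
      · exact h0
      · exact absurd (sub_eq_zero.1 h0) hne
    rcases mul_eq_zero.1 q1 with h0 | h0
    · right
      refine ⟨h0, ?_⟩
      rcases mul_eq_zero.1 q2 with h3 | h3
      · exfalso
        rw [h0, h3] at hgdet
        simp at hgdet
      · exact h3
    · left
      refine ⟨h0, ?_⟩
      rcases mul_eq_zero.1 q2 with h3 | h3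
      · exact h3
      · exfalso
        rw [h0, h3] at hgdet
        simp at hgdet
  · rintro (⟨g1, g2⟩ | ⟨g1, g2⟩)
    · intro h
      rw [g1, g2] at hgdet
      have hg00 : ent g 0 0 ≠ 0 := by rintro h0; rw [h0] at hgdet; simp at hgdet
      have hg11 : ent g 1 1 ≠ 0 := by rintro h0; rw [h0] at hgdet; simp at hgdet
      simp only [mem_diagSubgroup, sl2_mul01, sl2_mul10, sl2_mul00, sl2_mul11, sl2_inv01,
        sl2_inv10, sl2_inv00, sl2_inv11, g1, g2]
      constructor
      · rintro ⟨h1, h2⟩
        rw [h1, h2]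
        constructor <;> ring
      · rintro ⟨h1, h2⟩
        constructor
        · have : ent g 0 0 * ent g 0 0 * ent h 0 1 = 0 := by linear_combination h1
          simpa [hg00] using this
        · have : ent g 1 1 * ent g 1 1 * ent h 1 0 = 0 := by linear_combination h2
          simpa [hg11] using this
    · intro h
      rw [g1, g2] at hgdet
      have hg01 : ent g 0 1 ≠ 0 := by rintro h0; rw [h0] at hgdet; simp at hgdet
      have hg10 : ent g 1 0 ≠ 0 := by rintro h0; rw [h0] at hgdet; simp at hgdet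
      simp only [mem_diagSubgroup, sl2_mul01, sl2_mul10, sl2_mul00, sl2_mul11, sl2_inv01,
        sl2_inv10, sl2_inv00, sl2_inv11, g1, g2]
      constructor
      · rintro ⟨h1, h2⟩
        rw [h1, h2]
        constructor <;> ring
      · rintro ⟨h1, h2⟩
        constructor
        · have : ent g 1 0 * ent g 1 0 * ent h 0 1 = 0 := by linear_combination (-1 : F) * h2
          simpa [hg10] using this
        · have : ent g 0 1 * ent g 0 1 * ent h 1 0 = 0 := by linear_combination (-1 : F) * h1
          simpa [hg01] using this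

/-- The diagonal subgroup is isomorphic to `Fˣ`. -/
noncomputable def diagEquiv (F : Type*) [Field F] : Fˣ ≃* diagSubgroup F where
  toFun x := ⟨mkSL (x : F) 0 0 ((x⁻¹ : Fˣ) : F) (by simp), ⟨rfl, rfl⟩⟩
  invFun g := Units.mk0 (ent (g : Matrix.SpecialLinearGroup (Fin 2) F) 0 0) (by
    have h := sl2_det (g : Matrix.SpecialLinearGroup (Fin 2) F)
    rw [g.2.1, zero_mul, sub_zero] at h
    intro h0
    rw [h0, zero_mul] at h
    exact zero_ne_one h)
  left_inv x := by
    apply Units.ext
    rfl
  right_inv g := by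
    apply Subtype.ext
    have h := sl2_det (g : Matrix.SpecialLinearGroup (Fin 2) F)
    rw [g.2.1, zero_mul, sub_zero] at h
    apply sl2_ext
    · rfl
    · exact g.2.1.symm
    · exact g.2.2.symm
    · rw [mkSL11, Units.val_inv_eq_inv_val, Units.val_mk0]
      exact inv_eq_of_mul_eq_one_right h
  map_mul' x y := by
    apply Subtype.ext
    apply sl2_ext <;>
      simp only [Subgroup.coe_mul, sl2_mul00, sl2_mul01, sl2_mul10, sl2_mul11, mkSL00, mkSL01,
        mkSL10, mkSL11, mul_inv, Units.val_mul] <;> ring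

theorem card_diagSubgroup [Fintype F] : Nat.card (diagSubgroup F) = Fintype.card F - 1 := by
  rw [← Nat.card_congr (diagEquiv F).toEquiv, Nat.card_units, Nat.card_eq_fintype_card]

theorem isCyclic_diagSubgroup [Finite F] : IsCyclic (diagSubgroup F) :=
  isCyclic_of_surjective (diagEquiv F) (diagEquiv F).surjective

/-- An anti-diagonal element inverts the diagonal subgroup. -/
theorem anti_conj_diag (g a : Matrix.SpecialLinearGroup (Fin 2) F)
    (hg : ent g 0 0 = 0 ∧ ent g 1 1 = 0) (ha : a ∈ diagSubgroup F) : g * a * g⁻¹ = a⁻¹ := by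
  obtain ⟨g1, g2⟩ := hg
  obtain ⟨a1, a2⟩ := ha
  have hgdet := sl2_det g
  rw [g1, g2] at hgdet
  apply sl2_ext <;>
    simp only [sl2_mul00, sl2_mul01, sl2_mul10, sl2_mul11, sl2_inv00, sl2_inv01, sl2_inv10,
      sl2_inv11, g1, g2, a1, a2]
  · linear_combination (ent a 1 1) * hgdet
  · ring
  · ring
  · linear_combination (ent a 0 0) * hgdet

/-- An anti-diagonal element squares to `-1`. -/
theorem anti_mul_self (g : Matrix.SpecialLinearGroup (Fin 2) F)
    (hg : ent g 0 0 = 0 ∧ ent g 1 1 = 0) : g * g = negOne := by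
  obtain ⟨g1, g2⟩ := hg
  have hgdet := sl2_det g
  rw [g1, g2] at hgdet
  apply sl2_ext <;>
    simp only [sl2_mul00, sl2_mul01, sl2_mul10, sl2_mul11, g1, g2, negOne, mkSL00, mkSL01, mkSL10,
      mkSL11]
  · linear_combination (-1 : F) * hgdet
  · ring
  · ring
  · linear_combination (-1 : F) * hgdet

theorem two_ne_zero_of_odd_card [Fintype F] (hodd : Odd (Fintype.card F)) : (2 : F) ≠ 0 := by
  intro h2
  have : CharP F 2 := CharTwo.of_one_ne_zero_of_two_eq_zero one_ne_zero h2
  obtain ⟨n, -, hn⟩ := FiniteField.card F 2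
  rw [hn] at hodd
  have : Even (2 ^ (n : ℕ)) := (Nat.even_pow.2 ⟨even_two, n.ne_zero⟩)
  exact (Nat.not_even_iff_odd.2 hodd) this

theorem negOne_ne_one (h2 : (2 : F) ≠ 0) : (negOne : Matrix.SpecialLinearGroup (Fin 2) F) ≠ 1 := by
  intro h
  have h00 := congrArg (fun x => ent x 0 0) h
  simp only [negOne, mkSL00, sl2_one00] at h00
  apply h2
  linear_combination (-1 : F) * h00

theorem negOne_mul_self : (negOne : Matrix.SpecialLinearGroup (Fin 2) F) * negOne = 1 := by
  apply sl2_ext <;>
    simp only [sl2_mul00, sl2_mul01, sl2_mul10, sl2_mul11, negOne, mkSL00, mkSL01, mkSL10,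
      mkSL11, sl2_one00, sl2_one01, sl2_one10, sl2_one11] <;> ring

theorem negOne_mem_diag : (negOne : Matrix.SpecialLinearGroup (Fin 2) F) ∈ diagSubgroup F :=
  ⟨rfl, rfl⟩

/-- Diagonal involutions are `±1`. -/
theorem diag_sq_eq_one (a : Matrix.SpecialLinearGroup (Fin 2) F) (ha : a ∈ diagSubgroup F)
    (haa : a * a = 1) : a = 1 ∨ a = negOne := by
  obtain ⟨a1, a2⟩ := ha
  have hdet := sl2_det a
  rw [a1, zero_mul, sub_zero] at hdet
  have h00 := congrArg (fun x => ent x 0 0) haa
  simp only [sl2_mul00, a1, sl2_one00, zero_mul, add_zero] at h00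
  have h11 : ent a 1 1 = ent a 0 0 := by
    have h0 : ent a 0 0 ≠ 0 := by rintro h0; rw [h0] at hdet; simp at hdet
    apply mul_left_cancel₀ h0
    rw [hdet, h00]
  rcases mul_self_eq_one_iff.1 h00 with h | h
  · left
    apply sl2_ext
    · rw [h, sl2_one00]
    · rw [a1, sl2_one01]
    · rw [a2, sl2_one10]
    · rw [h11, h, sl2_one11]
  · right
    apply sl2_ext
    · rw [h]; rfl
    · rw [a1]; rfl
    · rw [a2]; rfl
    · rw [h11, h]; rfl

section normalizer

variable [Fintype F]

/-- The normalizer of the diagonal subgroup. -/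
abbrev diagNormalizer (F : Type*) [Field F] : Subgroup (Matrix.SpecialLinearGroup (Fin 2) F) :=
  Subgroup.normalizer ((diagSubgroup F : Subgroup (Matrix.SpecialLinearGroup (Fin 2) F)) :
    Set (Matrix.SpecialLinearGroup (Fin 2) F))

theorem diagNormalizer_index (d : Matrix.SpecialLinearGroup (Fin 2) F) (hd : d ∈ diagSubgroup F)
    (hda : ent d 0 0 ^ 2 ≠ 1) : ((diagSubgroup F).subgroupOf (diagNormalizer F)).index = 2 := by
  rw [Subgroup.index_eq_two_iff]
  have hw : mkSL (0 : F) 1 (-1) 0 (by ring) ∈ diagNormalizer F :=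
    (mem_normalizer_diag d hd hda _).2 (Or.inr ⟨rfl, rfl⟩)
  refine ⟨⟨_, hw⟩, ?_⟩
  intro b
  have hb := (mem_normalizer_diag d hd hda (b : Matrix.SpecialLinearGroup (Fin 2) F)).1 b.2
  have hdet := sl2_det (b : Matrix.SpecialLinearGroup (Fin 2) F)
  simp only [Subgroup.mem_subgroupOf, Subgroup.coe_mul, mem_diagSubgroup, sl2_mul01, sl2_mul10,
    mkSL00, mkSL01, mkSL10, mkSL11]
  rcases hb with ⟨b1, b2⟩ | ⟨b1, b2⟩
  · right
    refine ⟨⟨b1, b2⟩, ?_⟩
    rintro ⟨h1, -⟩
    rw [b1, b2] at hdet
    have h0 : ent (b : Matrix.SpecialLinearGroup (Fin 2) F) 0 0 = 0 := by linear_combination h1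
    rw [h0] at hdet
    simp at hdet
  · left
    refine ⟨⟨by rw [b1]; ring, by rw [b2]; ring⟩, ?_⟩
    rintro ⟨h1, h2⟩
    rw [b1, b2, h1] at hdet
    simp at hdet

theorem card_diagNormalizer (d : Matrix.SpecialLinearGroup (Fin 2) F) (hd : d ∈ diagSubgroup F)
    (hda : ent d 0 0 ^ 2 ≠ 1) : Nat.card (diagNormalizer F) = 2 * (Fintype.card F - 1) := by
  have h := ((diagSubgroup F).subgroupOf (diagNormalizer F)).card_mul_index
  rw [diagNormalizer_index d hd hda,
    Nat.card_congr (Subgroup.subgroupOfEquivOfLe (Subgroup.le_normalizer)).toEquiv,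
    card_diagSubgroup] at h
  omega

theorem card_conjClasses_diagNormalizer (hodd : Odd (Fintype.card F))
    (d : Matrix.SpecialLinearGroup (Fin 2) F) (hd : d ∈ diagSubgroup F)
    (hda : ent d 0 0 ^ 2 ≠ 1) :
    Nat.card (ConjClasses (diagNormalizer F)) = (Fintype.card F + 5) / 2 := by
  have h2 : (2 : F) ≠ 0 := two_ne_zero_of_odd_card hodd
  have hzN : (negOne : Matrix.SpecialLinearGroup (Fin 2) F) ∈ diagNormalizer F :=
    Subgroup.le_normalizer negOne_mem_diag
  have key := card_conjClasses_dicyclic ((diagSubgroup F).subgroupOf (diagNormalizer F))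
    (diagNormalizer_index d hd hda)
    (by
      intro g hg a ha
      rw [Subgroup.mem_subgroupOf] at hg ha
      have hgN := (mem_normalizer_diag d hd hda (g : Matrix.SpecialLinearGroup (Fin 2) F)).1 g.2
      have hanti : ent (g : Matrix.SpecialLinearGroup (Fin 2) F) 0 0 = 0 ∧
          ent (g : Matrix.SpecialLinearGroup (Fin 2) F) 1 1 = 0 := by
        rcases hgN with h | h
        · exact absurd h hg
        · exact h
      apply Subtype.ext
      simp only [Subgroup.coe_mul, Subgroup.coe_inv]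
      exact anti_conj_diag _ _ hanti ha)
    (by
      intro a ha b hb
      rw [Subgroup.mem_subgroupOf] at ha hb
      apply Subtype.ext
      simp only [Subgroup.coe_mul]
      exact diag_comm _ _ ha hb)
    ⟨negOne, hzN⟩
    (by rw [Subgroup.mem_subgroupOf]; exact negOne_mem_diag)
    (by
      intro h
      exact negOne_ne_one h2 (congrArg Subtype.val h))
    (by
      apply Subtype.ext
      simp only [Subgroup.coe_mul, Subgroup.coe_one]
      exact negOne_mul_self)
    (by
      intro a ha haa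
      rw [Subgroup.mem_subgroupOf] at ha
      have haa' := congrArg Subtype.val haa
      simp only [Subgroup.coe_mul, Subgroup.coe_one] at haa'
      rcases diag_sq_eq_one _ ha haa' with h | h
      · left; exact Subtype.ext h
      · right; exact Subtype.ext h)
  rw [Nat.card_congr (Subgroup.subgroupOfEquivOfLe (Subgroup.le_normalizer)).toEquiv,
    card_diagSubgroup] at key
  have hq : 1 ≤ Fintype.card F := Fintype.card_pos
  omega

end normalizer

end Cfsg.Agent.H41
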