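import Mathlib
import Cfsg.Agent.H41.SpNil
import Cfsg.Agent.H41.PSLnBlocks

set_option autoImplicit false
set_option linter.unusedSimpArgs false
set_option linter.unusedSectionVars false
set_option linter.unusedVariables false
set_option linter.style.haveILetI false

namespace Cfsg.Agent.H41

open Finset

section sprs

variable {F : Type*} [Field F] {V : Type*} [AddCommGroup V] [Module F V]

theorem pow_mem_of_inv (b : Module.End F V) (U : Submodule F V) (hU : ∀ x ∈ U, b x ∈ U) (i : ℕ) :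
    ∀ x ∈ U, (b ^ i) x ∈ U := by
  induction i with
  | zero =>
    intro x hx
    simpa using hx
  | succ i ih =>
    intro x hx
    rw [pow_succ, Module.End.mul_apply]
    exact ih _ (hU x hx)

theorem exists_fixed_add_normKer_mem (b : Module.End F V) (r : ℕ) (hrF : (r : F) ≠ 0)
    (hbr : b ^ r = 1) (U : Submodule F V) (hU : ∀ x ∈ U, b x ∈ U) (x : V) (hx : x ∈ U) :
    ∃ e w, e ∈ U ∧ w ∈ U ∧ b e = e ∧ w ∈ normKer b r ∧ x = e + w := by
  obtain ⟨S, hS⟩ : ∃ S : Module.End F V, S = ∑ i ∈ range r, b ^ i := ⟨_, rfl⟩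
  have hbS : b * S = S := by
    have h := mul_geom_sum b r
    rw [← hS, hbr, sub_self, sub_mul, one_mul, sub_eq_zero] at h
    exact h
  have hfix : ∀ y, b (S y) = S y := fun y => by rw [← Module.End.mul_apply, hbS]
  have hSS : ∀ z, b z = z → S z = (r : F) • z := by
    intro z hz
    rw [hS, LinearMap.sum_apply, Finset.sum_congr rfl (fun i _ => pow_apply_of_fixed b z hz i),
      Finset.sum_const, Finset.card_range, Nat.cast_smul_eq_nsmul]
  have hSU : S x ∈ U := by
    rw [hS, LinearMap.sum_apply]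
    exact Submodule.sum_mem _ (fun i _ => pow_mem_of_inv b U hU i x hx)
  refine ⟨(r : F)⁻¹ • S x, x - (r : F)⁻¹ • S x, U.smul_mem _ hSU,
    U.sub_mem hx (U.smul_mem _ hSU), ?_, ?_, by abel⟩
  · rw [map_smul, hfix]
  · rw [mem_normKer, ← hS, map_sub, map_smul, hSS (S x) (hfix x), smul_smul,
      inv_mul_cancel₀ hrF, one_smul, sub_self]

/-- The form is separating on the norm kernel of an isometry. -/
theorem normKer_sep (ω : LinearMap.BilinForm F V) (hnd : ω.Nondegenerate)
    (b : Module.End F V) (hb : ∀ x y, ω (b x) (b y) = ω x y) (r : ℕ) (hrF : (r : F) ≠ 0)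
    (hbr : b ^ r = 1) :
    ∀ y ∈ normKer b r, (∀ x ∈ normKer b r, ω x y = 0) → y = 0 := by
  intro y hy h
  apply hnd.2
  intro x
  obtain ⟨e, w, he, hw, rfl⟩ := exists_fixed_add_normKer b r hrF hbr x
  rw [map_add, LinearMap.add_apply, form_fixed_normKer ω b hb r hrF e y he hy, h w hw,
    add_zero]

/-- The form is separating on the intersection of the norm kernels of two commuting
isometries. -/
theorem normKer_inf_sep (ω : LinearMap.BilinForm F V) (hnd : ω.Nondegenerate)
    (a b : Module.End F V) (ha : ∀ x y, ω (a x) (a y) = ω x y)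
    (hb : ∀ x y, ω (b x) (b y) = ω x y) (hab : Commute a b) (r s : ℕ) (hrF : (r : F) ≠ 0)
    (hsF : (s : F) ≠ 0) (har : a ^ r = 1) (hbs : b ^ s = 1) :
    ∀ y ∈ normKer a r ⊓ normKer b s, (∀ x ∈ normKer a r ⊓ normKer b s, ω x y = 0) → y = 0 := by
  intro y hy h
  apply hnd.2
  intro x
  obtain ⟨e, w, he, hw, rfl⟩ := exists_fixed_add_normKer a r hrF har x
  obtain ⟨e', w', he'U, hw'U, he', hw', rfl⟩ := exists_fixed_add_normKer_mem b s hsF hbs
    (normKer a r) (normKer_invariant a b hab r) w hw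
  rw [map_add, map_add, LinearMap.add_apply, LinearMap.add_apply,
    form_fixed_normKer ω a ha r hrF e y he hy.1, form_fixed_normKer ω b hb s hsF e' y he' hy.2,
    h w' ⟨hw'U, hw'⟩]
  simp

theorem form_pow_adj (ω : LinearMap.BilinForm F V) (b b' : Module.End F V)
    (hb : ∀ x y, ω (b x) (b y) = ω x y) (hbb' : b * b' = 1) (n : ℕ) (x y : V) :
    ω ((b ^ n) x) y = ω x ((b' ^ n) y) := by
  induction n generalizing x y with
  | zero => simp
  | succ n ih =>
    have h1 : y = b (b' y) := by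
      rw [← Module.End.mul_apply, hbb']
      rfl
    rw [pow_succ', Module.End.mul_apply, pow_succ, Module.End.mul_apply]
    conv_lhs => rw [h1]
    rw [hb, ih]

theorem form_aeval_adj (ω : LinearMap.BilinForm F V) (b b' : Module.End F V)
    (hb : ∀ x y, ω (b x) (b y) = ω x y) (hbb' : b * b' = 1) (P : Polynomial F) (x y : V) :
    ω ((Polynomial.aeval b P) x) y = ω x ((Polynomial.aeval b' P) y) := by
  induction P using Polynomial.induction_on' with
  | add p q hp hq =>
    rw [map_add, map_add, LinearMap.add_apply, LinearMap.add_apply, map_add,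
      LinearMap.add_apply, map_add, hp, hq]
  | monomial n c =>
    rw [Polynomial.aeval_monomial, Polynomial.aeval_monomial, Algebra.algebraMap_eq_smul_one,
      smul_mul_assoc, smul_mul_assoc, one_mul, one_mul,
      LinearMap.smul_apply, LinearMap.smul_apply, map_smul, map_smul, LinearMap.smul_apply,
      form_pow_adj ω b b' hb hbb' n x y]

theorem exists_aeval_of_mem_span (b : Module.End F V) (x y : V)
    (hy : y ∈ Submodule.span F (Set.range (fun i : ℕ => (b ^ i) x))) :
    ∃ P : Polynomial F, y = (Polynomial.aeval b P) x := by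
  induction hy using Submodule.span_induction with
  | mem z hz =>
    obtain ⟨i, rfl⟩ := hz
    exact ⟨Polynomial.X ^ i, by simp⟩
  | zero => exact ⟨0, by simp⟩
  | add u v _ _ hu hv =>
    obtain ⟨P, rfl⟩ := hu
    obtain ⟨Q, rfl⟩ := hv
    exact ⟨P + Q, by rw [map_add, LinearMap.add_apply]⟩
  | smul c u _ hu =>
    obtain ⟨P, rfl⟩ := hu
    exact ⟨c • P, by rw [map_smul, LinearMap.smul_apply]⟩

theorem span_pow_invariant (b : Module.End F V) (x : V) :
    ∀ y ∈ Submodule.span F (Set.range (fun i : ℕ => (b ^ i) x)),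
      b y ∈ Submodule.span F (Set.range (fun i : ℕ => (b ^ i) x)) := by
  intro y hy
  induction hy using Submodule.span_induction with
  | mem z hz =>
    obtain ⟨i, rfl⟩ := hz
    apply Submodule.subset_span
    refine ⟨i + 1, ?_⟩
    show (b ^ (i + 1)) x = b ((b ^ i) x)
    rw [pow_succ', Module.End.mul_apply]
  | zero => rw [map_zero]; exact Submodule.zero_mem _
  | add u v _ _ hu hv => rw [map_add]; exact Submodule.add_mem _ hu hv
  | smul c u _ hu => rw [map_smul]; exact Submodule.smul_mem _ c hu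

theorem aeval_pow_card_pow [Fintype F] (b : Module.End F V) (P : Polynomial F) (j : ℕ) :
    (Polynomial.aeval b P) ^ (Fintype.card F ^ j) =
      Polynomial.aeval (b ^ (Fintype.card F ^ j)) P := by
  induction j with
  | zero => simp
  | succ j ih =>
    rw [pow_succ, pow_mul, ih, ← map_pow, ← FiniteField.expand_card, Polynomial.expand_aeval,
      ← pow_mul]

end sprs

section arith2

theorem dvd_pow_half_add_one (s q l h : ℕ) [Fact s.Prime] (hl : l = orderOf ((q : ℕ) : ZMod s))
    (hh : l = 2 * h) (hpos : 0 < l) : s ∣ q ^ h + 1 := by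
  have h1 : ((q : ℕ) : ZMod s) ^ l = 1 := by
    rw [hl]
    exact pow_orderOf_eq_one _
  have h2 : (((q : ℕ) : ZMod s) ^ h) * (((q : ℕ) : ZMod s) ^ h) = 1 := by
    rw [← pow_add, ← two_mul, ← hh]
    exact h1
  have h3 : ((q : ℕ) : ZMod s) ^ h ≠ 1 := by
    intro h4
    have h5 := orderOf_dvd_of_pow_eq_one h4
    rw [← hl, hh] at h5
    have h6 := Nat.le_of_dvd (by omega) h5
    omega
  have h4 : ((q : ℕ) : ZMod s) ^ h = -1 := (mul_self_eq_one_iff.1 h2).resolve_left h3
  rw [← ZMod.natCast_eq_zero_iff]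
  push_cast
  rw [h4]
  ring

theorem dvd_pow_mul_add_one (r q h t : ℕ) (ht : Odd t) (hr : r ∣ q ^ h + 1) :
    r ∣ q ^ (h * t) + 1 := by
  have h1 := Odd.nat_add_dvd_pow_add_pow (q ^ h) 1 ht
  rw [one_pow, ← pow_mul] at h1
  exact dvd_trans hr h1

end arith2

section sprs2

variable {F : Type*} [Field F] [Fintype F] {V : Type*} [AddCommGroup V] [Module F V]
  [Module.Finite F V]

/-- An invariant subspace on which the form is separating and an isometry of odd prime order
`r` acts fixed-point-freely has dimension divisible by `2 η(k)`. -/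
theorem sp_block_dvd (ω : LinearMap.BilinForm F V) (r : ℕ) [Fact r.Prime] (hr2 : r ≠ 2)
    (a : Module.End F V) (ha : ∀ x y, ω (a x) (a y) = ω x y) (har : a ^ r = 1)
    (U : Submodule F V) (hUa : ∀ w ∈ U, a w ∈ U) (hfree : ∀ w ∈ U, a w = w → w = 0)
    (hsep : ∀ y ∈ U, (∀ x ∈ U, ω x y = 0) → y = 0)
    (k ηk : ℕ) (hk : k = orderOf ((Fintype.card F : ℕ) : ZMod r))
    (hηk : (Odd k ∧ ηk = k) ∨ (Even k ∧ 2 * ηk = k)) :
    2 * ηk ∣ Module.finrank F U := by
  have hrp : r.Prime := Fact.out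
  have hrodd : Odd r := hrp.odd_of_ne_two hr2
  have hkU : k ∣ Module.finrank F U := by
    rw [hk]
    exact orderOf_dvd_finrank_of_fixedPointFree r a har U hUa hfree
  have hUeven : Even (Module.finrank F U) := by
    by_contra hodd
    rw [Nat.not_even_iff_odd] at hodd
    obtain ⟨x, hxU, hx0, hx⟩ := exists_fixed_of_odd_submodule U ω a hUa
      (fun x _ y _ => ha x y) hsep r hrodd har hodd
    exact hx0 (hfree x hxU hx)
  rcases hηk with ⟨hodd, h1⟩ | ⟨heven, h1⟩
  · rw [h1]
    exact Nat.Coprime.mul_dvd_of_dvd_of_dvd (Nat.coprime_two_left.2 hodd) hUeven.two_dvd hkU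
  · rw [h1]
    exact hkU

/-- Dimension bound for a nontrivial isometry of odd prime order. -/
theorem sp_dim_bound (ω : LinearMap.BilinForm F V) (hnd : ω.Nondegenerate)
    (r : ℕ) [Fact r.Prime] (hr2 : r ≠ 2) (hrF : (r : F) ≠ 0)
    (a : Module.End F V) (ha : ∀ x y, ω (a x) (a y) = ω x y) (har : a ^ r = 1) (ha1 : a ≠ 1)
    (k ηk : ℕ) (hk : k = orderOf ((Fintype.card F : ℕ) : ZMod r))
    (hηk : (Odd k ∧ ηk = k) ∨ (Even k ∧ 2 * ηk = k)) :
    2 * ηk ≤ Module.finrank F (normKer a r) := by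
  have h1 := sp_block_dvd ω r hr2 a ha har (normKer a r)
    (normKer_invariant a a (Commute.refl a) r) (normKer_fixfree a r hrF)
    (normKer_sep ω hnd a ha r hrF har) k ηk hk hηk
  have h2 : 0 < Module.finrank F (normKer a r) := by
    rw [Module.finrank_pos_iff]
    exact (Submodule.nontrivial_iff_ne_bot).2 (normKer_ne_bot a r har ha1)
  exact Nat.le_of_dvd h2 h1

theorem fixed_of_sq_fixed (a : Module.End F V) (r : ℕ) (hr : Odd r) (har : a ^ r = 1) (y : V)
    (h : a (a y) = y) : a y = y := by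
  obtain ⟨m, hm⟩ := hr
  have h1 : (a ^ 2) y = y := by
    rw [pow_two, Module.End.mul_apply]
    exact h
  have h2 : a = (a ^ 2) ^ (m + 1) := by
    rw [← pow_mul]
    have e : 2 * (m + 1) = r + 1 := by omega
    rw [e, pow_succ, har, one_mul]
  conv_lhs => rw [h2]
  exact pow_apply_of_fixed (a ^ 2) y h1 (m + 1)

omit [Fintype F] [Module.Finite F V] in
theorem commute_aeval (a b : Module.End F V) (hab : Commute a b) (Q : Polynomial F) :
    Commute a (Polynomial.aeval b Q) := by
  induction Q using Polynomial.induction_on' with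
  | add p q hp hq =>
    rw [map_add]
    exact hp.add_right hq
  | monomial n c =>
    rw [Polynomial.aeval_monomial, Algebra.algebraMap_eq_smul_one, smul_mul_assoc, one_mul]
    exact (hab.pow_right n).smul_right c

omit [Fintype F] [Module.Finite F V] in
/-- On a cyclic `b`-module, an endomorphism commuting with `b` is a polynomial in `b`. -/
theorem exists_aeval_eq_on (a b : Module.End F V) (hab : Commute a b) (W : Submodule F V) (x₀ : V)
    (hW : W ≤ Submodule.span F (Set.range (fun i : ℕ => (b ^ i) x₀))) (hax : a x₀ ∈ W) :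
    ∃ P : Polynomial F, ∀ y ∈ W, a y = (Polynomial.aeval b P) y := by
  obtain ⟨P, hP⟩ := exists_aeval_of_mem_span b x₀ (a x₀) (hW hax)
  refine ⟨P, ?_⟩
  intro y hy
  obtain ⟨Q, rfl⟩ := exists_aeval_of_mem_span b x₀ y (hW hy)
  have hc := commute_aeval a b hab Q
  have h1 : a ((Polynomial.aeval b Q) x₀) = (Polynomial.aeval b Q) (a x₀) := by
    rw [← Module.End.mul_apply, hc.eq, Module.End.mul_apply]
  rw [h1, hP, ← Module.End.mul_apply, ← Module.End.mul_apply, ← map_mul, ← map_mul, mul_comm]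

omit [Fintype F] [Module.Finite F V] in
/-- Powers of two endomorphisms agreeing on a common invariant subspace agree there. -/
theorem pow_eq_on (a c : Module.End F V) (W : Submodule F V) (hWa : ∀ w ∈ W, a w ∈ W)
    (h : ∀ y ∈ W, a y = c y) (j : ℕ) : ∀ y ∈ W, (a ^ j) y = (c ^ j) y := by
  induction j with
  | zero =>
    intro y _
    simp
  | succ j ih =>
    intro y hy
    rw [pow_succ, Module.End.mul_apply, pow_succ, Module.End.mul_apply, ih _ (hWa y hy), h y hy]

/-- The cyclic submodule generated by a nonzero vector of `W`, when `W` has the minimal possible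
dimension, is all of `W`. -/
theorem span_eq_of_finrank (s : ℕ) [Fact s.Prime] (b : Module.End F V) (hbs : b ^ s = 1)
    (W : Submodule F V) (hWb : ∀ w ∈ W, b w ∈ W) (hfree : ∀ w ∈ W, b w = w → w = 0)
    (x₀ : V) (hx₀ : x₀ ∈ W) (hx0 : x₀ ≠ 0)
    (hfin : Module.finrank F W ≤ Module.finrank F
      (Submodule.span F (Set.range (fun i : ℕ => (b ^ i) x₀)))) :
    W ≤ Submodule.span F (Set.range (fun i : ℕ => (b ^ i) x₀)) := by
  have hUW : Submodule.span F (Set.range (fun i : ℕ => (b ^ i) x₀)) ≤ W := by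
    rw [Submodule.span_le]
    rintro _ ⟨i, rfl⟩
    exact pow_mem_of_inv b W hWb i x₀ hx₀
  have heq := Submodule.eq_of_le_of_finrank_le hUW hfin
  rw [heq]

/-- Case: `l` even, `k ∣ l / 2`, `dim W = l`. -/
theorem sp_rs_case_even (ω : LinearMap.BilinForm F V)
    (r s : ℕ) [Fact r.Prime] [Fact s.Prime] (hr2 : r ≠ 2)
    (a b : Module.End F V) (ha : ∀ x y, ω (a x) (a y) = ω x y)
    (hb : ∀ x y, ω (b x) (b y) = ω x y)
    (hab : Commute a b) (har : a ^ r = 1) (hbs : b ^ s = 1)
    (W : Submodule F V) (hWa : ∀ w ∈ W, a w ∈ W) (hWb : ∀ w ∈ W, b w ∈ W)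
    (hafree : ∀ w ∈ W, a w = w → w = 0) (hbfree : ∀ w ∈ W, b w = w → w = 0)
    (hsep : ∀ y ∈ W, (∀ x ∈ W, ω x y = 0) → y = 0)
    (h : ℕ) (hl : 2 * h = orderOf ((Fintype.card F : ℕ) : ZMod s))
    (hkh : orderOf ((Fintype.card F : ℕ) : ZMod r) ∣ h)
    (hdim : Module.finrank F W = 2 * h) (hWne : W ≠ ⊥) : False := by
  have hrp : r.Prime := Fact.out
  have hsp : s.Prime := Fact.out
  have hrodd : Odd r := hrp.odd_of_ne_two hr2
  have hq1 : 1 ≤ Fintype.card F := Fintype.card_pos
  obtain ⟨x₀, hx₀, hx0⟩ := (Submodule.ne_bot_iff _).1 hWne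
  have hhpos : 0 < 2 * h := by
    rw [← hdim, Module.finrank_pos_iff]
    exact (Submodule.nontrivial_iff_ne_bot).2 hWne
  obtain ⟨U, hU⟩ : ∃ U : Submodule F V,
      U = Submodule.span F (Set.range (fun i : ℕ => (b ^ i) x₀)) := ⟨_, rfl⟩
  have hUW : U ≤ W := by
    rw [hU, Submodule.span_le]
    rintro _ ⟨i, rfl⟩
    exact pow_mem_of_inv b W hWb i x₀ hx₀
  have hUb : ∀ y ∈ U, b y ∈ U := by
    rw [hU]
    exact span_pow_invariant b x₀
  have hxU : x₀ ∈ U := by
    rw [hU]
    apply Submodule.subset_span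
    exact ⟨0, by simp⟩
  have hUdvd : 2 * h ∣ Module.finrank F U := by
    rw [hl]
    exact orderOf_dvd_finrank_of_fixedPointFree s b hbs U hUb (fun w hw => hbfree w (hUW hw))
  have hUpos : 0 < Module.finrank F U := by
    rw [Module.finrank_pos_iff_exists_ne_zero]
    exact ⟨⟨x₀, hxU⟩, fun h => hx0 (congrArg Subtype.val h)⟩
  have hWU : W ≤ Submodule.span F (Set.range (fun i : ℕ => (b ^ i) x₀)) := by
    apply span_eq_of_finrank s b hbs W hWb hbfree x₀ hx₀ hx0
    rw [← hU, hdim]
    exact Nat.le_of_dvd hUpos hUdvd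
  obtain ⟨P, hP⟩ := exists_aeval_eq_on a b hab W x₀ hWU (hWa x₀ hx₀)
  have hs1 : s ∣ Fintype.card F ^ h + 1 :=
    dvd_pow_half_add_one s (Fintype.card F) (2 * h) h hl rfl hhpos
  have hr1 : r ∣ Fintype.card F ^ h - 1 := (dvd_pow_sub_one_iff r (Fintype.card F) h hq1).2 hkh
  obtain ⟨b', hb'⟩ : ∃ b' : Module.End F V, b' = b ^ (s - 1) := ⟨_, rfl⟩
  have hbb' : b * b' = 1 := by
    rw [hb', ← pow_succ', Nat.sub_add_cancel hsp.pos, hbs]
  obtain ⟨a', ha'⟩ : ∃ a' : Module.End F V, a' = a ^ (r - 1) := ⟨_, rfl⟩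
  have haa' : a * a' = 1 := by
    rw [ha', ← pow_succ', Nat.sub_add_cancel hrp.pos, har]
  have hbQ : b ^ (Fintype.card F ^ h) = b' := by
    obtain ⟨c, hc⟩ := hs1
    have h1 : b ^ (Fintype.card F ^ h) * b = 1 := by
      rw [← pow_succ, hc, pow_mul, hbs, one_pow]
    calc b ^ (Fintype.card F ^ h) = b ^ (Fintype.card F ^ h) * (b * b') := by rw [hbb', mul_one]
      _ = b' := by rw [← mul_assoc, h1, one_mul]
  have haQ : a ^ (Fintype.card F ^ h) = a := by
    obtain ⟨c, hc⟩ := hr1
    have hpos : 1 ≤ Fintype.card F ^ h := Nat.one_le_pow _ _ hq1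
    have h1 : Fintype.card F ^ h = (Fintype.card F ^ h - 1) + 1 := by omega
    rw [h1, pow_succ, hc, pow_mul, har, one_pow, one_mul]
  have key3 : ∀ y ∈ W, a y = (Polynomial.aeval b' P) y := by
    intro y hy
    have h1 := pow_eq_on a (Polynomial.aeval b P) W hWa hP (Fintype.card F ^ h) y hy
    rw [haQ, aeval_pow_card_pow, hbQ] at h1
    exact h1
  have hsym : ∀ x ∈ W, ∀ y ∈ W, ω (a x) y = ω x (a y) := by
    intro x hx y hy
    rw [hP x hx, form_aeval_adj ω b b' hb hbb' P x y, ← key3 y hy]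
  have hall : ∀ y ∈ W, y = 0 := by
    intro y hy
    have ha'y : a' y ∈ W := by
      rw [ha']
      exact pow_mem_of_inv a W hWa _ y hy
    have e : a (a' y) = y := by
      rw [← Module.End.mul_apply, haa']
      rfl
    have h1 : a y - a' y = 0 := by
      apply hsep _ (W.sub_mem (hWa y hy) ha'y)
      intro x hx
      have h3 : ω (a x) y = ω x (a' y) := by
        calc ω (a x) y = ω (a x) (a (a' y)) := by rw [e]
          _ = ω x (a' y) := ha _ _
      rw [map_sub, ← hsym x hx y hy, h3, sub_self]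
    have h4 : a y = a' y := sub_eq_zero.1 h1
    have h5 : a (a y) = y := by rw [h4, e]
    exact hafree y hy (fixed_of_sq_fixed a r hrodd har y h5)
  exact hx0 (hall x₀ hx₀)

/-- Case: `l` odd, `k` even with `k / 2 ∣ l`, `dim W = 2 l`. -/
theorem sp_rs_case_odd (ω : LinearMap.BilinForm F V) (halt : ω.IsAlt)
    (r s : ℕ) [Fact r.Prime] [Fact s.Prime] (hr2 : r ≠ 2) (hs2 : s ≠ 2)
    (a b : Module.End F V) (ha : ∀ x y, ω (a x) (a y) = ω x y)
    (hb : ∀ x y, ω (b x) (b y) = ω x y)
    (hab : Commute a b) (har : a ^ r = 1) (hbs : b ^ s = 1)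
    (W : Submodule F V) (hWa : ∀ w ∈ W, a w ∈ W) (hWb : ∀ w ∈ W, b w ∈ W)
    (hafree : ∀ w ∈ W, a w = w → w = 0) (hbfree : ∀ w ∈ W, b w = w → w = 0)
    (hsep : ∀ y ∈ W, (∀ x ∈ W, ω x y = 0) → y = 0)
    (h l : ℕ) (hk : 2 * h = orderOf ((Fintype.card F : ℕ) : ZMod r))
    (hl : l = orderOf ((Fintype.card F : ℕ) : ZMod s))
    (hlodd : Odd l) (hhl : h ∣ l)
    (hdim : Module.finrank F W = 2 * l) (hWne : W ≠ ⊥) : False := by
  have hrp : r.Prime := Fact.out
  have hsp : s.Prime := Fact.out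
  have hrodd : Odd r := hrp.odd_of_ne_two hr2
  have hsodd : Odd s := hsp.odd_of_ne_two hs2
  have hq1 : 1 ≤ Fintype.card F := Fintype.card_pos
  have hlpos : 0 < l := hlodd.pos
  have hhpos : 0 < h := Nat.pos_of_dvd_of_pos hhl hlpos
  obtain ⟨b', hb'⟩ : ∃ b' : Module.End F V, b' = b ^ (s - 1) := ⟨_, rfl⟩
  have hbb' : b * b' = 1 := by
    rw [hb', ← pow_succ', Nat.sub_add_cancel hsp.pos, hbs]
  have hb'W : ∀ y ∈ W, b' y ∈ W := by
    intro y hy
    rw [hb']
    exact pow_mem_of_inv b W hWb _ y hy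
  have hbe : ∀ y, b (b' y) = y := by
    intro y
    rw [← Module.End.mul_apply, hbb']
    rfl
  have hex : ∃ x ∈ W, ω x (b x) ≠ 0 := by
    by_contra hcon
    push Not at hcon
    have hall : ∀ y ∈ W, y = 0 := by
      intro y hy
      have h1 : b y - b' y = 0 := by
        apply hsep _ (W.sub_mem (hWb y hy) (hb'W y hy))
        intro x hx
        have h2 := hcon (x + y) (W.add_mem hx hy)
        simp only [map_add, LinearMap.add_apply] at h2
        rw [hcon x hx, hcon y hy] at h2
        have h3 : ω y (b x) = - ω (b x) y := (halt.neg_eq (b x) y).symm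
        have h4 : ω (b x) y = ω x (b' y) := by
          calc ω (b x) y = ω (b x) (b (b' y)) := by rw [hbe]
            _ = ω x (b' y) := hb _ _
        rw [map_sub]
        rw [h3, h4] at h2
        linear_combination h2
      have h4 : b y = b' y := sub_eq_zero.1 h1
      have h5 : b (b y) = y := by rw [h4, hbe]
      exact hbfree y hy (fixed_of_sq_fixed b s hsodd hbs y h5)
    obtain ⟨x₀, hx₀, hx0⟩ := (Submodule.ne_bot_iff _).1 hWne
    exact hx0 (hall x₀ hx₀)
  obtain ⟨x₁, hx₁, hω⟩ := hex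
  have hx10 : x₁ ≠ 0 := by
    rintro rfl
    simp at hω
  obtain ⟨U, hU⟩ : ∃ U : Submodule F V,
      U = Submodule.span F (Set.range (fun i : ℕ => (b ^ i) x₁)) := ⟨_, rfl⟩
  have hUW : U ≤ W := by
    rw [hU, Submodule.span_le]
    rintro _ ⟨i, rfl⟩
    exact pow_mem_of_inv b W hWb i x₁ hx₁
  have hUb : ∀ y ∈ U, b y ∈ U := by
    rw [hU]
    exact span_pow_invariant b x₁
  have hxU : x₁ ∈ U := by
    rw [hU]
    apply Submodule.subset_span
    exact ⟨0, by simp⟩
  have hUdvd : l ∣ Module.finrank F U := by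
    rw [hl]
    exact orderOf_dvd_finrank_of_fixedPointFree s b hbs U hUb (fun w hw => hbfree w (hUW hw))
  have hUpos : 0 < Module.finrank F U := by
    rw [Module.finrank_pos_iff_exists_ne_zero]
    exact ⟨⟨x₁, hxU⟩, fun h => hx10 (congrArg Subtype.val h)⟩
  have hUle : Module.finrank F U ≤ 2 * l := by
    rw [← hdim]
    exact Submodule.finrank_mono hUW
  obtain ⟨c, hc⟩ := hUdvd
  have hc12 : c = 1 ∨ c = 2 := by
    have h1 : c ≠ 0 := by
      rintro rfl
      omega
    have h2 : c ≤ 2 := by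
      by_contra h3
      push Not at h3
      have : l * 3 ≤ l * c := Nat.mul_le_mul_left _ h3
      omega
    omega
  rcases hc12 with rfl | rfl
  · have hb'U : ∀ y ∈ U, b' y ∈ U := by
      intro y hy
      rw [hb']
      exact pow_mem_of_inv b U hUb _ y hy
    have hsepU : ∀ y ∈ U, (∀ x ∈ U, ω x y = 0) → y = 0 := by
      obtain ⟨R, hR⟩ : ∃ R : Submodule F V, R = U ⊓ ω.orthogonal U := ⟨_, rfl⟩
      have hRb : ∀ y ∈ R, b y ∈ R := by
        intro y hy
        rw [hR] at hy ⊢
        have hy' := Submodule.mem_inf.1 hy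
        refine Submodule.mem_inf.2 ⟨hUb y hy'.1, ?_⟩
        rw [LinearMap.BilinForm.mem_orthogonal_iff]
        intro x hx
        have h1 := (LinearMap.BilinForm.mem_orthogonal_iff.1 hy'.2) (b' x) (hb'U x hx)
        rw [← hbe x, hb]
        exact h1
      have hRdvd : l ∣ Module.finrank F R := by
        rw [hl]
        exact orderOf_dvd_finrank_of_fixedPointFree s b hbs R hRb
          (fun w hw => hbfree w (hUW (by rw [hR] at hw; exact (Submodule.mem_inf.1 hw).1)))
      have hRlt : Module.finrank F R < Module.finrank F U := by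
        apply Submodule.finrank_lt_finrank_of_lt
        rw [lt_iff_le_and_ne]
        refine ⟨by rw [hR]; exact inf_le_left, ?_⟩
        intro heq
        have hx1R : x₁ ∈ R := by
          rw [heq]
          exact hxU
        rw [hR] at hx1R
        have h1 := (LinearMap.BilinForm.mem_orthogonal_iff.1 (Submodule.mem_inf.1 hx1R).2)
          (b x₁) (hUb x₁ hxU)
        apply hω
        rw [← halt.neg_eq (b x₁) x₁, h1, neg_zero]
      have hR0 : Module.finrank F R = 0 := Nat.eq_zero_of_dvd_of_lt hRdvd (by omega)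
      have hRbot : R = ⊥ := Submodule.finrank_eq_zero.1 hR0
      intro y hy h
      have h1 : y ∈ R := by
        rw [hR]
        exact Submodule.mem_inf.2 ⟨hy, LinearMap.BilinForm.mem_orthogonal_iff.2 (fun x hx => h x hx)⟩
      rw [hRbot] at h1
      exact (Submodule.mem_bot F).1 h1
    obtain ⟨x, hxU', hx0', hx'⟩ := exists_fixed_of_odd_submodule U ω b hUb
      (fun x _ y _ => hb x y) hsepU s hsodd hbs (by rw [hc, mul_one]; exact hlodd)
    exact hx0' (hbfree x (hUW hxU') hx')
  · have hWU : W ≤ Submodule.span F (Set.range (fun i : ℕ => (b ^ i) x₁)) := by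
      apply span_eq_of_finrank s b hbs W hWb hbfree x₁ hx₁ hx10
      rw [← hU, hdim, hc]
      omega
    obtain ⟨P, hP⟩ := exists_aeval_eq_on a b hab W x₁ hWU (hWa x₁ hx₁)
    have hs1 : s ∣ Fintype.card F ^ l - 1 :=
      (dvd_pow_sub_one_iff s (Fintype.card F) l hq1).2 (by rw [← hl])
    have hr0 : r ∣ Fintype.card F ^ h + 1 :=
      dvd_pow_half_add_one r (Fintype.card F) (2 * h) h hk rfl (by omega)
    obtain ⟨t, ht⟩ := hhl
    have htodd : Odd t := by
      rw [ht] at hlodd
      exact (Nat.odd_mul.1 hlodd).2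
    have hr1 : r ∣ Fintype.card F ^ l + 1 := by
      rw [ht]
      exact dvd_pow_mul_add_one r _ h t htodd hr0
    have hbQ : b ^ (Fintype.card F ^ l) = b := by
      obtain ⟨c, hc⟩ := hs1
      have hpos : 1 ≤ Fintype.card F ^ l := Nat.one_le_pow _ _ hq1
      have h1 : Fintype.card F ^ l = (Fintype.card F ^ l - 1) + 1 := by omega
      rw [h1, pow_succ, hc, pow_mul, hbs, one_pow, one_mul]
    have haQ1 : a ^ (Fintype.card F ^ l + 1) = 1 := by
      obtain ⟨c, hc⟩ := hr1
      rw [hc, pow_mul, har, one_pow]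
    have hall : ∀ y ∈ W, y = 0 := by
      intro y hy
      have h1 := pow_eq_on a (Polynomial.aeval b P) W hWa hP (Fintype.card F ^ l) y hy
      rw [aeval_pow_card_pow, hbQ, ← hP y hy] at h1
      have h5 : a (a y) = y := by
        calc a (a y) = a ((a ^ (Fintype.card F ^ l)) y) := by rw [h1]
          _ = (a ^ (Fintype.card F ^ l + 1)) y := by rw [pow_succ', Module.End.mul_apply]
          _ = y := by rw [haQ1]; rfl
      exact hafree y hy (fixed_of_sq_fixed a r hrodd har y h5)
    exact hx10 (hall x₁ hx₁)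

/-- Two commuting isometries of odd prime orders `r`, `s` on a symplectic space of dimension
less than `2 η(k) + 2 η(l)`: then `l / k` is an odd integer. -/
theorem sp_rs_odd_ratio (ω : LinearMap.BilinForm F V) (halt : ω.IsAlt) (hnd : ω.Nondegenerate)
    (r s : ℕ) [Fact r.Prime] [Fact s.Prime] (hr2 : r ≠ 2) (hs2 : s ≠ 2)
    (hrF : (r : F) ≠ 0) (hsF : (s : F) ≠ 0)
    (a b : Module.End F V) (ha : ∀ x y, ω (a x) (a y) = ω x y)
    (hb : ∀ x y, ω (b x) (b y) = ω x y)
    (hab : Commute a b) (har : a ^ r = 1) (hbs : b ^ s = 1) (ha1 : a ≠ 1) (hb1 : b ≠ 1)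
    (k l ηk ηl : ℕ) (hk : k = orderOf ((Fintype.card F : ℕ) : ZMod r))
    (hl : l = orderOf ((Fintype.card F : ℕ) : ZMod s))
    (hηk : (Odd k ∧ ηk = k) ∨ (Even k ∧ 2 * ηk = k))
    (hηl : (Odd l ∧ ηl = l) ∨ (Even l ∧ 2 * ηl = l))
    (hkl : ηk ≤ ηl) (hdim : Module.finrank F V < 2 * ηk + 2 * ηl) :
    ∃ t : ℕ, Odd t ∧ l = k * t := by
  have hdA := sp_dim_bound ω hnd r hr2 hrF a ha har ha1 k ηk hk hηk
  have hdB := sp_dim_bound ω hnd s hs2 hsF b hb hbs hb1 l ηl hl hηl
  obtain ⟨W, hW⟩ : ∃ W : Submodule F V, W = normKer a r ⊓ normKer b s := ⟨_, rfl⟩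
  have hWa : ∀ w ∈ W, a w ∈ W := by
    intro w hw
    rw [hW] at hw ⊢
    exact ⟨normKer_invariant a a (Commute.refl a) r w hw.1,
      normKer_invariant b a hab.symm s w hw.2⟩
  have hWb : ∀ w ∈ W, b w ∈ W := by
    intro w hw
    rw [hW] at hw ⊢
    exact ⟨normKer_invariant a b hab r w hw.1,
      normKer_invariant b b (Commute.refl b) s w hw.2⟩
  have hafree : ∀ w ∈ W, a w = w → w = 0 := by
    intro w hw
    rw [hW] at hw
    exact normKer_fixfree a r hrF w hw.1
  have hbfree : ∀ w ∈ W, b w = w → w = 0 := by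
    intro w hw
    rw [hW] at hw
    exact normKer_fixfree b s hsF w hw.2
  have hsep : ∀ y ∈ W, (∀ x ∈ W, ω x y = 0) → y = 0 := by
    rw [hW]
    exact normKer_inf_sep ω hnd a b ha hb hab r s hrF hsF har hbs
  have h3 := Submodule.finrank_sup_add_finrank_inf_eq (normKer a r) (normKer b s)
  have h4 : Module.finrank F ↥(normKer a r ⊔ normKer b s) ≤ Module.finrank F V :=
    Submodule.finrank_le _
  rw [← hW] at h3
  have hWne : W ≠ ⊥ := by
    intro h0
    rw [h0, finrank_bot] at h3
    omega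
  have hDpos : 0 < Module.finrank F W := by
    rw [Module.finrank_pos_iff]
    exact (Submodule.nontrivial_iff_ne_bot).2 hWne
  have h2k := sp_block_dvd ω r hr2 a ha har W hWa hafree hsep k ηk hk hηk
  have h2l := sp_block_dvd ω s hs2 b hb hbs W hWb hbfree hsep l ηl hl hηl
  have hDle : Module.finrank F W ≤ Module.finrank F V := Submodule.finrank_le _
  have hD : Module.finrank F W = 2 * ηl :=
    Nat.eq_of_dvd_of_lt_two_mul (by omega) h2l (by omega)
  rw [hD] at h2k
  have hηdvd : ηk ∣ ηl := (Nat.mul_dvd_mul_iff_left (by norm_num)).1 h2k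
  rcases hηl with ⟨hlodd, hl1⟩ | ⟨hleven, hl1⟩
  · rcases hηk with ⟨hkodd, hk1⟩ | ⟨hkeven, hk1⟩
    · rw [hk1, hl1] at hηdvd
      obtain ⟨t, ht⟩ := hηdvd
      refine ⟨t, ?_, ht⟩
      rw [ht] at hlodd
      exact (Nat.odd_mul.1 hlodd).2
    · exfalso
      rw [hl1] at hηdvd hD
      exact sp_rs_case_odd ω halt r s hr2 hs2 a b ha hb hab har hbs W hWa hWb hafree hbfree hsep
        ηk l (by rw [hk1]; exact hk) hl hlodd hηdvd hD hWne
  · have key : ∀ h : ℕ, l = 2 * h → k ∣ h → False := by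
      intro h hlh hkh
      exact sp_rs_case_even ω r s hr2 a b ha hb hab har hbs W hWa hWb hafree hbfree hsep
        h (by rw [← hlh]; exact hl) (by rw [← hk]; exact hkh) (by rw [hD, hl1, hlh]) hWne
    rcases hηk with ⟨hkodd, hk1⟩ | ⟨hkeven, hk1⟩
    · exfalso
      rw [hk1] at hηdvd
      exact key ηl hl1.symm hηdvd
    · obtain ⟨t, ht⟩ := hηdvd
      have hlt : l = k * t := by
        rw [← hl1, ← hk1, ht]
        ring
      rcases Nat.even_or_odd t with hte | hto
      · exfalso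
        obtain ⟨u, hu⟩ := hte
        apply key ηl hl1.symm
        refine ⟨u, ?_⟩
        rw [ht, hu, ← hk1]
        ring
      · exact ⟨t, hto, hlt⟩

end sprs2

end Cfsg.Agent.H41
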