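import Mathlib
import Cfsg.Agent.H41.SpRS
import Cfsg.Agent.H41.PSpRP

set_option autoImplicit false
set_option linter.unusedSimpArgs false
set_option linter.unusedSectionVars false
set_option linter.unusedVariables false
set_option linter.style.haveILetI false

namespace Cfsg.Agent.H41

open Matrix Cfsg.Agent.Lib.Helper13.SympMat

section sprsmat

variable {F : Type*} [Field F]

/-- Squaring a lift of an element of `PSp` kills the sign ambiguity. -/
theorem psp_lift_sq {n : ℕ} (hn : 1 ≤ n) (x : Cfsg.PSp n F) (N : ℕ) (hx : x ^ N = 1) :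
    ∃ B : Matrix (Fin n ⊕ Fin n) (Fin n ⊕ Fin n) F, B ∈ Matrix.symplecticGroup (Fin n) F ∧
      B ^ N = 1 ∧ ∀ j : ℕ, B ^ j = 1 → x ^ (2 * j) = 1 := by
  obtain ⟨g, rfl⟩ := QuotientGroup.mk_surjective x
  obtain ⟨c, hc2, hc⟩ := (psp_pow_eq_one_iff hn g N).1 hx
  refine ⟨(g : Matrix (Fin n ⊕ Fin n) (Fin n ⊕ Fin n) F) ^ 2, pow_mem_symp _ g.2 2, ?_, ?_⟩
  · rw [← pow_mul, mul_comm, pow_mul, hc, _root_.smul_pow, one_pow, hc2, one_smul]
  · intro j hj
    rw [psp_pow_eq_one_iff hn g (2 * j)]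
    refine ⟨1, one_pow 2, ?_⟩
    rw [pow_mul, hj, one_smul]

variable [Fintype F]

theorem symp_toLin'_iso {n : ℕ} (C : Matrix (Fin n ⊕ Fin n) (Fin n ⊕ Fin n) F)
    (hC : C ∈ Matrix.symplecticGroup (Fin n) F) (u v : Fin n ⊕ Fin n → F) :
    form n F (Matrix.toLin' C u) (Matrix.toLin' C v) = form n F u v := by
  rw [Matrix.toLin'_apply, Matrix.toLin'_apply]
  exact (mem_symp_iff n C).1 hC u v

theorem finrank_symp_space (n : ℕ) : Module.finrank F (Fin n ⊕ Fin n → F) = 2 * n := by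
  rw [Module.finrank_fintype_fun_eq_card, Fintype.card_sum, Fintype.card_fin]
  ring

/-- If `PSp_{2n}(q)` has an element of order `r s` (odd primes prime to `q`) and
`n < η(k) + η(l)`, then `l / k` is an odd integer. -/
theorem psp_rs_odd_ratio (p : ℕ) [Fact p.Prime] [CharP F p] (n : ℕ) (hn : 1 ≤ n) (r s : ℕ)
    (hr : r.Prime) (hs : s.Prime) (hr2 : r ≠ 2) (hs2 : s ≠ 2) (hrp : r ≠ p) (hsp : s ≠ p)
    (x : Cfsg.PSp n F) (hx : orderOf x = r * s)
    (k l ηk ηl : ℕ) (hk : k = orderOf ((Fintype.card F : ℕ) : ZMod r))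
    (hl : l = orderOf ((Fintype.card F : ℕ) : ZMod s))
    (hηk : (Odd k ∧ ηk = k) ∨ (Even k ∧ 2 * ηk = k))
    (hηl : (Odd l ∧ ηl = l) ∨ (Even l ∧ 2 * ηl = l))
    (hkl : ηk ≤ ηl) (hdim : n < ηk + ηl) : ∃ t : ℕ, Odd t ∧ l = k * t := by
  haveI := Fact.mk hr
  haveI := Fact.mk hs
  obtain ⟨B, hBmem, hBN, hBj⟩ :=
    psp_lift_sq hn x (r * s) (by rw [← hx]; exact pow_orderOf_eq_one x)
  have hne : ∀ j : ℕ, B ^ j = 1 → r * s ∣ 2 * j := by
    intro j hj
    rw [← hx]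
    exact orderOf_dvd_of_pow_eq_one (hBj j hj)
  have ha1 : Matrix.toLin' (B ^ s) ≠ 1 := by
    intro h
    have h1 : B ^ s = 1 := by
      apply Matrix.toLin'.injective
      rw [h, Matrix.toLin'_one]
      rfl
    have h2 := hne s h1
    have h3 : r ∣ 2 := Nat.dvd_of_mul_dvd_mul_right hs.pos h2
    exact hr2 ((Nat.prime_dvd_prime_iff_eq hr Nat.prime_two).1 h3)
  have hb1 : Matrix.toLin' (B ^ r) ≠ 1 := by
    intro h
    have h1 : B ^ r = 1 := by
      apply Matrix.toLin'.injective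
      rw [h, Matrix.toLin'_one]
      rfl
    have h2 := hne r h1
    have h3 : s ∣ 2 := Nat.dvd_of_mul_dvd_mul_left hr.pos (by rwa [mul_comm 2 r] at h2)
    exact hs2 ((Nat.prime_dvd_prime_iff_eq hs Nat.prime_two).1 h3)
  have har : (Matrix.toLin' (B ^ s)) ^ r = 1 := by
    rw [toLin'_pow_gen, ← pow_mul, mul_comm, hBN, Matrix.toLin'_one]
    rfl
  have hbs : (Matrix.toLin' (B ^ r)) ^ s = 1 := by
    rw [toLin'_pow_gen, ← pow_mul, hBN, Matrix.toLin'_one]
    rfl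
  apply sp_rs_odd_ratio (V := Fin n ⊕ Fin n → F) (form n F) (form_alt n) (form_nondeg n) r s
    hr2 hs2 (natCast_ne_zero_of_prime_ne p r hr hrp) (natCast_ne_zero_of_prime_ne p s hs hsp)
    (Matrix.toLin' (B ^ s)) (Matrix.toLin' (B ^ r))
    (symp_toLin'_iso _ (pow_mem_symp B hBmem s)) (symp_toLin'_iso _ (pow_mem_symp B hBmem r))
    (toLin'_commute_gen _ _ ((Commute.refl B).pow_pow s r)) har hbs ha1 hb1 k l ηk ηl hk hl
    hηk hηl hkl
  rw [finrank_symp_space]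
  omega

/-- If an odd prime `r` prime to `q` divides `|PSp_{2n}(q)|` then `η(k) ≤ n`. -/
theorem psp_eta_le (p : ℕ) [Fact p.Prime] [CharP F p] (n : ℕ) (hn : 1 ≤ n) (r : ℕ)
    (hr : r.Prime) (hr2 : r ≠ 2) (hrp : r ≠ p) (hrG : r ∣ Nat.card (Cfsg.PSp n F))
    (k ηk : ℕ) (hk : k = orderOf ((Fintype.card F : ℕ) : ZMod r))
    (hηk : (Odd k ∧ ηk = k) ∨ (Even k ∧ 2 * ηk = k)) : ηk ≤ n := by
  classical
  haveI := Fact.mk hr
  haveI : Finite (Matrix.symplecticGroup (Fin n) F) := Subtype.finite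
  haveI : Finite (Cfsg.PSp n F) := inferInstance
  obtain ⟨x, hx⟩ := exists_prime_orderOf_dvd_card' r hrG
  obtain ⟨B, hBmem, hBN, hBj⟩ :=
    psp_lift_sq hn x r (by rw [← hx]; exact pow_orderOf_eq_one x)
  have ha1 : Matrix.toLin' B ≠ 1 := by
    intro h
    have h1 : B ^ 1 = 1 := by
      rw [pow_one]
      apply Matrix.toLin'.injective
      rw [h, Matrix.toLin'_one]
      rfl
    have h2 := orderOf_dvd_of_pow_eq_one (hBj 1 h1)
    rw [hx, mul_one] at h2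
    exact hr2 ((Nat.prime_dvd_prime_iff_eq hr Nat.prime_two).1 h2)
  have har : (Matrix.toLin' B) ^ r = 1 := by
    rw [toLin'_pow_gen, hBN, Matrix.toLin'_one]
    rfl
  have h1 := sp_dim_bound (V := Fin n ⊕ Fin n → F) (form n F) (form_nondeg n) r hr2
    (natCast_ne_zero_of_prime_ne p r hr hrp) (Matrix.toLin' B) (symp_toLin'_iso _ hBmem) har ha1
    k ηk hk hηk
  have h2 := Submodule.finrank_le (normKer (Matrix.toLin' B) r)
  rw [finrank_symp_space] at h2
  omega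

end sprsmat

end Cfsg.Agent.H41
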