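import Mathlib
import Cfsg.Agent.H41.SpRSMat
import Cfsg.Agent.H41.SL2Torus
import Cfsg.Agent.H41.SL2Split
import Cfsg.Agent.H41.PSLn
import Cfsg.Agent.Lib.Helper40.SympConj

set_option autoImplicit false
set_option linter.unusedSimpArgs false
set_option linter.unusedSectionVars false
set_option linter.unusedVariables false
set_option linter.style.haveILetI false

namespace Cfsg.Agent.H41

open Matrix Cfsg.Agent.Lib.Helper13.SympMat

section sprsex

variable {F : Type*} [Field F]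

/-- `Sp_{2m}(F)` has an element of order exactly `N`. -/
def SpHas (F : Type*) [Field F] (m N : ℕ) : Prop :=
  ∃ M : Matrix (Fin m ⊕ Fin m) (Fin m ⊕ Fin m) F, M ∈ Matrix.symplecticGroup (Fin m) F ∧
    M ^ N = 1 ∧ ∀ j : ℕ, M ^ j = 1 → N ∣ j

theorem spHas_of_space {V : Type*} [AddCommGroup V] [Module F V] [Module.Finite F V]
    (B : LinearMap.BilinForm F V) (halt : B.IsAlt) (hnd : ∀ u : V, (∀ v : V, B u v = 0) → u = 0)
    (m : ℕ) (hdim : Module.finrank F V = 2 * m) (T : Module.End F V)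
    (hT : ∀ x y, B (T x) (T y) = B x y)
    (N : ℕ) (hTN : T ^ N = 1) (hTj : ∀ j : ℕ, T ^ j = 1 → N ∣ j) : SpHas F m N := by
  classical
  have hfr : Module.finrank F V = Module.finrank F (Fin m ⊕ Fin m → F) := by
    rw [hdim, Module.finrank_fintype_fun_eq_card, Fintype.card_sum, Fintype.card_fin]
    ring
  obtain ⟨φ⟩ : Nonempty (V ≃ₗ[F] (Fin m ⊕ Fin m → F)) := ⟨LinearEquiv.ofFinrankEq V _ hfr⟩
  obtain ⟨c, hc⟩ := Cfsg.Agent.Lib.Helper40.SympConj.alt_iso (form m F)
    (B.comp (φ.symm : (Fin m ⊕ Fin m → F) →ₗ[F] V) (φ.symm : (Fin m ⊕ Fin m → F) →ₗ[F] V))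
    (form_alt m)
    (by
      intro u
      rw [LinearMap.BilinForm.comp_apply]
      exact halt _)
    (form_nondeg m).1
    (by
      intro u hu
      have h1 : φ.symm u = 0 := by
        apply hnd
        intro v
        have h2 := hu (φ v)
        rw [LinearMap.BilinForm.comp_apply] at h2
        simpa using h2
      simpa using h1)
  obtain ⟨ψ, hψ⟩ : ∃ ψ : V ≃ₗ[F] (Fin m ⊕ Fin m → F), ∀ x y, form m F (ψ x) (ψ y) = B x y := by
    refine ⟨φ.trans c, fun x y => ?_⟩
    rw [LinearEquiv.trans_apply, LinearEquiv.trans_apply, ← hc, LinearMap.BilinForm.comp_apply]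
    simp
  obtain ⟨E, hE⟩ : ∃ E : Module.End F V ≃+* Matrix (Fin m ⊕ Fin m) (Fin m ⊕ Fin m) F,
      ∀ (S : Module.End F V) (u : Fin m ⊕ Fin m → F), (E S) *ᵥ u = ψ (S (ψ.symm u)) := by
    refine ⟨(LinearEquiv.conjRingEquiv ψ).trans
      (LinearMap.toMatrixAlgEquiv' : _ ≃ₐ[F] _).toRingEquiv, fun S u => ?_⟩
    rw [RingEquiv.trans_apply]
    show (LinearMap.toMatrixAlgEquiv' (ψ.conj S)) *ᵥ u = _
    rw [← Matrix.toLinAlgEquiv'_apply, Matrix.toLinAlgEquiv'_toMatrixAlgEquiv',
      LinearEquiv.conj_apply]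
    rfl
  refine ⟨E T, ?_, ?_, ?_⟩
  · rw [mem_symp_iff]
    intro u v
    rw [hE, hE, hψ, hT, ← hψ, LinearEquiv.apply_symm_apply, LinearEquiv.apply_symm_apply]
  · rw [← map_pow, hTN, map_one]
  · intro j hj
    apply hTj
    apply E.injective
    rw [map_pow, hj, map_one]


theorem spHas_one (m : ℕ) : SpHas F m 1 :=
  ⟨1, one_mem _, by rw [pow_one], fun j _ => one_dvd j⟩

theorem spHas_add (m₁ m₂ N₁ N₂ : ℕ) (h₁ : SpHas F m₁ N₁) (h₂ : SpHas F m₂ N₂) :
    SpHas F (m₁ + m₂) (Nat.lcm N₁ N₂) := by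
  obtain ⟨M₁, hM₁, hN₁, hj₁⟩ := h₁
  obtain ⟨M₂, hM₂, hN₂, hj₂⟩ := h₂
  obtain ⟨B, hB⟩ : ∃ B : LinearMap.BilinForm F ((Fin m₁ ⊕ Fin m₁ → F) × (Fin m₂ ⊕ Fin m₂ → F)),
      ∀ x y, B x y = form m₁ F x.1 y.1 + form m₂ F x.2 y.2 := by
    refine ⟨(form m₁ F).comp (LinearMap.fst F _ _) (LinearMap.fst F _ _) +
      (form m₂ F).comp (LinearMap.snd F _ _) (LinearMap.snd F _ _), fun x y => ?_⟩
    rw [LinearMap.add_apply, LinearMap.add_apply, LinearMap.BilinForm.comp_apply,
      LinearMap.BilinForm.comp_apply]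
    rfl
  apply spHas_of_space B ?_ ?_ (m₁ + m₂) ?_ ((Matrix.toLin' M₁).prodMap (Matrix.toLin' M₂)) ?_
    (Nat.lcm N₁ N₂) ?_ ?_
  · intro x
    rw [hB, form_alt m₁, form_alt m₂, add_zero]
  · intro u hu
    have h1 : u.1 = 0 := by
      apply (form_nondeg m₁).1
      intro v
      have := hu (v, 0)
      rw [hB] at this
      simpa using this
    have h2 : u.2 = 0 := by
      apply (form_nondeg m₂).1
      intro v
      have := hu (0, v)
      rw [hB] at this
      simpa using this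
    exact Prod.ext h1 h2
  · rw [Module.finrank_prod, Module.finrank_fintype_fun_eq_card,
      Module.finrank_fintype_fun_eq_card, Fintype.card_sum, Fintype.card_sum, Fintype.card_fin,
      Fintype.card_fin]
    ring
  · intro x y
    rw [hB, hB, LinearMap.prodMap_apply, LinearMap.prodMap_apply]
    show form m₁ F (Matrix.toLin' M₁ x.1) (Matrix.toLin' M₁ y.1) +
      form m₂ F (Matrix.toLin' M₂ x.2) (Matrix.toLin' M₂ y.2) = _
    rw [Matrix.toLin'_apply, Matrix.toLin'_apply, Matrix.toLin'_apply, Matrix.toLin'_apply,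
      (mem_symp_iff m₁ M₁).1 hM₁, (mem_symp_iff m₂ M₂).1 hM₂]
  · rw [prodMap_pow_eq, toLin'_pow_gen, toLin'_pow_gen]
    obtain ⟨a, ha⟩ := Nat.dvd_lcm_left N₁ N₂
    obtain ⟨b, hb⟩ := Nat.dvd_lcm_right N₁ N₂
    have e1 : M₁ ^ Nat.lcm N₁ N₂ = 1 := by rw [ha, pow_mul, hN₁, one_pow]
    have e2 : M₂ ^ Nat.lcm N₁ N₂ = 1 := by rw [hb, pow_mul, hN₂, one_pow]
    rw [e1, e2, Matrix.toLin'_one, Matrix.toLin'_one]
    exact LinearMap.prodMap_one
  · intro j hj
    rw [prodMap_pow_eq, toLin'_pow_gen, toLin'_pow_gen] at hj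
    have h1 : M₁ ^ j = 1 := by
      apply Matrix.toLin'.injective
      rw [Matrix.toLin'_one]
      apply LinearMap.ext
      intro v
      have := congrArg Prod.fst (LinearMap.congr_fun hj (v, 0))
      simpa using this
    have h2 : M₂ ^ j = 1 := by
      apply Matrix.toLin'.injective
      rw [Matrix.toLin'_one]
      apply LinearMap.ext
      intro v
      have := congrArg Prod.snd (LinearMap.congr_fun hj (0, v))
      simpa using this
    exact Nat.lcm_dvd (hj₁ j h1) (hj₂ j h2)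

theorem spHas_pad (m n N : ℕ) (hmn : m ≤ n) (h : SpHas F m N) : SpHas F n N := by
  have h1 := spHas_add m (n - m) N 1 h (spHas_one (n - m))
  rw [Nat.lcm_one_right, Nat.add_sub_cancel' hmn] at h1
  exact h1

theorem psp_of_spHas (n : ℕ) (hn : 1 ≤ n) (N : ℕ) (hodd : Odd N) (h : SpHas F n N) :
    ∃ x : Cfsg.PSp n F, orderOf x = N := by
  obtain ⟨M, hM, hMN, hMj⟩ := h
  obtain ⟨g, hg⟩ : ∃ g : Matrix.symplecticGroup (Fin n) F,
      (g : Matrix (Fin n ⊕ Fin n) (Fin n ⊕ Fin n) F) = M := ⟨⟨M, hM⟩, rfl⟩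
  refine ⟨QuotientGroup.mk g, ?_⟩
  apply Nat.dvd_antisymm
  · apply orderOf_dvd_of_pow_eq_one
    rw [psp_pow_eq_one_iff hn]
    exact ⟨1, one_pow 2, by rw [one_smul, hg]; exact hMN⟩
  · have h1 := pow_orderOf_eq_one (QuotientGroup.mk g : Cfsg.PSp n F)
    obtain ⟨c, hc2, hc⟩ := (psp_pow_eq_one_iff hn _ _).1 h1
    rw [hg] at hc
    have h2 : M ^ (2 * orderOf (QuotientGroup.mk g : Cfsg.PSp n F)) = 1 := by
      rw [mul_comm, pow_mul, hc, _root_.smul_pow, one_pow, hc2, one_smul]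
    have h3 := hMj _ h2
    exact (Nat.Coprime.dvd_mul_left (Nat.coprime_two_right.2 hodd)).1 h3


theorem exists_orderOf_of_cyclic {G : Type*} [Group G] (C : Subgroup G) [IsCyclic C] (M N : ℕ)
    (hM : Nat.card C = M) (hM0 : 0 < M) (hN : N ∣ M) : ∃ g : G, orderOf g = N := by
  obtain ⟨x, hx⟩ := IsCyclic.exists_ofOrder_eq_natCard (α := C)
  obtain ⟨t, ht⟩ := hN
  have ht0 : t ≠ 0 := by
    rintro rfl
    omega
  refine ⟨((x ^ t : C) : G), ?_⟩
  rw [Subgroup.orderOf_coe, orderOf_pow_of_dvd ht0 (by rw [hx, hM, ht]; exact dvd_mul_left t N),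
    hx, hM, ht, Nat.mul_div_cancel _ (Nat.pos_of_ne_zero ht0)]

theorem exists_sl2_orderOf {K : Type*} [Field K] [Fintype K] (N : ℕ)
    (hN : N ∣ Fintype.card K - 1 ∨ N ∣ Fintype.card K + 1) :
    ∃ g : Matrix.SpecialLinearGroup (Fin 2) K, orderOf g = N := by
  classical
  rcases hN with h | h
  · haveI := isCyclic_diagSubgroup (F := K)
    exact exists_orderOf_of_cyclic (diagSubgroup K) _ N card_diagSubgroup
      (by have := Fintype.one_lt_card (α := K); omega) h
  · obtain ⟨p, hp⟩ := CharP.exists K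
    haveI : Fact p.Prime := ⟨CharP.char_is_prime K p⟩
    haveI : NeZero (2 : ℕ) := ⟨by norm_num⟩
    have h2 : Module.finrank K (FiniteField.Extension K p 2) = 2 :=
      FiniteField.finrank_extension K p 2
    obtain ⟨b⟩ : Nonempty (Module.Basis (Fin 2) K (FiniteField.Extension K p 2)) :=
      ⟨Module.finBasisOfFinrankEq K _ h2⟩
    haveI := isCyclic_torus h2 b
    exact exists_orderOf_of_cyclic (torus h2 b) _ N (card_torus h2 b) (by omega) h

variable [Fintype F]

/-- The `F`-linear map given by a matrix over an extension field. -/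
noncomputable def mulVecF {K : Type*} [Field K] [Algebra F K] (A : Matrix (Fin 2) (Fin 2) K) :
    Module.End F (Fin 2 → K) :=
  (Matrix.toLin' A).restrictScalars F

theorem mulVecF_apply {K : Type*} [Field K] [Algebra F K] (A : Matrix (Fin 2) (Fin 2) K)
    (u : Fin 2 → K) : mulVecF (F := F) A u = A *ᵥ u := by
  rw [mulVecF, LinearMap.restrictScalars_apply, Matrix.toLin'_apply]

theorem mulVecF_pow {K : Type*} [Field K] [Algebra F K] (A : Matrix (Fin 2) (Fin 2) K) (j : ℕ) :
    (mulVecF (F := F) A) ^ j = mulVecF (A ^ j) := by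
  induction j with
  | zero =>
    apply LinearMap.ext
    intro u
    rw [pow_zero, pow_zero, mulVecF_apply, Matrix.one_mulVec]
    rfl
  | succ j ih =>
    apply LinearMap.ext
    intro u
    rw [pow_succ, ih, Module.End.mul_apply, mulVecF_apply, mulVecF_apply, mulVecF_apply,
      Matrix.mulVec_mulVec, pow_succ]

theorem mulVecF_eq_one {K : Type*} [Field K] [Algebra F K] (A : Matrix (Fin 2) (Fin 2) K)
    (h : mulVecF (F := F) A = 1) : A = 1 := by
  apply Matrix.toLin'.injective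
  rw [Matrix.toLin'_one]
  apply LinearMap.ext
  intro u
  have := LinearMap.congr_fun h u
  rw [mulVecF_apply] at this
  rw [Matrix.toLin'_apply, this]
  rfl

theorem spHas_of_sl2 {K : Type*} [Field K] [Algebra F K] [Finite K] (h : ℕ)
    (hh : Module.finrank F K = h)
    (g : Matrix.SpecialLinearGroup (Fin 2) K) (N : ℕ) (hN : orderOf g = N) : SpHas F h N := by
  classical
  obtain ⟨B, hB⟩ : ∃ B : LinearMap.BilinForm F (Fin 2 → K),
      ∀ u v, B u v = Algebra.trace F K (u 0 * v 1 - u 1 * v 0) := by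
    refine ⟨LinearMap.mk₂ F (fun u v => Algebra.trace F K (u 0 * v 1 - u 1 * v 0)) ?_ ?_ ?_ ?_,
      fun u v => rfl⟩
    · intro u u' v
      rw [← map_add]
      congr 1
      simp only [Pi.add_apply]
      ring
    · intro c u v
      rw [← map_smul]
      congr 1
      simp only [Pi.smul_apply, smul_mul_assoc, smul_sub]
    · intro u v v'
      rw [← map_add]
      congr 1
      simp only [Pi.add_apply]
      ring
    · intro c u v
      rw [← map_smul]
      congr 1
      simp only [Pi.smul_apply, mul_smul_comm, smul_sub]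
  have hdet : (g : Matrix (Fin 2) (Fin 2) K) 0 0 * (g : Matrix (Fin 2) (Fin 2) K) 1 1 -
      (g : Matrix (Fin 2) (Fin 2) K) 0 1 * (g : Matrix (Fin 2) (Fin 2) K) 1 0 = 1 := by
    rw [← Matrix.det_fin_two]
    exact g.2
  apply spHas_of_space B ?_ ?_ h ?_ (mulVecF (F := F) (g : Matrix (Fin 2) (Fin 2) K)) ?_ N ?_ ?_
  · intro u
    rw [hB, mul_comm, sub_self, map_zero]
  · intro u hu
    have hnd := traceForm_nondegenerate F K
    have h0 : u 0 = 0 := by
      apply hnd.1
      intro c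
      have := hu ![0, c]
      rw [hB] at this
      rw [Algebra.traceForm_apply]
      simpa using this
    have h1 : u 1 = 0 := by
      apply hnd.1
      intro c
      have := hu ![c, 0]
      rw [hB] at this
      rw [Algebra.traceForm_apply]
      simpa using this
    funext i
    fin_cases i
    · exact h0
    · exact h1
  · rw [Module.finrank_pi_fintype F, hh]
    simp
  · intro x y
    rw [hB, hB, mulVecF_apply, mulVecF_apply]
    congr 1
    simp only [Matrix.mulVec, dotProduct, Fin.sum_univ_two]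
    linear_combination (x 0 * y 1 - x 1 * y 0) * hdet
  · rw [mulVecF_pow]
    have h1 : (g : Matrix (Fin 2) (Fin 2) K) ^ N = 1 := by
      have h2 : g ^ N = 1 := by rw [← hN]; exact pow_orderOf_eq_one g
      have := congrArg Subtype.val h2
      exact this
    rw [h1]
    apply LinearMap.ext
    intro u
    rw [mulVecF_apply, Matrix.one_mulVec]
    rfl
  · intro j hj
    rw [mulVecF_pow] at hj
    have h1 := mulVecF_eq_one _ hj
    rw [← hN]
    apply orderOf_dvd_of_pow_eq_one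
    apply Subtype.ext
    exact h1

theorem spHas_of_dvd (p : ℕ) [Fact p.Prime] [CharP F p] (h : ℕ) (hh : 0 < h) (N : ℕ)
    (hN : N ∣ Fintype.card F ^ h - 1 ∨ N ∣ Fintype.card F ^ h + 1) : SpHas F h N := by
  haveI : NeZero h := ⟨by omega⟩
  haveI : Fintype (FiniteField.Extension F p h) := Fintype.ofFinite _
  have hcard : Fintype.card (FiniteField.Extension F p h) = Fintype.card F ^ h := by
    rw [← Nat.card_eq_fintype_card, FiniteField.natCard_extension, Nat.card_eq_fintype_card]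
  obtain ⟨g, hg⟩ := exists_sl2_orderOf (K := FiniteField.Extension F p h) N
    (by rw [hcard]; exact hN)
  exact spHas_of_sl2 h (FiniteField.finrank_extension F p h) g N hg

theorem orderOf_card_pos (p : ℕ) [Fact p.Prime] [CharP F p] (r : ℕ) (hr : r.Prime)
    (hrp : r ≠ p) : 0 < orderOf ((Fintype.card F : ℕ) : ZMod r) := by
  haveI := Fact.mk hr
  have h0 : ((Fintype.card F : ℕ) : ZMod r) ≠ 0 := by
    intro h
    rw [ZMod.natCast_eq_zero_iff] at h
    obtain ⟨f, _, hf⟩ := FiniteField.card F p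
    rw [hf] at h
    have h1 := hr.dvd_of_dvd_pow h
    exact hrp ((Nat.prime_dvd_prime_iff_eq hr Fact.out).1 h1)
  rw [orderOf_pos_iff, isOfFinOrder_iff_pow_eq_one]
  exact ⟨r - 1, by have := hr.two_le; omega, ZMod.pow_card_sub_one_eq_one h0⟩

theorem spHas_prime (p : ℕ) [Fact p.Prime] [CharP F p] (r : ℕ) (hr : r.Prime) (hrp : r ≠ p)
    (k ηk : ℕ) (hk : k = orderOf ((Fintype.card F : ℕ) : ZMod r))
    (hηk : (Odd k ∧ ηk = k) ∨ (Even k ∧ 2 * ηk = k)) : SpHas F ηk r := by
  haveI := Fact.mk hr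
  have hq : 2 ≤ Fintype.card F := Fintype.one_lt_card
  have hkpos : 0 < k := by rw [hk]; exact orderOf_card_pos p r hr hrp
  rcases hηk with ⟨_, h1⟩ | ⟨_, h1⟩
  · rw [h1]
    apply spHas_of_dvd p k hkpos r
    left
    rw [dvd_pow_sub_one_iff r _ k (by omega), ← hk]
  · apply spHas_of_dvd p ηk (by omega) r
    right
    exact dvd_pow_half_add_one r (Fintype.card F) k ηk hk h1.symm hkpos

theorem spHas_rs_of_odd_ratio (p : ℕ) [Fact p.Prime] [CharP F p] (r s : ℕ) (hr : r.Prime)
    (hs : s.Prime) (hrp : r ≠ p) (hsp : s ≠ p) (hrs : r ≠ s)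
    (k l ηk ηl : ℕ) (hk : k = orderOf ((Fintype.card F : ℕ) : ZMod r))
    (hl : l = orderOf ((Fintype.card F : ℕ) : ZMod s))
    (hηk : (Odd k ∧ ηk = k) ∨ (Even k ∧ 2 * ηk = k))
    (hηl : (Odd l ∧ ηl = l) ∨ (Even l ∧ 2 * ηl = l))
    (t : ℕ) (ht : Odd t) (hlk : l = k * t) : SpHas F ηl (r * s) := by
  haveI := Fact.mk hr
  haveI := Fact.mk hs
  have hq : 2 ≤ Fintype.card F := Fintype.one_lt_card
  have hkpos : 0 < k := by rw [hk]; exact orderOf_card_pos p r hr hrp
  have hlpos : 0 < l := by rw [hl]; exact orderOf_card_pos p s hs hsp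
  have hcop : Nat.Coprime r s := (Nat.coprime_primes hr hs).2 hrs
  rcases hηl with ⟨_, h1⟩ | ⟨hle, h1⟩
  · rw [h1]
    apply spHas_of_dvd p l hlpos (r * s)
    left
    apply Nat.Coprime.mul_dvd_of_dvd_of_dvd hcop
    · rw [dvd_pow_sub_one_iff r _ l (by omega), ← hk, hlk]
      exact dvd_mul_right k t
    · rw [dvd_pow_sub_one_iff s _ l (by omega), ← hl]
  · have hke : Even k := by
      rw [hlk, Nat.even_mul] at hle
      rcases hle with h | h
      · exact h
      · exact absurd ht (Nat.not_odd_iff_even.2 h)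
    have h2 : 2 * ηk = k := by
      rcases hηk with ⟨h3, _⟩ | ⟨_, h3⟩
      · exact absurd hke (Nat.not_even_iff_odd.2 h3)
      · exact h3
    have h3 : ηl = ηk * t := by
      have : 2 * ηl = 2 * (ηk * t) := by rw [h1, hlk, ← h2]; ring
      omega
    apply spHas_of_dvd p ηl (by omega) (r * s)
    right
    apply Nat.Coprime.mul_dvd_of_dvd_of_dvd hcop
    · rw [h3]
      exact dvd_pow_mul_add_one r _ ηk t ht
        (dvd_pow_half_add_one r (Fintype.card F) k ηk hk h2.symm hkpos)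
    · exact dvd_pow_half_add_one s (Fintype.card F) l ηl hl h1.symm hlpos

end sprsex

end Cfsg.Agent.H41
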