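import Mathlib

set_option autoImplicit false

open scoped Pointwise

namespace Cfsg.Agent.H41

open Matrix

/-- `|SL_2(F)| = q (q^2 - 1)`. -/
theorem card_SL2_eq {F : Type*} [Field F] [Fintype F] :
    Nat.card (Matrix.SpecialLinearGroup (Fin 2) F) = Fintype.card F * (Fintype.card F ^ 2 - 1) := by
  classical
  let d : GL (Fin 2) F →* Fˣ := Matrix.GeneralLinearGroup.det
  have hsurj : Function.Surjective d := Matrix.GeneralLinearGroup.det_surjective
  have hrange : Nat.card d.range = Fintype.card F - 1 := by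
    rw [MonoidHom.range_eq_top.2 hsurj, Subgroup.card_top, Nat.card_eq_fintype_card,
      Fintype.card_units]
  let f : Matrix.SpecialLinearGroup (Fin 2) F → d.ker := fun g =>
    ⟨Matrix.SpecialLinearGroup.toGL g, by
      rw [MonoidHom.mem_ker]
      apply Units.ext
      simp only [d, Matrix.GeneralLinearGroup.val_det_apply]
      exact g.2⟩
  have hf : Function.Bijective f := by
    constructor
    · intro g g' h
      have := congrArg Subtype.val h
      exact Matrix.SpecialLinearGroup.toGL_injective this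
    · rintro ⟨h, hh⟩
      rw [MonoidHom.mem_ker] at hh
      have hdet : h.1.det = 1 := by
        have := congrArg Units.val hh
        simpa [d] using this
      refine ⟨⟨h.1, hdet⟩, ?_⟩
      apply Subtype.ext
      apply Units.ext
      rfl
  have h : Nat.card (Matrix.SpecialLinearGroup (Fin 2) F) * (Fintype.card F - 1) =
      Nat.card (GL (Fin 2) F) := by
    rw [Nat.card_congr (Equiv.ofBijective f hf), ← hrange, ← Subgroup.index_ker,
      Subgroup.card_mul_index]
  rw [Matrix.card_GL_field] at h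
  simp only [Fin.prod_univ_two, Fin.val_zero, Fin.val_one, pow_zero, pow_one] at h
  have hq : 2 ≤ Fintype.card F := Fintype.one_lt_card
  have hq1 : 0 < Fintype.card F - 1 := by omega
  apply Nat.eq_of_mul_eq_mul_right hq1
  rw [h]
  have : Fintype.card F ^ 2 - Fintype.card F = Fintype.card F * (Fintype.card F - 1) := by
    rw [Nat.mul_sub, mul_one, pow_two]
  rw [this]
  ring

variable {G : Type*} [Group G]

theorem centralizer_map_conj (g : G) (H : Subgroup G) :
    Subgroup.centralizer ((H.map (MulAut.conj g).toMonoidHom : Subgroup G) : Set G)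
      = (Subgroup.centralizer (H : Set G)).map (MulAut.conj g).toMonoidHom := by
  ext x
  constructor
  · intro hx
    rw [Subgroup.mem_centralizer_iff] at hx
    refine ⟨g⁻¹ * x * g, ?_, by simp [mul_assoc]⟩
    rw [SetLike.mem_coe, Subgroup.mem_centralizer_iff]
    intro h hh
    have h1 := hx (g * h * g⁻¹) ⟨h, hh, rfl⟩
    calc h * (g⁻¹ * x * g) = g⁻¹ * ((g * h * g⁻¹) * x) * g := by group
      _ = g⁻¹ * (x * (g * h * g⁻¹)) * g := by rw [h1]
      _ = g⁻¹ * x * g * h := by group
  · rintro ⟨y, hy, rfl⟩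
    rw [SetLike.mem_coe, Subgroup.mem_centralizer_iff] at hy
    rw [Subgroup.mem_centralizer_iff]
    rintro k ⟨h, hh, rfl⟩
    have h1 := hy h hh
    show g * h * g⁻¹ * (g * y * g⁻¹) = g * y * g⁻¹ * (g * h * g⁻¹)
    calc g * h * g⁻¹ * (g * y * g⁻¹) = g * (h * y) * g⁻¹ := by group
      _ = g * (y * h) * g⁻¹ := by rw [h1]
      _ = g * y * g⁻¹ * (g * h * g⁻¹) := by group

/-- Sylow `ℓ`-subgroups (`ℓ` odd) of a finite group whose `ℓ`-part is carried by a cyclic
"torus" `T` in which every element other than `1` and a fixed involution `z` has centralizer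
`T`: centralizers are conjugates of `T`, and normalizers are conjugates of the normalizer
of `T`. -/
theorem sylow_in_torus [Finite G] (T : Subgroup G) (hT : IsCyclic T) (ℓ : ℕ) [Fact ℓ.Prime]
    (hℓ2 : ℓ ≠ 2) (z : G) (hzz : z * z = 1)
    (hcent : ∀ a ∈ T, a ≠ 1 → a ≠ z → Subgroup.centralizer ({a} : Set G) = T)
    (hdiv : ℓ ∣ Nat.card T)
    (hfact : (Nat.card G).factorization ℓ = (Nat.card T).factorization ℓ) (P : Sylow ℓ G) :
    Nat.card (Subgroup.centralizer ((P : Subgroup G) : Set G)) = Nat.card T ∧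
    IsCyclic (Subgroup.centralizer ((P : Subgroup G) : Set G)) ∧
    Nat.card (Subgroup.normalizer ((P : Subgroup G) : Set G))
      = Nat.card (Subgroup.normalizer (T : Set G)) := by
  classical
  have hℓ : ℓ.Prime := Fact.out
  have hTcomm : ∀ a ∈ T, ∀ c ∈ T, a * c = c * a := by
    intro a ha c hc
    let _ := IsCyclic.commGroup (α := T)
    have h := mul_comm (⟨a, ha⟩ : T) ⟨c, hc⟩
    exact congrArg Subtype.val h
  obtain ⟨Q⟩ : Nonempty (Sylow ℓ T) := inferInstance
  set P₀ : Subgroup G := (Q : Subgroup T).map T.subtype with hP₀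
  have hP₀T : P₀ ≤ T := Subgroup.map_subtype_le _
  have hcardP₀ : Nat.card P₀ = ℓ ^ (Nat.card G).factorization ℓ := by
    rw [hfact, ← Sylow.card_eq_multiplicity Q]
    exact (Nat.card_congr
      ((Q : Subgroup T).equivMapOfInjective T.subtype T.subtype_injective).toEquiv).symm
  have hQnormal : (Q : Subgroup T).Normal := by
    constructor
    intro n hn g
    have h := hTcomm g g.2 n n.2
    have h' : g * n = n * g := Subtype.ext h
    rw [h', mul_inv_cancel_right]
    exact hn
  have hmemP₀ : ∀ h : G, h ∈ P₀ ↔ h ∈ T ∧ ∃ k : ℕ, h ^ (ℓ ^ k) = 1 := by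
    intro h
    constructor
    · intro hh
      refine ⟨hP₀T hh, ?_⟩
      obtain ⟨⟨h', hT'⟩, hq, rfl⟩ := hh
      obtain ⟨k, hk⟩ := Q.isPGroup' ⟨⟨h', hT'⟩, hq⟩
      refine ⟨k, ?_⟩
      have h1 := congrArg (fun x : (Q : Subgroup T) => ((x : T) : G)) hk
      simpa using h1
    · rintro ⟨hT', k, hk⟩
      refine ⟨⟨h, hT'⟩, ?_, rfl⟩
      have hpow : (⟨h, hT'⟩ : T) ^ (ℓ ^ k) = 1 := Subtype.ext (by simpa using hk)
      have hp : IsPGroup ℓ (Subgroup.zpowers (⟨h, hT'⟩ : T)) := by
        rintro ⟨y, hy⟩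
        obtain ⟨n, rfl⟩ := Subgroup.mem_zpowers_iff.1 hy
        refine ⟨k, ?_⟩
        apply Subtype.ext
        show ((⟨h, hT'⟩ : T) ^ n) ^ (ℓ ^ k) = 1
        rw [← zpow_natCast, ← _root_.zpow_mul, mul_comm, _root_.zpow_mul, zpow_natCast, hpow, _root_.one_zpow]
      obtain ⟨Q', hQ'⟩ := hp.exists_le_sylow
      have := Sylow.unique_of_normal Q hQnormal
      have hQQ : Q' = Q := Subsingleton.elim _ _
      rw [hQQ] at hQ'
      exact hQ' (Subgroup.mem_zpowers _)
  -- the centralizer of P₀ is T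
  have hCP₀ : Subgroup.centralizer ((P₀ : Subgroup G) : Set G) = T := by
    have hpos : 0 < (Nat.card T).factorization ℓ :=
      hℓ.factorization_pos_of_dvd Nat.card_pos.ne' hdiv
    have h1 : 1 < Nat.card P₀ := by
      rw [hcardP₀, hfact]
      exact Nat.one_lt_pow hpos.ne' hℓ.one_lt
    obtain ⟨⟨a, haP⟩, ha1⟩ := (Subgroup.ne_bot_iff_exists_ne_one).1
      ((Subgroup.one_lt_card_iff_ne_bot P₀).1 h1)
    have ha1' : a ≠ 1 := fun h => ha1 (Subtype.ext h)
    obtain ⟨haT, k, hk⟩ := (hmemP₀ a).1 haP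
    have haz : a ≠ z := by
      rintro rfl
      have h2 : orderOf a ∣ 2 := orderOf_dvd_of_pow_eq_one (by rw [pow_two]; exact hzz)
      have h3 : orderOf a ∣ ℓ ^ k := orderOf_dvd_of_pow_eq_one hk
      have hcop : Nat.Coprime 2 (ℓ ^ k) := by
        apply Nat.Coprime.pow_right
        rw [Nat.coprime_primes Nat.prime_two hℓ]
        exact fun h => hℓ2 h.symm
      have h4 : orderOf a = 1 := Nat.eq_one_of_dvd_coprimes hcop h2 h3
      exact ha1' (orderOf_eq_one_iff.1 h4)
    apply le_antisymm
    · rw [← hcent a haT ha1' haz]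
      apply Subgroup.centralizer_le
      intro x hx
      rw [Set.mem_singleton_iff] at hx
      rw [hx]
      exact haP
    · intro t ht
      rw [Subgroup.mem_centralizer_iff]
      intro h hh
      exact hTcomm h (hP₀T hh) t ht
  -- the normalizer of P₀ is the normalizer of T
  have hNP₀ : Subgroup.normalizer ((P₀ : Subgroup G) : Set G) = Subgroup.normalizer (T : Set G) := by
    ext g
    rw [Subgroup.mem_normalizer_iff, Subgroup.mem_normalizer_iff]
    constructor
    · intro hg t
      have hg' : ∀ h, h ∈ P₀ → g⁻¹ * h * g ∈ P₀ := by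
        intro h hh
        rw [hg (g⁻¹ * h * g)]
        have e : g * (g⁻¹ * h * g) * g⁻¹ = h := by group
        rw [e]; exact hh
      rw [← hCP₀, Subgroup.mem_centralizer_iff, Subgroup.mem_centralizer_iff]
      constructor
      · intro ht h hh
        have h1 := ht (g⁻¹ * h * g) (hg' h hh)
        calc h * (g * t * g⁻¹) = g * ((g⁻¹ * h * g) * t) * g⁻¹ := by group
          _ = g * (t * (g⁻¹ * h * g)) * g⁻¹ := by rw [h1]
          _ = g * t * g⁻¹ * h := by group
      · intro ht h hh
        have h1 := ht (g * h * g⁻¹) ((hg h).1 hh)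
        calc h * t = g⁻¹ * ((g * h * g⁻¹) * (g * t * g⁻¹)) * g := by group
          _ = g⁻¹ * ((g * t * g⁻¹) * (g * h * g⁻¹)) * g := by rw [h1]
          _ = t * h := by group
    · intro hg h
      rw [hmemP₀, hmemP₀, ← hg h]
      constructor
      · rintro ⟨hT', k, hk⟩
        refine ⟨hT', k, ?_⟩
        rw [conj_pow, hk]; group
      · rintro ⟨hT', k, hk⟩
        refine ⟨hT', k, ?_⟩
        rw [conj_pow] at hk
        have : h ^ (ℓ ^ k) = g⁻¹ * (g * h ^ ℓ ^ k * g⁻¹) * g := by group
        rw [this, hk]; group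
  -- transfer by conjugation
  obtain ⟨g, hg⟩ := MulAction.exists_smul_eq G (Sylow.ofCard P₀ hcardP₀) P
  have hP : (P : Subgroup G) = P₀.map (MulAut.conj g).toMonoidHom := by
    rw [← hg, Sylow.coe_subgroup_smul, Sylow.coe_ofCard]
    rfl
  have hinj : Function.Injective (MulAut.conj g).toMonoidHom := (MulAut.conj g).injective
  rw [hP, centralizer_map_conj, hCP₀, ← Subgroup.map_equiv_normalizer_eq, hNP₀]
  refine ⟨(Nat.card_congr (T.equivMapOfInjective _ hinj).toEquiv).symm, ?_,
    (Nat.card_congr ((Subgroup.normalizer (T : Set G)).equivMapOfInjective _ hinj).toEquiv).symm⟩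
  exact isCyclic_of_surjective (T.equivMapOfInjective _ hinj) (T.equivMapOfInjective _ hinj).surjective

end Cfsg.Agent.H41
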